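import Cfsg.Agent.Lib.LinearThreeFourType.Setting
import Cfsg.Agent.Lib.NormalComplements.Gaschutz
import Mathlib.GroupTheory.SchurZassenhaus
import Mathlib.LinearAlgebra.Matrix.GeneralLinearGroup.Defs
import Mathlib.FieldTheory.Finite.Basic

/-!
Groups of the type of `PSL₃(4)` in which one of the elementary abelian subgroups of order 16 is normal
embed in the point stabiliser of `PGL₃(4)`: the conjugates of the centre form the five lines of a spread
of `B`, so conjugation is semilinear for the field of order 4, hence linear.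
-/

set_option autoImplicit false
set_option linter.unusedSectionVars false
set_option linter.style.haveILetI false

namespace CfsgLib.LinearThreeFourType

open Subgroup Cfsg CfsgLib.AEightThreeClasses

universe u

variable {G : Type u} [Group G]

namespace Affine

/-! ### The field of order four -/

section Field

variable {K : Type*} [Field K] [Fintype K]

theorem two_eq_zero (hK : Fintype.card K = 4) : (2 : K) = 0 := by
  have h := FiniteField.pow_card (-1 : K)
  rw [hK] at h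
  linear_combination h

theorem exists_omega (hK : Fintype.card K = 4) :
    ∃ w : K, w * w + w + 1 = 0 ∧ ∀ x : K, x = 0 ∨ x = 1 ∨ x = w ∨ x = w + 1 := by
  classical
  obtain ⟨w, hw⟩ : ∃ w : K, w ∉ ({0, 1} : Finset K) := by
    by_contra! h
    have := (Finset.card_le_card (fun x _ => h x : (Finset.univ : Finset K) ⊆ {0, 1})).trans
      Finset.card_le_two
    rw [Finset.card_univ, hK] at this
    omega
  simp only [Finset.mem_insert, Finset.mem_singleton, not_or] at hw
  have h3 : w ^ 3 = 1 := by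
    have h := FiniteField.pow_card_sub_one_eq_one w hw.1
    rwa [hK] at h
  have hq : w * w + w + 1 = 0 := by
    have h : (w - 1) * (w * w + w + 1) = 0 := by linear_combination h3
    exact (mul_eq_zero.1 h).resolve_left (sub_ne_zero.2 hw.2)
  refine ⟨w, hq, fun x => ?_⟩
  have h2 := two_eq_zero hK
  have huniv : ({0, 1, w, w + 1} : Finset K) = Finset.univ := by
    refine Finset.eq_univ_of_card _ ?_
    rw [hK, Finset.card_insert_of_notMem, Finset.card_insert_of_notMem, Finset.card_insert_of_notMem,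
      Finset.card_singleton]
    · simp only [Finset.mem_singleton]
      intro e; exact one_ne_zero (by linear_combination -e)
    · simp only [Finset.mem_insert, Finset.mem_singleton, not_or]
      exact ⟨fun e => hw.2 e.symm, fun e => hw.1 (by linear_combination -e)⟩
    · simp only [Finset.mem_insert, Finset.mem_singleton, not_or]
      exact ⟨zero_ne_one, fun e => hw.1 e.symm, fun e => hw.2 (by linear_combination -e - h2)⟩
  have := Finset.mem_univ x
  rw [← huniv] at this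
  simpa using this

variable {M : Type*} [Group M] {w : K}

open Classical in
/-- The map sending `c + d w` to `x ^ c * y ^ d`. -/
noncomputable def four (w : K) (x y : M) (t : K) : M :=
  if t = 0 then 1 else if t = 1 then x else if t = w then y else x * y

theorem four_zero (x y : M) : four w x y 0 = 1 := by simp [four]

theorem four_one (x y : M) : four w x y 1 = x := by simp [four]

theorem omega_ne (hw : w * w + w + 1 = 0) : w ≠ 0 ∧ w + 1 ≠ 0 := by
  refine ⟨fun h => ?_, fun h => ?_⟩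
  · rw [h] at hw; simp at hw
  · have : (1 : K) = 0 := by linear_combination hw - w * h
    exact one_ne_zero this

theorem omega_ne_one (h2 : (2 : K) = 0) (hw : w * w + w + 1 = 0) : w ≠ 1 := fun h => by
  subst h
  exact one_ne_zero (by linear_combination hw - h2 : (1 : K) = 0)

theorem four_omega (h2 : (2 : K) = 0) (hw : w * w + w + 1 = 0) (x y : M) : four w x y w = y := by
  simp [four, (omega_ne hw).1, omega_ne_one h2 hw]

theorem four_omega_add_one (hw : w * w + w + 1 = 0) (x y : M) : four w x y (w + 1) = x * y := by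
  have h1 : w + 1 ≠ 1 := fun h => (omega_ne hw).1 (by linear_combination h)
  have h2 : w + 1 ≠ w := fun h => one_ne_zero (by linear_combination h : (1 : K) = 0)
  simp [four, (omega_ne hw).2, h1, h2]

theorem four_add (h2 : (2 : K) = 0) (hw : w * w + w + 1 = 0)
    (hall : ∀ t : K, t = 0 ∨ t = 1 ∨ t = w ∨ t = w + 1) {x y : M} (hx : x * x = 1) (hy : y * y = 1)
    (hc : x * y = y * x) (s t : K) : four w x y (s + t) = four w x y s * four w x y t := by
  have e1 : (1 : K) + 1 = 0 := by linear_combination h2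
  have e2 : w + w = 0 := by linear_combination w * h2
  have e3 : (1 : K) + w = w + 1 := add_comm _ _
  have e4 : 1 + (w + 1) = w := by linear_combination h2
  have e5 : w + (w + 1) = 1 := by linear_combination w * h2
  have e6 : w + 1 + 1 = w := by linear_combination h2
  have e7 : w + 1 + w = 1 := by linear_combination w * h2
  have e8 : w + 1 + (w + 1) = 0 := by linear_combination (w + 1) * h2
  have m1 : x * (x * y) = y := by rw [← mul_assoc, hx, one_mul]
  have m2 : y * (x * y) = x := by rw [hc, ← mul_assoc, hy, one_mul]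
  have m3 : x * y * x = y := by rw [hc, mul_assoc, hx, mul_one]
  have m4 : x * y * y = x := by rw [mul_assoc, hy, mul_one]
  have m5 : x * y * (x * y) = 1 := by rw [mul_assoc, m2, hx]
  rcases hall s with rfl | rfl | rfl | rfl <;> rcases hall t with rfl | rfl | rfl | rfl <;>
    simp only [zero_add, add_zero, e1, e2, e3, e4, e5, e6, e7, e8, four_zero, four_one,
      four_omega h2 hw, four_omega_add_one hw, one_mul, mul_one, m1, m2, m3, m4, m5, hx, hy, ← hc]

theorem four_mem {H : Subgroup M} {x y : M} (hx : x ∈ H) (hy : y ∈ H) (t : K) :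
    four w x y t ∈ H := by
  unfold four
  split_ifs
  exacts [H.one_mem, hx, hy, H.mul_mem hx hy]

theorem four_eq_one (hall : ∀ t : K, t = 0 ∨ t = 1 ∨ t = w ∨ t = w + 1) (h2 : (2 : K) = 0)
    (hw : w * w + w + 1 = 0) {x y : M} (hx : x ≠ 1) (hy : y ≠ 1) (hxy : x * y ≠ 1) {t : K}
    (h : four w x y t = 1) : t = 0 := by
  rcases hall t with rfl | rfl | rfl | rfl
  · rfl
  · exact absurd h (by rwa [four_one])
  · exact absurd h (by rwa [four_omega h2 hw])
  · exact absurd h (by rwa [four_omega_add_one hw])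

/-- Additive maps agreeing at `1` and `w` are equal. -/
theorem add_ext (hall : ∀ t : K, t = 0 ∨ t = 1 ∨ t = w ∨ t = w + 1) {f g : K → M}
    (hf : ∀ s t, f (s + t) = f s * f t) (hg : ∀ s t, g (s + t) = g s * g t) (h1 : f 1 = g 1)
    (hwq : f w = g w) (t : K) : f t = g t := by
  rcases hall t with rfl | rfl | rfl | rfl
  · have a := hf 0 0
    have b := hg 0 0
    rw [add_zero, left_eq_mul] at a b
    rw [a, b]
  · exact h1
  · exact hwq
  · rw [hf, hg, h1, hwq]

/-- An additive bijection of the plane mapping multiples to multiples is semilinear. -/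
theorem semilinear (h2 : (2 : K) = 0) (hall : ∀ t : K, t = 0 ∨ t = 1 ∨ t = w ∨ t = w + 1)
    (hw : w * w + w + 1 = 0) {f : K × K → K × K} (hf : Function.Bijective f)
    (hadd : ∀ p q, f (p + q) = f p + f q) (hl : ∀ (c : K) p, ∃ d : K, f (c • p) = d • f p) :
    (∀ (c : K) p, f (c • p) = c • f p) ∨ (∀ (c : K) p, f (c • p) = (c * c) • f p) := by
  have h0 : f 0 = 0 := by simpa using hadd 0 0
  obtain ⟨e1, he1⟩ : ∃ e : K × K, e = (1, 0) := ⟨_, rfl⟩
  obtain ⟨e2, he2⟩ : ∃ e : K × K, e = (0, 1) := ⟨_, rfl⟩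
  choose d hd using hl
  have hdec : ∀ p : K × K, p = p.1 • e1 + p.2 • e2 := fun p => by simp [he1, he2, Prod.ext_iff]
  have hind : ∀ a b : K, a • f e1 + b • f e2 = 0 → a = 0 ∧ b = 0 := by
    intro a b hab
    have hzero : ∀ {p : K × K}, f p = 0 → p = 0 := fun h => hf.1 (h.trans h0.symm)
    by_cases hb : b = 0
    · refine ⟨?_, hb⟩
      rw [hb, zero_smul, add_zero] at hab
      rcases smul_eq_zero.1 hab with h | h
      · exact h
      · exact absurd (hzero h) (by simp [he1, Prod.ext_iff])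
    · exfalso
      have hinj : Function.Injective fun c : K => d c e1 := fun c c' h => by
        have h' : f (c • e1) = f (c' • e1) := by rw [hd, hd]; exact congrArg (· • f e1) h
        have := congrArg Prod.fst (hf.1 h')
        simpa [he1] using this
      obtain ⟨c, hc⟩ := (Finite.injective_iff_surjective.1 hinj) (-b⁻¹ * a)
      have h2 : f e2 = f (c • e1) := by
        rw [hd, show d c e1 = -b⁻¹ * a from hc]
        have h3 : b • f e2 = -(a • f e1) := eq_neg_of_add_eq_zero_right hab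
        have := congrArg (b⁻¹ • ·) h3
        simp only [smul_smul, inv_mul_cancel₀ hb, one_smul, smul_neg] at this
        rw [this, ← neg_smul, neg_mul]
      have := congrArg Prod.snd (hf.1 h2)
      simp [he1, he2] at this
  have huni : ∀ a b a' b' : K, a • f e1 + b • f e2 = a' • f e1 + b' • f e2 → a = a' ∧ b = b' := by
    intro a b a' b' h
    have := hind (a - a') (b - b') (by rw [sub_smul, sub_smul]; linear_combination (norm := module) h)
    exact ⟨sub_eq_zero.1 this.1, sub_eq_zero.1 this.2⟩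
  obtain ⟨s, hs⟩ : ∃ s : K → K, s = fun c => d c e1 := ⟨_, rfl⟩
  have hs1 : ∀ c, f (c • e1) = s c • f e1 := fun c => by rw [hd, hs]
  have hsum : ∀ a b, f (a • e1 + b • e2) = s a • f e1 + d b e2 • f e2 := fun a b => by rw [hadd, hs1, hd]
  have hs2 : ∀ c, d c e2 = s c := fun c => by
    have h := hd c ((1 : K) • e1 + (1 : K) • e2)
    rw [smul_add, smul_smul, smul_smul, mul_one, hsum, one_smul, one_smul, hadd, smul_add] at h
    obtain ⟨h1, h2⟩ := huni _ _ _ _ h
    rw [h2, ← h1]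
  have hsone : s 1 = 1 := by
    have h : (1 : K) • f e1 + (0 : K) • f e2 = s 1 • f e1 + (0 : K) • f e2 := by
      simp [← hs1]
    exact (huni _ _ _ _ h).1.symm
  have hsadd : ∀ a b, s (a + b) = s a + s b := fun a b => by
    have h : s (a + b) • f e1 + (0 : K) • f e2 = (s a + s b) • f e1 + (0 : K) • f e2 := by
      rw [← hs1, add_smul, add_smul, hadd, hs1, hs1]
    exact (huni _ _ _ _ h).1
  have hsmul : ∀ c m, s (c * m) = s c * s m := fun c m => by
    have h := hd c ((1 : K) • e1 + m • e2)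
    rw [smul_add, smul_smul, smul_smul, mul_one, hsum, hsum, hs2, hs2, hsone, smul_add, smul_smul,
      smul_smul, mul_one] at h
    obtain ⟨h1, h2⟩ := huni _ _ _ _ h
    rw [h2, ← h1]
  have hfp : ∀ (c : K) p, f (c • p) = s c • f p := fun c p => by
    rw [hdec p, smul_add, smul_smul, smul_smul, hsum, hsum, hs2, hs2, hsmul, hsmul, smul_add,
      smul_smul, smul_smul]
  let σ : K →+* K :=
    { toFun := s, map_one' := hsone, map_mul' := hsmul, map_add' := hsadd,
      map_zero' := by have := hsadd 0 0; simpa using this }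
  have hroot : (s w - w) * (s w + w + 1) = 0 := by
    have h : σ w * σ w + σ w + 1 = 0 := by rw [← map_mul, ← map_add, ← map_one σ, ← map_add, hw, map_zero]
    have h' : s w * s w + s w + 1 = 0 := h
    linear_combination h' - hw
  rcases mul_eq_zero.1 hroot with h | h
  · have hsid : ∀ t, s t = t := fun t => by
      rcases hall t with rfl | rfl | rfl | rfl
      · exact σ.map_zero
      · exact hsone
      · exact sub_eq_zero.1 h
      · rw [hsadd, hsone, sub_eq_zero.1 h]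
    exact Or.inl fun c p => by rw [hfp, hsid]
  · have hsw : s w = w * w := by linear_combination h - hw
    have hsid : ∀ t, s t = t * t := fun t => by
      rcases hall t with rfl | rfl | rfl | rfl
      · rw [mul_zero]; exact σ.map_zero
      · rw [mul_one]; exact hsone
      · exact hsw
      · rw [hsadd, hsone, hsw]
        linear_combination -w * h2
    exact Or.inr fun c p => by rw [hfp, hsid]

end Field

/-! ### Subgroups of order four -/

theorem inj_four {x y : G} (hx : x ≠ 1) (hy : y ≠ 1) (hxy : x ≠ y) (hp : x * y ≠ 1) :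
    Function.Injective ![(1 : G), x, y, x * y] := by
  intro i j h
  fin_cases i <;> fin_cases j <;>
    simp [hx, hy, hxy, hp, hx.symm, hy.symm, hxy.symm, hp.symm] at h ⊢

theorem four_cases [Finite G] {H : Subgroup G} (hH : Nat.card ↥H = 4) {x y : G} (hxH : x ∈ H) (hyH : y ∈ H)
    (hx : x ≠ 1) (hy : y ≠ 1) (hxy : x ≠ y) (hp : x * y ≠ 1) {z : G} (hz : z ∈ H) :
    z = 1 ∨ z = x ∨ z = y ∨ z = x * y := by
  have hmem : ∀ i, ![(1 : G), x, y, x * y] i ∈ H := fun i => by
    fin_cases i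
    exacts [H.one_mem, hxH, hyH, H.mul_mem hxH hyH]
  obtain ⟨i, hi⟩ := ((Nat.bijective_iff_injective_and_card (fun i : Fin 4 => (⟨_, hmem i⟩ : H))).2
    ⟨fun i j h => inj_four hx hy hxy hp (congrArg Subtype.val h), by rw [Nat.card_fin, hH]⟩).2 ⟨z, hz⟩
  have hi' : ![(1 : G), x, y, x * y] i = z := congrArg Subtype.val hi
  subst hi'
  fin_cases i <;> simp

theorem exists_ne_of_card_four [Finite G] {H : Subgroup G} (hH : Nat.card ↥H = 4) (x : G) :
    ∃ z ∈ H, z ≠ 1 ∧ z ≠ x := by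
  by_contra! h
  haveI := Fintype.ofFinite ↥H
  classical
  obtain ⟨a, b, c, hab, hac, hbc⟩ := Fintype.two_lt_card_iff.1
    (by rw [← Nat.card_eq_fintype_card, hH]; norm_num : 2 < Fintype.card ↥H)
  have hcase : ∀ d : ↥H, (d : G) = 1 ∨ (d : G) = x := fun d => or_iff_not_imp_left.2 (h d d.2)
  rcases hcase a with ha | ha <;> rcases hcase b with hb | hb <;> rcases hcase c with hc | hc <;>
    first
      | exact hab (Subtype.ext (ha.trans hb.symm))
      | exact hac (Subtype.ext (ha.trans hc.symm))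
      | exact hbc (Subtype.ext (hb.trans hc.symm))

/-! ### Commutators of `A` with `B` -/

variable (F : Frame G)

/-- The commutator of two elements. -/
def k (a b : G) : G := a * b * a⁻¹ * b⁻¹

theorem k_mul_left {a a' b : G} (ha : a ∈ F.A) (ha' : a' ∈ F.A) (hb : b ∈ F.B) :
    k (a * a') b = k a b * k a' b := by
  have hc : a * k a' b = k a' b * a := F.central _ (F.commutator_mem ha' hb) a (F.A_le ha)
  calc k (a * a') b = a * k a' b * (b * a⁻¹ * b⁻¹) := by rw [k, k]; group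
    _ = k a' b * k a b := by rw [hc, k, k]; group
    _ = k a b * k a' b := F.A_comm (F.commutator_mem ha' hb).1 (F.commutator_mem ha hb).1

theorem k_mul_right {a b b' : G} (ha : a ∈ F.A) (hb : b ∈ F.B) (hb' : b' ∈ F.B) :
    k a (b * b') = k a b * k a b' := by
  have hc : b⁻¹ * k a b' = k a b' * b⁻¹ :=
    F.B_comm (F.B.inv_mem hb) (F.commutator_mem ha hb').2
  calc k a (b * b') = a * b * a⁻¹ * (k a b' * b⁻¹) := by rw [k, k]; group
    _ = k a b * k a b' := by rw [← hc, k, k]; group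

theorem k_eq_one_iff {a b : G} : k a b = 1 ↔ a * b = b * a := by
  rw [k, mul_inv_eq_one, mul_inv_eq_iff_eq_mul]

theorem A_ne_B : F.A ≠ F.B := fun h => by
  have := F.card_Z
  rw [h, inf_idem, F.card_B] at this
  norm_num at this

theorem exists_k_left [Finite G] {b z : G} (hb : b ∈ F.B) (hbA : b ∉ F.A) (hz : z ∈ F.A ⊓ F.B) :
    ∃ a ∈ F.A, k a b = z := by
  classical
  let f : ↥F.A →* ↥(F.A ⊓ F.B) := MonoidHom.mk' (fun a => ⟨k (a : G) b, F.commutator_mem a.2 hb⟩)
    fun a a' => Subtype.ext (k_mul_left F a.2 a'.2 hb)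
  have hker : f.ker ≤ F.B.subgroupOf F.A := fun a ha => by
    have h : k (a : G) b = 1 := congrArg Subtype.val ha
    exact F.cent_B b hb hbA a (F.A_le a.2) (k_eq_one_iff.1 h)
  have h1 := Subgroup.card_le_of_le hker
  have h2 : Nat.card ↥(F.B.subgroupOf F.A) = 4 := by
    rw [← inf_subgroupOf_right, Nat.card_congr (subgroupOfEquivOfLe inf_le_right).toEquiv, inf_comm,
      F.card_Z]
  have h3 := f.ker.card_mul_index
  rw [Subgroup.index_ker, F.card_A] at h3
  have h4 : Nat.card f.range ≤ 4 := by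
    rw [← F.card_Z]; exact Subgroup.card_le_card_group _
  have h5 : f.range = ⊤ := Subgroup.eq_top_of_le_card _ (by rw [F.card_Z]; nlinarith)
  obtain ⟨a, ha⟩ : (⟨z, hz⟩ : ↥(F.A ⊓ F.B)) ∈ f.range := h5 ▸ mem_top _
  exact ⟨a, a.2, congrArg Subtype.val ha⟩

theorem exists_k_right [Finite G] {a z : G} (ha : a ∈ F.A) (haB : a ∉ F.B) (hz : z ∈ F.A ⊓ F.B) :
    ∃ b ∈ F.B, k a b = z := by
  obtain ⟨b, hb, h⟩ := exists_k_left F.symm (b := a) ha haB
    (show z⁻¹ ∈ F.B ⊓ F.A from inv_mem ⟨hz.2, hz.1⟩)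
  refine ⟨b, hb, ?_⟩
  have := congrArg (·⁻¹) h
  simp only [k, inv_inv] at this
  rw [← this, k]
  group

/-! ### Structure of the normaliser of `Z` -/

variable [Finite G]

theorem mem_two_group {x : G} {n : ℕ} (hx : x ^ (2 ^ n) = 1) (hn : x ∈ normalizer ((F.S : Subgroup G) : Set G)) :
    x ∈ (F.S : Subgroup G) := by
  have hP : IsPGroup 2 (zpowers x) := by
    rintro ⟨y, hy⟩
    obtain ⟨j, rfl⟩ := mem_zpowers_iff.1 hy
    refine ⟨n, Subtype.ext ?_⟩
    change (x ^ j) ^ 2 ^ n = 1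
    rw [← zpow_natCast, ← zpow_mul, mul_comm, zpow_mul, zpow_natCast, hx, one_zpow]
  have h := hP.inf_normalizer_sylow F.S
  have hx' : x ∈ zpowers x ⊓ normalizer ((F.S : Subgroup G) : Set G) := ⟨mem_zpowers x, hn⟩
  exact (h ▸ hx' : x ∈ zpowers x ⊓ (F.S : Subgroup G)).2

theorem mem_B_of_centralizes (hBn : F.B.Normal) {P : Subgroup G} (hP : IsPGroup 2 P)
    (hC : P ≤ centralizer (F.B : Set G)) : P ≤ F.B := by
  obtain ⟨Q, hQ⟩ := hP.exists_le_sylow
  obtain ⟨g, hg⟩ := MulAction.exists_smul_eq G F.S Q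
  intro x hx
  have hxQ : x ∈ (Q : Subgroup G) := hQ hx
  rw [← hg, Sylow.coe_subgroup_smul, Subgroup.mem_pointwise_smul_iff_inv_smul_mem] at hxQ
  have hxS : g⁻¹ * x * g ∈ (F.S : Subgroup G) := by simpa [MulAut.smul_def] using hxQ
  obtain ⟨b, hb, hbA⟩ : ∃ b ∈ F.B, b ∉ F.A := SetLike.not_le_iff_exists.1 fun h =>
    A_ne_B F (eq_of_le_of_card_ge h (by rw [F.card_A, F.card_B])).symm
  have hc := mem_centralizer_iff.1 (hC hx) (g * b * g⁻¹) (hBn.conj_mem b hb g)
  have : g⁻¹ * x * g ∈ F.B := F.cent_B b hb hbA _ hxS (by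
    have := congrArg (fun t => g⁻¹ * t * g) hc
    simp only [mul_assoc, inv_mul_cancel_left] at this ⊢
    simpa [mul_assoc] using this.symm)
  simpa [mul_assoc] using hBn.conj_mem _ this g

theorem centralizer_B (hO : oddCore G = ⊥) (hBn : F.B.Normal) : centralizer (F.B : Set G) = F.B := by
  classical
  haveI := hBn
  set C := centralizer (F.B : Set G) with hCdef
  have hBC : F.B ≤ C := fun x hx => mem_centralizer_iff.2 fun y hy => F.B_comm hy hx
  obtain ⟨P⟩ : Nonempty (Sylow 2 C) := inferInstance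
  have hP : (P : Subgroup C).map C.subtype ≤ F.B :=
    mem_B_of_centralizes F hBn (P.2.map _) (map_subtype_le _)
  have hB2 : IsPGroup 2 (F.B.subgroupOf C) := by
    refine IsPGroup.of_equiv ?_ (subgroupOfEquivOfLe hBC).symm
    exact IsPGroup.of_card (n := 4) (by rw [F.card_B]; norm_num)
  have hPB : F.B.subgroupOf C = (P : Subgroup C) :=
    P.3 hB2 fun x hx => mem_subgroupOf.2 (hP ⟨x, hx, rfl⟩)
  have hcop : (Nat.card (F.B.subgroupOf C)).Coprime (F.B.subgroupOf C).index := by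
    rw [Nat.card_congr (subgroupOfEquivOfLe hBC).toEquiv, F.card_B, hPB,
      show 16 = 2 ^ 4 by norm_num, Nat.coprime_pow_left_iff (by norm_num)]
    exact (Nat.prime_two.coprime_iff_not_dvd).2 P.not_dvd_index
  obtain ⟨O, hO'⟩ := Subgroup.exists_left_complement'_of_coprime hcop
  have hOodd : Odd (Nat.card O) := by
    have hi : (F.B.subgroupOf C).index = Nat.card O := hO'.index_eq_card
    rw [← hi, hPB, Nat.odd_iff, ← Nat.two_dvd_ne_zero]
    exact P.not_dvd_index
  have hnorm : (O.map C.subtype).Normal := by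
    refine ⟨fun o ho g => ?_⟩
    obtain ⟨o, ho, rfl⟩ := ho
    have hgC : g * (o : G) * g⁻¹ ∈ C := (inferInstance : C.Normal).conj_mem _ o.2 g
    obtain ⟨⟨⟨o', ho'⟩, ⟨b, hb⟩⟩, hob⟩ := hO'.2 ⟨_, hgC⟩
    have hob' : o' * b = ⟨g * (o : G) * g⁻¹, hgC⟩ := hob
    have hm : (o' * b) ^ Nat.card O = 1 := by
      refine Subtype.ext ?_
      rw [hob', SubgroupClass.coe_pow, conj_pow, ← SubgroupClass.coe_pow]
      have : o ^ Nat.card O = 1 := congrArg Subtype.val (pow_card_eq_one' (x := (⟨o, ho⟩ : O)))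
      simp [this]
    have hcomm : Commute o' b :=
      Subtype.ext ((mem_centralizer_iff.1 o'.2 (b : G) (mem_subgroupOf.1 hb)).symm)
    rw [hcomm.mul_pow, show o' ^ Nat.card O = 1 from
      congrArg Subtype.val (pow_card_eq_one' (x := (⟨o', ho'⟩ : O))), one_mul] at hm
    have hb2 : (b : G) * b = 1 := F.B_sq (mem_subgroupOf.1 hb)
    obtain ⟨j, hj⟩ := hOodd
    have hb1 : b = 1 := by
      rw [hj, pow_succ, pow_mul, show b ^ 2 = 1 by rw [pow_two]; exact Subtype.ext hb2, one_pow,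
        one_mul] at hm
      exact hm
    rw [hb1, mul_one] at hob'
    exact ⟨o', ho', congrArg Subtype.val hob'⟩
  have hle : O.map C.subtype ≤ ⊥ := hO ▸ CfsgLib.Cores.le_oddCore
    (by rwa [card_map_of_injective C.subtype_injective])
  have hO1 : O = ⊥ := (map_eq_bot_iff_of_injective _ C.subtype_injective).1 (le_bot_iff.1 hle)
  rw [hO1] at hO'
  have := Subgroup.isComplement'_bot_left.1 hO'
  exact le_antisymm (subgroupOf_eq_top.1 this) hBC

/-- The elements fixing `Z` and `B/Z` pointwise. -/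
def stab : Subgroup G where
  carrier := {g | (∀ z ∈ F.A ⊓ F.B, g * z = z * g) ∧ ∀ b ∈ F.B, k g b ∈ F.A ⊓ F.B}
  one_mem' := ⟨fun z _ => by simp, fun b _ => by simp [k]⟩
  mul_mem' := fun {g h} hg hh => ⟨fun z hz => by rw [mul_assoc, hh.1 z hz, ← mul_assoc, hg.1 z hz, mul_assoc],
    fun b hb => by
      have h1 := hg.1 _ (hh.2 b hb)
      have : k (g * h) b = k h b * k g b := by
        calc k (g * h) b = g * k h b * (b * g⁻¹ * b⁻¹) := by rw [k, k]; group
          _ = _ := by rw [h1, k, k]; group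
      rw [this]
      exact mul_mem (hh.2 b hb) (hg.2 b hb)⟩
  inv_mem' := fun {g} hg => ⟨fun z hz => by
      have := hg.1 z hz
      rw [eq_mul_inv_iff_mul_eq, mul_assoc, ← this, inv_mul_cancel_left],
    fun b hb => by
      have h0 := hg.2 b hb
      have h1 := hg.1 _ h0
      have : k g⁻¹ b = (k g b)⁻¹ := by
        have h2 : g⁻¹ * k g b = k g b * g⁻¹ := by
          rw [eq_mul_inv_iff_mul_eq, mul_assoc, ← h1, inv_mul_cancel_left]
        calc k g⁻¹ b = (g⁻¹ * k g b * g)⁻¹ := by rw [k, k]; group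
          _ = _ := by rw [h2, inv_mul_cancel_right]
      rw [this]
      exact inv_mem h0⟩

theorem stab_eq (hC : centralizer (F.B : Set G) = F.B) : stab F = (F.S : Subgroup G) := by
  refine F.S.3 (fun ⟨g, hg⟩ => ⟨2, Subtype.ext ?_⟩) ?_
  · have hmem : g * g ∈ F.B := by
      rw [← hC, mem_centralizer_iff]
      intro b hb
      have hz := hg.2 b hb
      have hzz : k g b * k g b = 1 := F.A_sq hz.1
      have e1 : g * b = k g b * b * g := by rw [k]; group
      symm
      calc g * g * b = g * (k g b * b * g) := by rw [mul_assoc, e1]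
        _ = k g b * (g * b) * g := by rw [← mul_assoc, ← mul_assoc, hg.1 _ hz]; group
        _ = b * (g * g) := by rw [e1, ← mul_assoc, ← mul_assoc, hzz, one_mul, mul_assoc]
    change g ^ 2 ^ 2 = 1
    rw [show 2 ^ 2 = 2 * 2 by norm_num, pow_mul, pow_two g, pow_two]
    exact F.B_sq hmem
  · rw [← F.sup_eq, sup_le_iff]
    exact ⟨fun a ha => ⟨fun z hz => F.central z hz a (F.A_le ha), fun b hb => F.commutator_mem ha hb⟩,
      fun a ha => ⟨fun z hz => F.B_comm ha hz.2, fun b hb => by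
        rw [show k a b = 1 from k_eq_one_iff.2 (F.B_comm ha hb)]; exact one_mem _⟩⟩

theorem conj_mem_S (hC : centralizer (F.B : Set G) = F.B) (hBn : F.B.Normal) {g s : G}
    (hg : g ∈ normalizer ((F.A ⊓ F.B : Subgroup G) : Set G)) (hs : s ∈ (F.S : Subgroup G)) :
    g * s * g⁻¹ ∈ (F.S : Subgroup G) := by
  rw [← stab_eq F hC] at hs ⊢
  have hg' := inv_mem hg
  refine ⟨fun z hz => ?_, fun b hb => ?_⟩
  · have h := hs.1 _ ((mem_normalizer_iff.1 hg' z).1 hz)
    rw [inv_inv] at h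
    calc g * s * g⁻¹ * z = g * (s * (g⁻¹ * z * g)) * g⁻¹ := by group
      _ = _ := by rw [h]; group
  · have h := (mem_normalizer_iff.1 hg _).1 (hs.2 _ (hBn.conj_mem b hb g⁻¹))
    have : k (g * s * g⁻¹) b = g * k s (g⁻¹ * b * g⁻¹⁻¹) * g⁻¹ := by rw [k, k]; group
    exact this ▸ h

theorem normalizer_S (hC : centralizer (F.B : Set G) = F.B) (hBn : F.B.Normal) :
    normalizer ((F.A ⊓ F.B : Subgroup G) : Set G) ≤ normalizer ((F.S : Subgroup G) : Set G) := by
  intro g hg
  refine mem_normalizer_iff.2 fun s => ⟨conj_mem_S F hC hBn hg, fun h => ?_⟩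
  have := conj_mem_S F hC hBn (inv_mem hg) h
  simpa [mul_assoc] using this

theorem disjoint_conj (hC : centralizer (F.B : Set G) = F.B) (hBn : F.B.Normal) {g z : G}
    (hz1 : z ≠ 1) (hz : z ∈ F.A ⊓ F.B) (hgz : g⁻¹ * z * g ∈ F.A ⊓ F.B) :
    g ∈ normalizer ((F.A ⊓ F.B : Subgroup G) : Set G) := by
  classical
  by_contra hg
  obtain ⟨y, hy, hyZ⟩ : ∃ y ∈ F.A ⊓ F.B, g⁻¹ * y * g ∉ F.A ⊓ F.B := by
    by_contra! h
    refine hg (inv_mem_iff.1 ?_)
    have hmap : (F.A ⊓ F.B).map (MulAut.conj g⁻¹).toMonoidHom = F.A ⊓ F.B := by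
      refine eq_of_le_of_card_ge ?_ (by rw [card_map_of_injective (MulAut.conj g⁻¹).injective])
      rintro _ ⟨x, hx, rfl⟩
      simpa [mul_assoc] using h x hx
    refine mem_normalizer_iff.2 fun x => ⟨fun hx => by simpa [mul_assoc] using h x hx, fun hx => ?_⟩
    rw [← hmap] at hx
    obtain ⟨x', hx', he⟩ := hx
    simp only [MulEquiv.coe_toMonoidHom, MulAut.conj_apply] at he
    exact (mul_left_cancel (mul_right_cancel he)) ▸ hx'
  have hy1 : y ≠ 1 := fun h => hyZ (by simp [h])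
  have hyz : y ≠ z := fun h => hyZ (h ▸ hgz)
  have hyB : g⁻¹ * y * g ∈ F.B := by simpa using hBn.conj_mem y hy.2 g⁻¹
  obtain ⟨a, ha, hk⟩ := exists_k_left F hyB (fun h => hyZ ⟨h, hyB⟩) hgz
  set a' := g * a * g⁻¹ with ha'
  have hay : a' * y * a'⁻¹ = z * y := by
    calc a' * y * a'⁻¹ = g * (k a (g⁻¹ * y * g) * (g⁻¹ * y * g)) * g⁻¹ := by rw [ha', k]; group
      _ = z * y := by rw [hk]; group
  have haz : a' * z * a'⁻¹ = z := by
    calc a' * z * a'⁻¹ = g * (a * (g⁻¹ * z * g) * a⁻¹) * g⁻¹ := by rw [ha']; group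
      _ = z := by rw [F.central _ hgz a (F.A_le ha), mul_inv_cancel_right]; group
  have hzy : z * y ≠ 1 := fun h => hyz (by
    rw [← inv_eq_of_mul_eq_one_right h, inv_eq_of_mul_eq_one_left (F.A_sq hz.1)])
  have hall : ∀ x ∈ F.A ⊓ F.B, x = 1 ∨ x = z ∨ x = y ∨ x = z * y := fun x hx =>
    four_cases F.card_Z hz hy hz1 hy1 hyz.symm hzy hx
  have hmaps : ∀ x ∈ F.A ⊓ F.B, a' * x * a'⁻¹ ∈ F.A ⊓ F.B := by
    intro x hx
    rcases hall x hx with rfl | rfl | rfl | rfl
    · simp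
    · rw [haz]; exact hz
    · rw [hay]; exact mul_mem hz hy
    · rw [← conj_mul, haz, hay, ← mul_assoc, F.A_sq hz.1, one_mul]; exact hy
  have ha2 : a' * a' = 1 := by
    rw [ha', show g * a * g⁻¹ * (g * a * g⁻¹) = g * (a * a) * g⁻¹ by group, F.A_sq ha]; simp
  have hnz : a' ∈ normalizer ((F.A ⊓ F.B : Subgroup G) : Set G) := by
    refine mem_normalizer_iff.2 fun x => ⟨hmaps x, fun h => ?_⟩
    have := hmaps _ h
    rwa [show a' * (a' * x * a'⁻¹) * a'⁻¹ = (a' * a') * x * (a' * a')⁻¹ by group, ha2, one_mul, inv_one,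
      mul_one] at this
  have haS : a' ∈ (F.S : Subgroup G) :=
    mem_two_group F (n := 1) (by rw [pow_one, pow_two, ha2]) (normalizer_S F hC hBn hnz)
  rw [F.central y hy a' haS, mul_inv_cancel_right, right_eq_mul] at hay
  exact hz1 hay

/-! ### The spread -/

/-- Conjugation of subgroups. -/
def cj (g : G) (X : Subgroup G) : Subgroup G := X.map (MulAut.conj g).toMonoidHom

theorem mem_cj {g x : G} {X : Subgroup G} : x ∈ cj g X ↔ g⁻¹ * x * g ∈ X := by
  constructor
  · rintro ⟨y, hy, rfl⟩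
    simpa [mul_assoc] using hy
  · exact fun h => ⟨_, h, by simp [mul_assoc]⟩

theorem cj_cj (g h : G) (X : Subgroup G) : cj g (cj h X) = cj (g * h) X := by
  ext x
  simp [mem_cj, mul_assoc]

theorem cj_one (X : Subgroup G) : cj 1 X = X := by
  ext x
  simp [mem_cj]

/-- A complement `B0` to `Z` in `B` whose conjugates under `A`, with `Z`, form a set invariant under
conjugation. -/
structure Spread where
  /-- the second line -/
  B0 : Subgroup G
  le : B0 ≤ F.B
  card : Nat.card ↥B0 = 4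
  disj : ∀ x ∈ B0, x ∈ F.A → x = 1
  inv : ∀ g : G, ∀ X : Subgroup G, (X = F.A ⊓ F.B ∨ ∃ a ∈ F.A, X = cj a B0) →
    (cj g X = F.A ⊓ F.B ∨ ∃ a ∈ F.A, cj g X = cj a B0)

theorem exists_factor {B0 : Subgroup G} (le : B0 ≤ F.B) (card : Nat.card ↥B0 = 4)
    (disj : ∀ x ∈ B0, x ∈ F.A → x = 1) {x : G} (hx : x ∈ F.B) :
    ∃ z ∈ F.A ⊓ F.B, ∃ b ∈ B0, x = z * b := by
  let f : ↥(F.A ⊓ F.B) × ↥B0 → ↥F.B := fun p => ⟨(p.1 : G) * p.2, mul_mem p.1.2.2 (le p.2.2)⟩
  have hinj : Function.Injective f := by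
    rintro ⟨⟨z, hz⟩, ⟨b, hb⟩⟩ ⟨⟨z', hz'⟩, ⟨b', hb'⟩⟩ h
    have h' : z * b = z' * b' := congrArg Subtype.val h
    have e : z'⁻¹ * z = b' * b⁻¹ := by
      rw [inv_mul_eq_iff_eq_mul, ← mul_assoc, eq_mul_inv_iff_mul_eq, h']
    have := disj _ (mul_mem hb' (inv_mem hb)) (e ▸ F.A.mul_mem (F.A.inv_mem hz'.1) hz.1)
    have hbb : b' = b := mul_inv_eq_one.1 this
    subst hbb
    simp [mul_right_cancel h']
  have hs : Function.Surjective f :=
    ((Nat.bijective_iff_injective_and_card f).2 ⟨hinj, by rw [Nat.card_prod, F.card_Z, card, F.card_B]⟩).2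
  obtain ⟨⟨z, b⟩, h⟩ := hs ⟨x, hx⟩
  exact ⟨z, z.2, b, b.2, (congrArg Subtype.val h).symm⟩

theorem exists_spread_of_normal (hC : centralizer (F.B : Set G) = F.B) (hBn : F.B.Normal)
    (hZ : normalizer ((F.A ⊓ F.B : Subgroup G) : Set G) = ⊤) : Nonempty (Spread F) := by
  classical
  haveI := hBn
  haveI hSn : (F.S : Subgroup G).Normal := normalizer_eq_top_iff.1
    (top_le_iff.1 (hZ ▸ normalizer_S F hC hBn))
  haveI hZn : (F.A ⊓ F.B).Normal := normalizer_eq_top_iff.1 hZ
  obtain ⟨b1, hb1, hb1A⟩ : ∃ b ∈ F.B, b ∉ F.A := SetLike.not_le_iff_exists.1 fun h =>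
    A_ne_B F (eq_of_le_of_card_ge h (by rw [F.card_A, F.card_B])).symm
  obtain ⟨b2, hb2, hb2A, hb12⟩ : ∃ b ∈ F.B, b ∉ F.A ∧ b1 * b ∉ F.A := by
    obtain ⟨a, ha, haB⟩ : ∃ a ∈ F.A, a ∉ F.B := SetLike.not_le_iff_exists.1 fun h =>
      A_ne_B F (eq_of_le_of_card_ge h (by rw [F.card_A, F.card_B]))
    have hne : k a b1 ≠ 1 := fun h => hb1A (F.cent_A a ha haB b1 (F.B_le hb1) (k_eq_one_iff.1 h).symm)
    obtain ⟨z, hz, hz1, hz2⟩ := exists_ne_of_card_four F.card_Z (k a b1)
    obtain ⟨b, hb, hk⟩ := exists_k_right F ha haB hz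
    have hcentA : ∀ x ∈ F.A, k a x = 1 := fun x hx => k_eq_one_iff.2 (F.A_comm ha hx)
    refine ⟨b, hb, fun h => hz1 (by rw [← hk, hcentA b h]), fun h => hz2 ?_⟩
    have := hcentA _ h
    rw [k_mul_right F ha hb1 hb, hk] at this
    have hkk : k a b1 * k a b1 = 1 := F.A_sq (F.commutator_mem ha hb1).1
    rw [← inv_eq_of_mul_eq_one_right this, inv_eq_of_mul_eq_one_left hkk]
  let T : Subgroup G :=
    { carrier := {x | x = 1 ∨ x = b1 ∨ x = b2 ∨ x = b1 * b2}
      one_mem' := Or.inl rfl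
      mul_mem' := by
        have s1 := F.B_sq hb1
        have s2 := F.B_sq hb2
        have c := F.B_comm hb2 hb1
        have m1 : b1 * (b1 * b2) = b2 := by rw [← mul_assoc, s1, one_mul]
        have m2 : b2 * (b1 * b2) = b1 := by rw [← mul_assoc, c, mul_assoc, s2, mul_one]
        have m3 : b1 * b2 * b1 = b2 := by rw [← c, mul_assoc, s1, mul_one]
        have m4 : b1 * b2 * b2 = b1 := by rw [mul_assoc, s2, mul_one]
        have m5 : b1 * b2 * (b1 * b2) = 1 := by rw [mul_assoc, m2, s1]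
        rintro x y (rfl | rfl | rfl | rfl) (rfl | rfl | rfl | rfl) <;>
          simp [s1, s2, c, m1, m2, m3, m4, m5]
      inv_mem' := by
        rintro x hx
        have hxB : x ∈ F.B := by
          rcases hx with rfl | rfl | rfl | rfl
          exacts [one_mem _, hb1, hb2, mul_mem hb1 hb2]
        rwa [inv_eq_of_mul_eq_one_left (F.B_sq hxB)] }
  have hTB : T ≤ F.B := by
    rintro x (rfl | rfl | rfl | rfl)
    exacts [one_mem _, hb1, hb2, mul_mem hb1 hb2]
  have hTd : ∀ x ∈ T, x ∈ F.A → x = 1 := by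
    rintro x (rfl | rfl | rfl | rfl) h
    exacts [rfl, absurd h hb1A, absurd h hb2A, absurd h hb12]
  have hTprod : F.B ≤ T ⊔ (F.A ⊓ F.B) := by
    have hc : Nat.card ↥T = 4 := by
      have n4 : b1 ≠ b2 := fun e => hb12 (by rw [← e, F.B_sq hb1]; exact one_mem _)
      have hmem : ∀ i, ![(1 : G), b1, b2, b1 * b2] i ∈ T := fun i => by
        fin_cases i
        exacts [Or.inl rfl, Or.inr (Or.inl rfl), Or.inr (Or.inr (Or.inl rfl)), Or.inr (Or.inr (Or.inr rfl))]
      rw [← Nat.card_fin 4]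
      refine (Nat.card_eq_of_bijective (fun i : Fin 4 => (⟨_, hmem i⟩ : T)) ⟨fun i j h => ?_, ?_⟩).symm
      · exact inj_four (fun e => hb1A (by rw [e]; exact one_mem _)) (fun e => hb2A (by rw [e]; exact one_mem _)) n4
          (fun e => hb12 (by rw [e]; exact one_mem _)) (congrArg Subtype.val h)
      · rintro ⟨x, (rfl | rfl | rfl | rfl)⟩
        exacts [⟨0, rfl⟩, ⟨1, rfl⟩, ⟨2, rfl⟩, ⟨3, rfl⟩]
    intro x hx
    obtain ⟨z, hz, b, hb, rfl⟩ := exists_factor F hTB hc hTd hx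
    exact mul_mem (le_sup_right (a := T) hz) (le_sup_left (b := F.A ⊓ F.B) hb)
  -- an odd complement of the Sylow subgroup
  obtain ⟨R, hR⟩ := Subgroup.exists_left_complement'_of_coprime
    (N := (F.S : Subgroup G)) F.S.card_coprime_index
  let H : Subgroup G := F.B ⊔ R
  have hRodd : Odd (Nat.card R) := by
    rw [← hR.index_eq_card, Nat.odd_iff, ← Nat.two_dvd_ne_zero]
    exact F.S.not_dvd_index
  have hBH : F.B ≤ H := le_sup_left
  have hdvd : (F.B.subgroupOf H).index ∣ Nat.card R := by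
    change F.B.relIndex (F.B ⊔ R) ∣ _
    rw [sup_comm, Subgroup.relIndex_sup_right]
    exact Subgroup.index_dvd_card _
  have hZH : F.A ⊓ F.B ≤ H := inf_le_right.trans hBH
  obtain ⟨M, hM⟩ := CfsgLib.NormalComplements.exists_isComplement'_of_coprime_index
    ((F.A ⊓ F.B).subgroupOf H) (F.B.subgroupOf H) (T.subgroupOf H)
    ⟨⟨fun x y => Subtype.ext (Subtype.ext (F.A_comm (mem_subgroupOf.1 x.2).1 (mem_subgroupOf.1 y.2).1))⟩⟩
    (fun x hx => mem_subgroupOf.2 (mem_subgroupOf.1 hx).2) (fun x hx => mem_subgroupOf.2 (hTB (mem_subgroupOf.1 hx)))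
    (eq_bot_iff.2 fun x hx => Subtype.ext (hTd _ (mem_subgroupOf.1 hx.1) (mem_subgroupOf.1 hx.2).1))
    (by rw [← subgroupOf_sup (hTB.trans hBH) hZH]; exact fun x hx => mem_subgroupOf.2 (hTprod (mem_subgroupOf.1 hx)))
    (by
      rw [Nat.card_congr (subgroupOfEquivOfLe hZH).toEquiv, F.card_Z, show 4 = 2 ^ 2 by norm_num,
        Nat.coprime_pow_left_iff (by norm_num)]
      exact Nat.coprime_two_left.2 (hRodd.of_dvd_nat hdvd))
  let B0 : Subgroup G := (M ⊓ F.B.subgroupOf H).map H.subtype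
  have hB0le : B0 ≤ F.B := by rintro _ ⟨x, hx, rfl⟩; exact hx.2
  have hB0d : ∀ x ∈ B0, x ∈ F.A → x = 1 := by
    rintro _ ⟨x, hx, rfl⟩ hA
    have : x ∈ M ⊓ (F.A ⊓ F.B).subgroupOf H := ⟨hx.1, mem_subgroupOf.2 ⟨hA, hx.2⟩⟩
    rw [hM.disjoint.eq_bot] at this
    simp [mem_bot.1 this]
  have hfac : ∀ x ∈ F.B, ∃ b ∈ B0, ∃ z ∈ F.A ⊓ F.B, x = b * z := by
    intro x hx
    obtain ⟨⟨⟨m, hm⟩, ⟨z, hz⟩⟩, h⟩ := hM.2 ⟨x, hBH hx⟩
    have h' : (m : G) * z = x := congrArg Subtype.val h
    refine ⟨m, ⟨m, ⟨hm, mem_subgroupOf.2 ?_⟩, rfl⟩, z, hz, h'.symm⟩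
    rw [show (m : G) = x * (z : G)⁻¹ by rw [← h']; group]
    exact mul_mem hx (inv_mem (mem_subgroupOf.1 hz).2)
  have hB0c : Nat.card ↥B0 = 4 := by
    let f : ↥B0 × ↥(F.A ⊓ F.B) → ↥F.B := fun p => ⟨(p.1 : G) * p.2, mul_mem (hB0le p.1.2) p.2.2.2⟩
    have hf : Function.Bijective f := by
      constructor
      · rintro ⟨⟨b, hb⟩, ⟨z, hz⟩⟩ ⟨⟨b', hb'⟩, ⟨z', hz'⟩⟩ h
        have h' : b * z = b' * z' := congrArg Subtype.val h
        have e : b'⁻¹ * b = z' * z⁻¹ := by
          rw [inv_mul_eq_iff_eq_mul, ← mul_assoc, eq_mul_inv_iff_mul_eq, h']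
        have := hB0d _ (mul_mem (inv_mem hb') hb) (e ▸ F.A.mul_mem hz'.1 (F.A.inv_mem hz.1))
        have hbb : b' = b := inv_mul_eq_one.1 this
        subst hbb
        simp [mul_left_cancel h']
      · rintro ⟨x, hx⟩
        obtain ⟨b, hb, z, hz, rfl⟩ := hfac x hx
        exact ⟨(⟨b, hb⟩, ⟨z, hz⟩), rfl⟩
    have := Nat.card_congr (Equiv.ofBijective f hf)
    rw [Nat.card_prod, F.card_Z, F.card_B] at this
    omega
  have hHnorm : ∀ h ∈ H, ∀ x ∈ B0, h * x * h⁻¹ ∈ B0 := by
    intro h hh x hx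
    obtain ⟨⟨⟨m, hm⟩, ⟨z, hz⟩⟩, e⟩ := hM.2 ⟨h, hh⟩
    have e' : (m : G) * z = h := congrArg Subtype.val e
    rw [← e', mul_inv_rev, show (m : G) * z * x * ((z : G)⁻¹ * (m : G)⁻¹)
      = (m : G) * ((z : G) * x * (z : G)⁻¹) * (m : G)⁻¹ by group,
      F.B_comm (mem_subgroupOf.1 hz).2 (hB0le hx), mul_inv_cancel_right]
    obtain ⟨x, ⟨hx1, hx2⟩, rfl⟩ := hx
    exact ⟨m * x * m⁻¹, ⟨M.mul_mem (M.mul_mem hm hx1) (M.inv_mem hm),
      mem_subgroupOf.2 (hBn.conj_mem _ (mem_subgroupOf.1 hx2) _)⟩, rfl⟩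
  have horb : ∀ g : G, ∃ a ∈ F.A, cj g B0 = cj a B0 := by
    intro g
    obtain ⟨⟨⟨r, hr⟩, ⟨s, hs⟩⟩, e⟩ := hR.2 g⁻¹
    have e' : g = s⁻¹ * r⁻¹ := by rw [← mul_inv_rev, show r * s = g⁻¹ from e, inv_inv]
    have hs' : s⁻¹ ∈ F.A ⊔ F.B := F.sup_eq.symm ▸ inv_mem hs
    obtain ⟨a, ha, b, hb, hab⟩ := Subgroup.mem_sup_of_normal_right.1 hs'
    have hbr : b * r⁻¹ ∈ H := mul_mem (hBH hb) (le_sup_right (a := F.B) (inv_mem hr))
    refine ⟨a, ha, ?_⟩
    rw [e', ← hab, mul_assoc, ← cj_cj]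
    congr 1
    refine eq_of_le_of_card_ge ?_ (card_map_of_injective (MulAut.conj (b * r⁻¹)).injective).ge
    rintro _ ⟨x, hx, rfl⟩
    exact hHnorm _ hbr x hx
  refine ⟨⟨B0, hB0le, hB0c, hB0d, fun g X hX => ?_⟩⟩
  rcases hX with rfl | ⟨a, -, rfl⟩
  · left
    ext x
    have hg : g⁻¹ ∈ normalizer ((F.A ⊓ F.B : Subgroup G) : Set G) := hZ ▸ mem_top _
    rw [mem_cj]
    simpa using (mem_normalizer_iff.1 hg x).symm
  · exact Or.inr (by rw [cj_cj]; exact horb _)

theorem exists_spread (hC : centralizer (F.B : Set G) = F.B) (hBn : F.B.Normal) :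
    Nonempty (Spread F) := by
  by_cases hZ : normalizer ((F.A ⊓ F.B : Subgroup G) : Set G) = ⊤
  · exact exists_spread_of_normal F hC hBn hZ
  obtain ⟨g0, hg0⟩ := SetLike.exists_not_mem_of_ne_top _ hZ rfl
  have heq : ∀ g ∈ normalizer ((F.A ⊓ F.B : Subgroup G) : Set G), cj g (F.A ⊓ F.B) = F.A ⊓ F.B := by
    intro g hg
    ext x
    rw [mem_cj]
    simpa using (mem_normalizer_iff.1 (inv_mem hg) x).symm
  have hle : cj g0 (F.A ⊓ F.B) ≤ F.B := by
    rintro _ ⟨x, hx, rfl⟩; exact hBn.conj_mem x hx.2 g0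
  have hcard : Nat.card ↥(cj g0 (F.A ⊓ F.B)) = 4 := by
    rw [cj, card_map_of_injective (MulAut.conj _).injective, F.card_Z]
  have hdisj : ∀ x ∈ cj g0 (F.A ⊓ F.B), x ∈ F.A → x = 1 := fun x hx hA => by
    by_contra h
    exact hg0 (disjoint_conj F hC hBn h ⟨hA, hle hx⟩ (mem_cj.1 hx))
  have hkey : ∀ h : G, cj h (F.A ⊓ F.B) = F.A ⊓ F.B ∨
      ∃ a ∈ F.A, cj h (F.A ⊓ F.B) = cj a (cj g0 (F.A ⊓ F.B)) := by
    intro h
    by_cases hh : h ∈ normalizer ((F.A ⊓ F.B : Subgroup G) : Set G)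
    · exact Or.inl (heq h hh)
    right
    obtain ⟨z, hz, hz1⟩ : ∃ z ∈ F.A ⊓ F.B, z ≠ 1 := by
      by_contra! hall
      have := F.card_Z
      rw [(Subgroup.eq_bot_iff_forall _).2 hall, Subgroup.card_bot] at this
      omega
    set x := h * z * h⁻¹ with hx
    have hx1 : x ≠ 1 := by simpa [hx] using hz1
    have hxB : x ∈ F.B := hBn.conj_mem z hz.2 h
    have hxh : h⁻¹ * x * h = z := by rw [hx]; group
    have hxA : x ∉ F.A := fun hA => hh (disjoint_conj F hC hBn hx1 ⟨hA, hxB⟩ (hxh ▸ hz))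
    obtain ⟨w, hw, b, hb, hxwb⟩ := exists_factor F hle hcard hdisj hxB
    have hbA : b ∉ F.A := fun hA => hxA (hxwb ▸ mul_mem hw.1 hA)
    obtain ⟨a, ha, hk⟩ := exists_k_left F (hle hb) hbA hw
    refine ⟨a, ha, ?_⟩
    have hxab : x = a * b * a⁻¹ := by rw [hxwb, ← hk, k]; group
    rw [cj_cj]
    have hn : h⁻¹ * (a * g0) ∈ normalizer ((F.A ⊓ F.B : Subgroup G) : Set G) := by
      refine disjoint_conj F hC hBn hz1 hz ?_
      have hb' := mem_cj.1 hb
      rwa [show (h⁻¹ * (a * g0))⁻¹ * z * (h⁻¹ * (a * g0)) = g0⁻¹ * (a⁻¹ * (h * z * h⁻¹) * a) * g0 by group,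
        ← hx, hxab, show a⁻¹ * (a * b * a⁻¹) * a = b by group]
    rw [show a * g0 = h * (h⁻¹ * (a * g0)) by group, ← cj_cj, heq _ hn]
  refine ⟨⟨cj g0 (F.A ⊓ F.B), hle, hcard, hdisj, fun g X hX => ?_⟩⟩
  rcases hX with rfl | ⟨a, -, rfl⟩
  · exact hkey g
  · simpa only [cj_cj] using hkey _

end Affine

open Affine in
/-- If `O(G) = 1` and `B` is normal then `G` embeds in `PGL₃(4)`. -/
theorem Frame.exists_embedding_of_normal [Finite G] (F : Frame G) (hO : oddCore G = ⊥)
    (hBn : F.B.Normal) {K : Type*} [Field K] [Fintype K] (hK : Fintype.card K = 4) :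
    ∃ f : G →* GL (Fin 3) K ⧸ Subgroup.center (GL (Fin 3) K), Function.Injective f := by
  classical
  haveI := hBn
  have hC := centralizer_B F hO hBn
  obtain ⟨sp⟩ := exists_spread F hC hBn
  have h2 := two_eq_zero hK
  obtain ⟨w, hw, hall⟩ := exists_omega hK
  -- a basis
  obtain ⟨b1, hb1, hb1A⟩ : ∃ b ∈ sp.B0, b ∉ F.A := by
    by_contra! h
    have := sp.card
    rw [(Subgroup.eq_bot_iff_forall _).2 fun x hx => sp.disj x hx (h x hx), Subgroup.card_bot] at this
    omega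
  obtain ⟨a1, ha1, ha1B⟩ : ∃ a ∈ F.A, a ∉ F.B := SetLike.not_le_iff_exists.1 fun h =>
    A_ne_B F (eq_of_le_of_card_ge h (by rw [F.card_A, F.card_B]))
  have hb1B := sp.le hb1
  obtain ⟨z1, hz1def⟩ : ∃ z, z = k a1 b1 := ⟨_, rfl⟩
  have hz1 : z1 ∈ F.A ⊓ F.B := hz1def ▸ F.commutator_mem ha1 hb1B
  have kne : ∀ {a b : G}, a ∈ F.A → a ∉ F.B → b ∈ F.B → b ∉ F.A → k a b ≠ 1 :=
    fun ha haB hb hbA h => hbA (F.cent_A _ ha haB _ (F.B_le hb) (k_eq_one_iff.1 h).symm)
  have hz1ne : z1 ≠ 1 := hz1def ▸ kne ha1 ha1B hb1B hb1A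
  obtain ⟨z2, hz2, hz2ne, hz2ne'⟩ := exists_ne_of_card_four F.card_Z z1
  obtain ⟨a2, ha2, hk21⟩ := exists_k_left F hb1B hb1A hz2
  obtain ⟨b2', hb2', hk12'⟩ := exists_k_right F ha1 ha1B hz2
  obtain ⟨v, hv, b2, hb2, hb2e⟩ := exists_factor F sp.le sp.card sp.disj hb2'
  have hb2B := sp.le hb2
  have hk12 : k a1 b2 = z2 := by
    rw [← hk12', hb2e, k_mul_right F ha1 hv.2 hb2B, k_eq_one_iff.2 (F.A_comm ha1 hv.1), one_mul]
  have kA : ∀ {a x : G}, a ∈ F.A → x ∈ F.A → k a x = 1 := fun ha hx => k_eq_one_iff.2 (F.A_comm ha hx)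
  have kB : ∀ {a x : G}, a ∈ F.B → x ∈ F.B → k a x = 1 := fun ha hx => k_eq_one_iff.2 (F.B_comm ha hx)
  have ha2B : a2 ∉ F.B := fun h => hz2ne (hk21 ▸ kB h hb1B)
  have hb2A : b2 ∉ F.A := fun h => hz2ne (hk12 ▸ kA ha1 h)
  have hne12 : z1 * z2 ≠ 1 := fun h =>
    hz2ne' (by rw [← inv_eq_of_mul_eq_one_right h, inv_eq_of_mul_eq_one_left (F.A_sq hz1.1)])
  have hb12A : b1 * b2 ∉ F.A := fun h => hne12 (by
    rw [hz1def, ← hk12, ← k_mul_right F ha1 hb1B hb2B]; exact kA ha1 h)
  have ha12B : a1 * a2 ∉ F.B := fun h => hne12 (by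
    rw [hz1def, ← hk21, ← k_mul_left F ha1 ha2 hb1B]; exact kB h hb1B)
  have hk22 : k a2 b2 = z1 * z2 := by
    have hm := F.commutator_mem ha2 hb2B
    have h := four_cases F.card_Z hz1 hz2 hz1ne hz2ne hz2ne'.symm hne12 hm
    rw [← k] at h
    rcases h with h | h | h | h
    · exact absurd h (kne ha2 ha2B hb2B hb2A)
    · exfalso
      refine kne (mul_mem ha1 ha2) ha12B (mul_mem hb1B hb2B) hb12A ?_
      rw [k_mul_left F ha1 ha2 (mul_mem hb1B hb2B), k_mul_right F ha1 hb1B hb2B,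
        k_mul_right F ha2 hb1B hb2B, ← hz1def, hk12, hk21, h, ← mul_assoc (z1 * z2), mul_assoc z1,
        F.A_sq hz2.1, mul_one, F.A_sq hz1.1]
    · exfalso
      refine kne ha2 ha2B (mul_mem hb1B hb2B) hb12A ?_
      rw [k_mul_right F ha2 hb1B hb2B, hk21, h, F.A_sq hz2.1]
    · exact h
  obtain ⟨φ, hφ⟩ : ∃ f : K → G, f = four w z1 z2 := ⟨_, rfl⟩
  obtain ⟨ψ, hψ⟩ : ∃ f : K → G, f = four w b1 b2 := ⟨_, rfl⟩
  obtain ⟨α, hα⟩ : ∃ f : K → G, f = four w a1 a2 := ⟨_, rfl⟩
  have φadd : ∀ s t, φ (s + t) = φ s * φ t := fun s t => by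
    rw [hφ]; exact four_add h2 hw hall (F.A_sq hz1.1) (F.A_sq hz2.1) (F.A_comm hz1.1 hz2.1) s t
  have ψadd : ∀ s t, ψ (s + t) = ψ s * ψ t := fun s t => by
    rw [hψ]; exact four_add h2 hw hall (F.B_sq hb1B) (F.B_sq hb2B) (F.B_comm hb1B hb2B) s t
  have αadd : ∀ s t, α (s + t) = α s * α t := fun s t => by
    rw [hα]; exact four_add h2 hw hall (F.A_sq ha1) (F.A_sq ha2) (F.A_comm ha1 ha2) s t
  have φmem : ∀ t, φ t ∈ F.A ⊓ F.B := fun t => hφ ▸ four_mem hz1 hz2 t
  have ψmem : ∀ t, ψ t ∈ sp.B0 := fun t => hψ ▸ four_mem hb1 hb2 t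
  have ψB : ∀ t, ψ t ∈ F.B := fun t => sp.le (ψmem t)
  have αmem : ∀ t, α t ∈ F.A := fun t => hα ▸ four_mem ha1 ha2 t
  have φ0 : φ 0 = 1 := by rw [hφ, four_zero]
  have ψ0 : ψ 0 = 1 := by rw [hψ, four_zero]
  have φ1 : ∀ {t}, φ t = 1 → t = 0 := fun h => four_eq_one hall h2 hw hz1ne hz2ne hne12 (hφ ▸ h)
  have ψ1 : ∀ {t}, ψ t = 1 → t = 0 := fun h => four_eq_one hall h2 hw
    (fun e => hb1A (by rw [e]; exact one_mem _)) (fun e => hb2A (by rw [e]; exact one_mem _))
    (fun e => hb12A (by rw [e]; exact one_mem _)) (hψ ▸ h)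
  -- the commutator is multiplication
  have pair : ∀ m y, k (α m) (ψ y) = φ (m * y) := by
    intro m
    refine add_ext hall (fun s t => ?_) (fun s t => ?_) ?_ ?_
    · rw [ψadd, k_mul_right F (αmem m) (ψB s) (ψB t)]
    · rw [mul_add, φadd]
    · have : ∀ m, k (α m) (ψ 1) = φ (m * 1) := by
        refine add_ext hall (fun s t => ?_) (fun s t => ?_) ?_ ?_
        · rw [αadd, k_mul_left F (αmem s) (αmem t) (ψB 1)]
        · rw [add_mul, φadd]
        · simp [hα, hψ, hφ, four_one, hz1def]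
        · simp [hα, hψ, hφ, four_one, four_omega h2 hw, hk21]
      exact this m
    · have : ∀ m, k (α m) (ψ w) = φ (m * w) := by
        refine add_ext hall (fun s t => ?_) (fun s t => ?_) ?_ ?_
        · rw [αadd, k_mul_left F (αmem s) (αmem t) (ψB w)]
        · rw [add_mul, φadd]
        · simp [hα, hψ, hφ, four_one, four_omega h2 hw, hk12]
        · have hww : w * w = w + 1 := by linear_combination hw - (w + 1) * h2
          simp [hα, hψ, hφ, four_omega h2 hw, hww, four_omega_add_one hw, hk22]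
      exact this m
  -- coordinates on B
  let u : K × K → ↥F.B := fun p => ⟨φ p.1 * ψ p.2, mul_mem (φmem p.1).2 (ψB p.2)⟩
  have uadd : ∀ p q, u (p + q) = u p * u q := by
    intro p q
    refine Subtype.ext ?_
    change φ (p.1 + q.1) * ψ (p.2 + q.2) = φ p.1 * ψ p.2 * (φ q.1 * ψ q.2)
    rw [φadd, ψadd, mul_assoc, mul_assoc, ← mul_assoc (φ q.1), F.B_comm (φmem q.1).2 (ψB p.2), mul_assoc]
  have u0 : u 0 = 1 := Subtype.ext (by simp [u, φ0, ψ0])
  have uinj : Function.Injective u := by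
    intro p q h
    have hd : u (p - q) = 1 := by
      have := uadd (p - q) q
      rw [sub_add_cancel, h, right_eq_mul] at this
      exact this
    have hd' : φ (p - q).1 * ψ (p - q).2 = 1 := congrArg Subtype.val hd
    have h3 : ψ (p - q).2 = 1 := sp.disj _ (ψmem _) (by
      rw [← inv_eq_of_mul_eq_one_right hd']; exact inv_mem (φmem _).1)
    rw [h3, mul_one] at hd'
    exact sub_eq_zero.1 (Prod.ext (φ1 hd') (ψ1 h3))
  have ubij : Function.Bijective u := (Nat.bijective_iff_injective_and_card u).2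
    ⟨uinj, by rw [Nat.card_prod, Nat.card_eq_fintype_card, hK, F.card_B]⟩
  let e : K × K ≃ ↥F.B := Equiv.ofBijective u ubij
  have e_apply : ∀ p, e p = u p := fun _ => rfl
  have esymm_mul : ∀ x y, e.symm (x * y) = e.symm x + e.symm y := fun x y =>
    e.injective (by simp only [Equiv.apply_symm_apply, e_apply, uadd]; simp [← e_apply])
  let act : G → K × K → K × K := fun g p => e.symm ⟨g * (u p : G) * g⁻¹, hBn.conj_mem _ (u p).2 g⟩
  have hact : ∀ g p, (u (act g p) : G) = g * (u p : G) * g⁻¹ := fun g p => by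
    simp [act, ← e_apply]
  have act_eq : ∀ g p q, (u q : G) = g * (u p : G) * g⁻¹ → act g p = q := fun g p q h =>
    uinj (Subtype.ext ((hact g p).trans h.symm))
  have act_mul : ∀ g h p, act (g * h) p = act g (act h p) := fun g h p =>
    act_eq _ _ _ (by rw [hact, hact]; group)
  have act_one : ∀ p, act 1 p = p := fun p => act_eq _ _ _ (by simp)
  have act_bij : ∀ g, Function.Bijective (act g) := fun g =>
    Function.bijective_iff_has_inverse.2 ⟨act g⁻¹, fun p => by rw [← act_mul, inv_mul_cancel, act_one],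
      fun p => by rw [← act_mul, mul_inv_cancel, act_one]⟩
  have act_add : ∀ g p q, act g (p + q) = act g p + act g q := fun g p q =>
    act_eq _ _ _ (by rw [uadd, Subgroup.coe_mul, hact, hact, uadd, Subgroup.coe_mul]; group)
  have act_zero : ∀ g, act g 0 = 0 := fun g => act_eq _ _ _ (by simp [u0])
  -- shears
  have act_A : ∀ a ∈ F.A, ∃ m, ∀ p, act a p = (p.1 + m * p.2, p.2) := by
    intro a ha
    have hka := F.commutator_mem ha hb1B
    obtain ⟨⟨m, y⟩, hm⟩ := ubij.2 ⟨k a b1, hka.2⟩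
    have hm' : φ m * ψ y = k a b1 := congrArg Subtype.val hm
    have hy : ψ y = 1 := sp.disj _ (ψmem _) (by
      rw [show ψ y = (φ m)⁻¹ * k a b1 by rw [← hm']; group]
      exact mul_mem (inv_mem (φmem _).1) hka.1)
    rw [hy, mul_one] at hm'
    have hcA : a * (α m)⁻¹ ∈ F.B := F.cent_B b1 hb1B hb1A _ (F.A_le (mul_mem ha (inv_mem (αmem m)))) (by
      rw [← k_eq_one_iff, k_mul_left F ha (inv_mem (αmem m)) hb1B]
      have hα1 : k (α m) b1 = φ m := by simpa [hψ, four_one] using pair m 1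
      rw [inv_eq_of_mul_eq_one_left (F.A_sq (αmem m)), hα1, ← hm', F.A_sq (φmem m).1])
    refine ⟨m, fun p => act_eq _ _ _ ?_⟩
    change φ (p.1 + m * p.2) * ψ p.2 = a * (φ p.1 * ψ p.2) * a⁻¹
    have h1 : a * φ p.1 = φ p.1 * a := F.central _ (φmem _) a (F.A_le ha)
    have h3 : k a (ψ p.2) = φ (m * p.2) := by
      rw [show a = a * (α m)⁻¹ * α m by group, k_mul_left F (mul_mem ha (inv_mem (αmem m))) (αmem m) (ψB _),
        kB hcA (ψB _), one_mul, pair]
    rw [φadd, ← h3, k]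
    simp only [← mul_assoc, h1]
    group
  -- lines
  have line_of : ∀ p : K × K, ∃ X : Subgroup G,
      (X = F.A ⊓ F.B ∨ ∃ a ∈ F.A, X = cj a sp.B0) ∧ ∀ c : K, (u (c • p) : G) ∈ X := by
    intro p
    by_cases hp : p.2 = 0
    · refine ⟨F.A ⊓ F.B, Or.inl rfl, fun c => ?_⟩
      change φ (c * p.1) * ψ (c * p.2) ∈ F.A ⊓ F.B
      rw [hp, mul_zero, ψ0, mul_one]
      exact φmem _
    · refine ⟨cj (α (p.1 / p.2)) sp.B0, Or.inr ⟨_, αmem _, rfl⟩, fun c => ?_⟩
      refine ⟨ψ (c * p.2), ψmem _, ?_⟩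
      change α (p.1 / p.2) * ψ (c * p.2) * (α (p.1 / p.2))⁻¹ = φ (c * p.1) * ψ (c * p.2)
      rw [show c * p.1 = p.1 / p.2 * (c * p.2) by field_simp, ← pair, k]
      group
  have line_mul : ∀ (X : Subgroup G), (X = F.A ⊓ F.B ∨ ∃ a ∈ F.A, X = cj a sp.B0) → ∀ p q : K × K,
      p ≠ 0 → (u p : G) ∈ X → (u q : G) ∈ X → ∃ d : K, q = d • p := by
    intro X hX p q hp hpX hqX
    rcases hX with rfl | ⟨a, ha, rfl⟩
    · have h0 : ∀ r : K × K, (u r : G) ∈ F.A ⊓ F.B → r.2 = 0 := fun r hr => ψ1 (sp.disj _ (ψmem _) (by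
        rw [show ψ r.2 = (φ r.1)⁻¹ * (u r : G) by simp [u]]
        exact mul_mem (inv_mem (φmem _).1) hr.1))
      have hp2 := h0 p hpX
      have hp1 : p.1 ≠ 0 := fun h => hp (Prod.ext h hp2)
      exact ⟨q.1 / p.1, Prod.ext (by simp [hp1]) (by simp [hp2, h0 q hqX])⟩
    · obtain ⟨m, hm⟩ := act_A a ha
      have h0 : ∀ r : K × K, (u r : G) ∈ cj a sp.B0 → ∃ y, r = (m * y, y) := by
        rintro r ⟨x, hx, hxr⟩
        obtain ⟨⟨x1, y⟩, hy⟩ := ubij.2 ⟨x, sp.le hx⟩
        have hy' : φ x1 * ψ y = x := congrArg Subtype.val hy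
        have hx1 : x1 = 0 := φ1 (sp.disj _ (by
          rw [show φ x1 = x * (ψ y)⁻¹ by rw [← hy']; group]
          exact mul_mem hx (inv_mem (ψmem _))) (φmem _).1)
        refine ⟨y, ?_⟩
        rw [← act_eq a (x1, y) r (by rw [← hxr]; simp [u, hy']), hm]
        simp [hx1]
      obtain ⟨y, rfl⟩ := h0 p hpX
      obtain ⟨y', rfl⟩ := h0 q hqX
      have hy0 : y ≠ 0 := fun h => hp (by simp [h])
      exact ⟨y' / y, Prod.ext (by simp; field_simp) (by simp [hy0])⟩
  have act_line : ∀ g (c : K) p, ∃ d : K, act g (c • p) = d • act g p := by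
    intro g c p
    by_cases hp : p = 0
    · exact ⟨0, by simp [hp, act_zero]⟩
    obtain ⟨X, hX, hmem⟩ := line_of p
    refine line_mul (cj g X) (sp.inv g X hX) _ _ (fun h => hp ((act_bij g).1 (h.trans (act_zero g).symm)))
      ?_ ?_
    · rw [hact]; exact ⟨_, by simpa using hmem 1, rfl⟩
    · rw [hact]; exact ⟨_, hmem c, rfl⟩
  have semi := fun g => semilinear h2 hall hw (act_bij g) (act_add g) (act_line g)
  let lin : Subgroup G :=
    { carrier := {g | ∀ (c : K) p, act g (c • p) = c • act g p}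
      one_mem' := fun c p => by rw [act_one, act_one]
      mul_mem' := fun {g h} hg hh c p => by rw [act_mul, act_mul, hh, hg]
      inv_mem' := fun {g} hg c p => (act_bij g).1 (by
        rw [hg, ← act_mul, ← act_mul, mul_inv_cancel, act_one, act_one]) }
  have hSlin : (F.S : Subgroup G) ≤ lin := by
    rw [← F.sup_eq, sup_le_iff]
    refine ⟨fun a ha c p => ?_, fun b hb c p => ?_⟩
    · obtain ⟨m, hm⟩ := act_A a ha
      rw [hm, hm]
      simp [Prod.ext_iff]
      ring
    · have : ∀ q, act b q = q := fun q => act_eq _ _ _ (by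
        rw [F.B_comm hb (u q).2, mul_inv_cancel_right])
      rw [this, this]
  have hlin : ∀ g, g ∈ lin := by
    intro g
    by_contra hg
    have htwo : lin.index = 2 := by
      refine Subgroup.index_eq_two_iff.2 ⟨g, fun b => ?_⟩
      by_cases hb : b ∈ lin
      · exact Or.inr ⟨hb, fun h => hg ((lin.mul_mem_cancel_left hb).1 h)⟩
      · refine Or.inl ⟨fun c p => ?_, hb⟩
        rw [act_mul, act_mul, (semi g).resolve_left hg, (semi b).resolve_left hb]
        have : c * c * (c * c) = c := by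
          have := FiniteField.pow_card c
          rw [hK] at this
          linear_combination this
        rw [this]
    exact F.S.not_dvd_index (by have := Subgroup.index_dvd_of_le hSlin; rwa [htwo] at this)
  -- a complement to B
  let T : Subgroup G :=
    { carrier := Set.range α
      one_mem' := ⟨0, by rw [hα, four_zero]⟩
      mul_mem' := by rintro _ _ ⟨s, rfl⟩ ⟨t, rfl⟩; exact ⟨s + t, αadd s t⟩
      inv_mem' := by
        rintro _ ⟨t, rfl⟩
        exact ⟨t, (inv_eq_of_mul_eq_one_left (F.A_sq (αmem t))).symm⟩ }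
  have hT1 : T ⊓ F.B = ⊥ := by
    refine eq_bot_iff.2 fun x hx => ?_
    obtain ⟨⟨t, rfl⟩, hB⟩ := hx
    have h := pair t 1
    rw [kB hB (ψB 1), mul_one] at h
    rw [φ1 h.symm, hα, four_zero]
    exact one_mem _
  have hT2 : (F.S : Subgroup G) ≤ T ⊔ F.B := by
    rw [← F.sup_eq, sup_le_iff]
    refine ⟨fun a ha => ?_, le_sup_right⟩
    obtain ⟨m, hm⟩ := act_A a ha
    have hcB : (α m)⁻¹ * a ∈ F.B := by
      refine F.cent_B b1 hb1B hb1A _ (F.A_le (mul_mem (inv_mem (αmem m)) ha)) ?_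
      have e1 := hact a (0, 1)
      rw [hm] at e1
      simp only [u, mul_one, zero_add, φ0, one_mul] at e1
      have e2 := pair m 1
      rw [mul_one] at e2
      rw [show ψ 1 = b1 by rw [hψ, four_one]] at e1 e2
      have e3 : α m * b1 * (α m)⁻¹ = a * b1 * a⁻¹ := by
        rw [← e1, ← e2, k, inv_mul_cancel_right]
      calc (α m)⁻¹ * a * b1 = (α m)⁻¹ * (a * b1 * a⁻¹) * a := by group
        _ = (α m)⁻¹ * (α m * b1 * (α m)⁻¹) * a := by rw [e3]
        _ = _ := by group
    have ha' : a = α m * ((α m)⁻¹ * a) := by group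
    rw [ha']
    exact mul_mem (le_sup_left (b := F.B) ⟨m, rfl⟩) (le_sup_right (a := T) hcB)
  obtain ⟨L, hL⟩ := CfsgLib.NormalComplements.exists_isComplement'_of_coprime_index F.B F.S T
    ⟨⟨fun x y => Subtype.ext (F.B_comm x.2 y.2)⟩⟩ F.B_le
    (by rintro _ ⟨t, rfl⟩; exact F.A_le (αmem t)) hT1 hT2
    (by
      rw [F.card_B, show 16 = 2 ^ 4 by norm_num, Nat.coprime_pow_left_iff (by norm_num)]
      exact (Nat.prime_two.coprime_iff_not_dvd).2 F.S.not_dvd_index)
  let π : G →* G := L.subtype.comp (hL.QuotientMulEquiv.toMonoidHom.comp (QuotientGroup.mk' F.B))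
  have hπ : ∀ g, g * (π g)⁻¹ ∈ F.B := by
    intro g
    have h : ((π g : G) : G ⧸ F.B) = (g : G ⧸ F.B) := hL.QuotientMulEquiv.symm_apply_apply g
    rw [eq_comm, QuotientGroup.eq] at h
    simpa [mul_assoc] using hBn.conj_mem _ (inv_mem h) (π g)
  have hπB : ∀ b ∈ F.B, π b = 1 := fun b hb => by
    have : (QuotientGroup.mk' F.B) b = 1 := (QuotientGroup.eq_one_iff b).2 hb
    change ((hL.QuotientMulEquiv ((QuotientGroup.mk' F.B) b) : L) : G) = 1
    rw [this, map_one]
    rfl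
  let v : G → K × K := fun g => e.symm ⟨g * (π g)⁻¹, hπ g⟩
  have hv : ∀ g, (u (v g) : G) = g * (π g)⁻¹ := fun g => by simp [v, ← e_apply]
  have v_mul : ∀ g h, v (g * h) = v g + act g (v h) := by
    intro g h
    refine uinj (Subtype.ext ?_)
    rw [hv, uadd, Subgroup.coe_mul, F.B_comm (u (v g)).2 (u (act g (v h))).2, hact, hv, hv, map_mul]
    group
  have act_dec : ∀ g (p : K × K), act g p = p.1 • act g (1, 0) + p.2 • act g (0, 1) := fun g p => by
    rw [← hlin g, ← hlin g, ← act_add]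
    congr 1
    simp
  let toMat : G → Matrix (Fin 3) (Fin 3) K := fun g =>
    !![(act g (1, 0)).1, (act g (0, 1)).1, (v g).1;
       (act g (1, 0)).2, (act g (0, 1)).2, (v g).2;
       0, 0, 1]
  have toMat_one : toMat 1 = 1 := by
    have hv1 : v 1 = 0 := uinj (Subtype.ext (by rw [hv, u0]; simp))
    ext i j
    fin_cases i <;> fin_cases j <;> simp [toMat, act_one, hv1]
  have toMat_mul : ∀ g h, toMat (g * h) = toMat g * toMat h := by
    intro g h
    have c1 := act_dec g (act h (1, 0))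
    have c2 := act_dec g (act h (0, 1))
    have c3 := act_dec g (v h)
    simp only [Prod.ext_iff, Prod.fst_add, Prod.snd_add, Prod.smul_fst, Prod.smul_snd, smul_eq_mul]
      at c1 c2 c3
    ext i j
    fin_cases i <;> fin_cases j <;>
      simp [toMat, Matrix.mul_apply, Fin.sum_univ_three, act_mul, v_mul, c1, c2, c3] <;> ring
  let f₀ : G →* GL (Fin 3) K :=
    MonoidHom.toHomUnits { toFun := toMat, map_one' := toMat_one, map_mul' := toMat_mul }
  refine ⟨(QuotientGroup.mk' _).comp f₀, (injective_iff_map_eq_one _).2 fun g hg => ?_⟩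
  have hcen : f₀ g ∈ Subgroup.center (GL (Fin 3) K) := (QuotientGroup.eq_one_iff _).1 hg
  obtain ⟨c, hc⟩ := Matrix.GeneralLinearGroup.mem_center_iff_val_eq_scalar.1 hcen
  have hc' : Matrix.scalar (Fin 3) c = toMat g := hc
  have e22 := congrFun (congrFun hc' 2) 2
  have e00 := congrFun (congrFun hc' 0) 0
  have e11 := congrFun (congrFun hc' 1) 1
  have e01 := congrFun (congrFun hc' 0) 1
  have e10 := congrFun (congrFun hc' 1) 0
  have e02 := congrFun (congrFun hc' 0) 2
  have e12 := congrFun (congrFun hc' 1) 2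
  simp [toMat] at e22 e00 e11 e01 e10 e02 e12
  have hid : ∀ p, act g p = p := fun p => by
    rw [act_dec g p]
    simp [Prod.ext_iff, ← e00, ← e11, ← e01, ← e10, e22]
  have hgB : g ∈ F.B := by
    rw [← hC, mem_centralizer_iff]
    intro x hx
    obtain ⟨p, hp⟩ := ubij.2 ⟨x, hx⟩
    have h := hact g p
    rw [hid, hp] at h
    exact (mul_inv_eq_iff_eq_mul.1 h.symm).symm
  have hv0 : v g = 0 := Prod.ext e02.symm e12.symm
  have h := hv g
  rw [hv0, u0, hπB g hgB] at h
  simpa using h.symm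

end CfsgLib.LinearThreeFourType
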