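import Cfsg.Agent.Lib.LinearThreeFourType.Setting

/-!
The commutator pairing of `A` and `B` into the centre and the classes of involutions when there
is a turn on both sides.
-/

set_option autoImplicit false
set_option linter.unusedSectionVars false

namespace CfsgLib.LinearThreeFourType.BadCount

open Subgroup Cfsg CfsgLib.AEightThreeClasses

universe u

variable {G : Type u} [Group G]

/-- The conjugates of the pairing element. -/
def cm (a b : G) : G := a * b * a⁻¹ * b⁻¹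

theorem conj_cm (n a b : G) :
    n * cm a b * n⁻¹ = cm (n * a * n⁻¹) (n * b * n⁻¹) := by simp only [cm]; group

variable (F : Frame G)

theorem Z_le_S {z : G} (hz : z ∈ F.A ⊓ F.B) : z ∈ (F.S : Subgroup G) := F.A_le hz.1

theorem cm_mul {a b b' : G} (ha : a ∈ F.A) (hb : b ∈ F.B) (hb' : b' ∈ F.B) :
    cm a (b * b') = cm a b * cm a b' := by
  have h := F.central _ (F.commutator_mem ha hb') b (F.B_le hb)
  calc cm a (b * b') = cm a b * (b * cm a b' * b⁻¹) := by simp only [cm]; group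
    _ = cm a b * (cm a b' * b * b⁻¹) := by rw [show b * cm a b' = cm a b' * b from h]
    _ = _ := by group

theorem cm_eq_one_iff {a b : G} (ha : a ∈ F.A) (haB : a ∉ F.B) (hb : b ∈ F.B) :
    cm a b = 1 ↔ b ∈ F.A := by
  constructor
  · intro h
    refine F.cent_A a ha haB b (F.B_le hb) ?_
    have h1 : a * b = b * a := by
      rw [← one_mul (b * a), ← h]; simp only [cm]; group
    exact h1.symm
  · intro hbA
    simp only [cm]
    rw [F.A_comm ha hbA, mul_inv_cancel_right, mul_inv_cancel]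

theorem cm_eq_iff {a b b' : G} (ha : a ∈ F.A) (haB : a ∉ F.B) (hb : b ∈ F.B) (hb' : b' ∈ F.B) :
    cm a b = cm a b' ↔ b * b' ∈ F.A := by
  rw [← cm_eq_one_iff F ha haB (mul_mem hb hb'), cm_mul F ha hb hb']
  have h2 : cm a b' * cm a b' = 1 := F.A_sq (F.commutator_mem ha hb').1
  constructor
  · intro h; rw [h, h2]
  · intro h; exact mul_right_cancel (h.trans h2.symm)

/-- The pairing with a fixed element, as a homomorphism. -/
def cmHom {a : G} (ha : a ∈ F.A) : ↥F.B →* G :=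
  MonoidHom.mk' (fun b => cm a b) fun b b' => cm_mul F ha b.2 b'.2

@[simp] theorem cmHom_apply {a : G} (ha : a ∈ F.A) (b : ↥F.B) : cmHom F ha b = cm a b := rfl

section Finite

variable [Finite G]

theorem card_ker_cmHom {a : G} (ha : a ∈ F.A) (haB : a ∉ F.B) :
    Nat.card (cmHom F ha).ker = 4 := by
  have h : (cmHom F ha).ker = (F.A ⊓ F.B).subgroupOf F.B := by
    ext b
    rw [MonoidHom.mem_ker, cmHom_apply, cm_eq_one_iff F ha haB b.2, mem_subgroupOf]
    exact ⟨fun h => ⟨h, b.2⟩, fun h => h.1⟩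
  rw [h, Nat.card_congr (subgroupOfEquivOfLe inf_le_right).toEquiv, F.card_Z]

theorem range_cmHom {a : G} (ha : a ∈ F.A) (haB : a ∉ F.B) :
    (cmHom F ha).range = F.A ⊓ F.B := by
  refine eq_of_le_of_card_ge (fun _ ⟨b, hb⟩ => hb ▸ F.commutator_mem ha b.2) ?_
  have h1 := (cmHom F ha).ker.card_mul_index
  rw [index_ker, card_ker_cmHom F ha haB, F.card_B] at h1
  rw [F.card_Z]; omega

theorem exists_cm {a z : G} (ha : a ∈ F.A) (haB : a ∉ F.B) (hz : z ∈ F.A ⊓ F.B) :
    ∃ b ∈ F.B, cm a b = z := by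
  obtain ⟨b, hb⟩ := (range_cmHom F ha haB).ge hz
  exact ⟨b, b.2, hb⟩

theorem card_fibre {a z : G} (ha : a ∈ F.A) (haB : a ∉ F.B) (hz : z ∈ F.A ⊓ F.B) :
    Nat.card {b : ↥F.B // cm a b = z} = 4 := by
  obtain ⟨b₀, hb₀, h₀⟩ := exists_cm F ha haB hz
  rw [← card_ker_cmHom F ha haB]
  refine Nat.card_congr
    { toFun := fun b => ⟨⟨b₀, hb₀⟩⁻¹ * b.1, by
        rw [MonoidHom.mem_ker, map_mul, map_inv, cmHom_apply, cmHom_apply, h₀, b.2, inv_mul_cancel]⟩
      invFun := fun k => ⟨⟨b₀, hb₀⟩ * k.1, by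
        rw [← cmHom_apply F ha, map_mul, MonoidHom.mem_ker.1 k.2, mul_one, cmHom_apply, h₀]⟩
      left_inv := fun b => by simp
      right_inv := fun k => by simp }

/-- In a four-group, an element is trivial or one of three. -/
theorem Z_cases {p r x : G} (hp : p ∈ F.A ⊓ F.B) (hr : r ∈ F.A ⊓ F.B) (hx : x ∈ F.A ⊓ F.B)
    (hp1 : p ≠ 1) (hr1 : r ≠ 1) (hpr : p ≠ r) :
    x = 1 ∨ x = p ∨ x = r ∨ x = p * r := by
  classical
  haveI := Fintype.ofFinite G
  have hsub : ({1, p, r, p * r} : Finset G) ⊆ Finset.univ.filter (· ∈ F.A ⊓ F.B) := by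
    intro y hy
    simp only [Finset.mem_insert, Finset.mem_singleton] at hy
    refine Finset.mem_filter.2 ⟨Finset.mem_univ _, ?_⟩
    rcases hy with rfl | rfl | rfl | rfl
    exacts [one_mem _, hp, hr, mul_mem hp hr]
  have hp2 := F.A_sq hp.1
  have h4 : ({1, p, r, p * r} : Finset G).card = 4 := by
    rw [Finset.card_insert_of_notMem, Finset.card_insert_of_notMem, Finset.card_insert_of_notMem,
      Finset.card_singleton]
    · rw [Finset.mem_singleton]
      exact fun h => hp1 (mul_eq_right.1 h.symm)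
    · simp only [Finset.mem_insert, Finset.mem_singleton]
      rintro (h | h)
      · exact hpr h
      · exact hr1 (mul_eq_left.1 h.symm)
    · simp only [Finset.mem_insert, Finset.mem_singleton]
      rintro (h | h | h)
      · exact hp1 h.symm
      · exact hr1 h.symm
      · exact hpr (mul_left_cancel (hp2.trans h))
  have hZ : (Finset.univ.filter (· ∈ F.A ⊓ F.B)).card = 4 := by
    rw [← F.card_Z, Nat.card_eq_fintype_card, Fintype.card_subtype]
  have := Finset.eq_of_subset_of_card_le hsub (by rw [h4, hZ])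
  have hx' : x ∈ ({1, p, r, p * r} : Finset G) :=
    this ▸ Finset.mem_filter.2 ⟨Finset.mem_univ _, hx⟩
  simpa using hx'

theorem exists_A_outside : ∃ a ∈ F.A, a ∉ F.B := by
  by_contra! h
  have h1 : F.A ≤ F.A ⊓ F.B := fun a ha => ⟨ha, h a ha⟩
  have := card_le_of_le h1
  rw [F.card_A, F.card_Z] at this
  omega

/-- An element normalising `B` and the centre and fixing some element of `B` outside `A` has its
square trivial on `B` modulo the centre. -/
theorem sq_fix {n b : G} (hn : n ∈ normalizer (F.B : Set G))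
    (hnZ : ∀ z ∈ F.A ⊓ F.B, n * z * n⁻¹ ∈ F.A ⊓ F.B) (hb : b ∈ F.B) (hbA : b ∉ F.A)
    (hnb : n * b * n⁻¹ = b) {x : G} (hx : x ∈ F.B) :
    n * n * x * (n * n)⁻¹ * x ∈ F.A := by
  obtain ⟨a, ha, haB⟩ := exists_A_outside F
  have conjB : ∀ y ∈ F.B, n * y * n⁻¹ ∈ F.B := fun y hy => (mem_normalizer_iff.1 hn y).1 hy
  have hx' := conjB x hx
  have hx'' := conjB _ hx'
  have hg2 : n * n * x * (n * n)⁻¹ = n * (n * x * n⁻¹) * n⁻¹ := by group
  rw [hg2]
  refine (cm_eq_iff F ha haB hx'' hx).1 ?_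
  set f := fun y : G => cm a y with hf
  show f (n * (n * x * n⁻¹) * n⁻¹) = f x
  have hcong : ∀ y ∈ F.B, ∀ y' ∈ F.B, f y = f y' → f (n * y * n⁻¹) = f (n * y' * n⁻¹) := by
    intro y hy y' hy' h
    refine (cm_eq_iff F ha haB (conjB y hy) (conjB y' hy')).2 ?_
    have h1 : y * y' ∈ F.A ⊓ F.B := ⟨(cm_eq_iff F ha haB hy hy').1 h, mul_mem hy hy'⟩
    have h2 := (hnZ _ h1).1
    rwa [show n * (y * y') * n⁻¹ = n * y * n⁻¹ * (n * y' * n⁻¹) by group] at h2
  have hfix : ∀ y ∈ F.B, f y = 1 → f (n * y * n⁻¹) = 1 := fun y hy h =>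
    (cm_eq_one_iff F ha haB (conjB y hy)).2
      (hnZ y ⟨(cm_eq_one_iff F ha haB hy).1 h, hy⟩).1
  have hfb : f b ≠ 1 := fun h => hbA ((cm_eq_one_iff F ha haB hb).1 h)
  by_cases h1 : f x = 1
  · rw [hfix _ hx' (hfix x hx h1), h1]
  by_cases h2 : f x = f b
  · have h3 := hcong x hx b hb h2
    rw [hnb] at h3
    have h4 := hcong _ hx' b hb h3
    rw [hnb] at h4
    rw [h4, h2]
  rcases Z_cases F (F.commutator_mem ha hb) (F.commutator_mem ha hx) (F.commutator_mem ha hx')
      hfb h1 (Ne.symm h2) with h3 | h3 | h3 | h3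
  · refine absurd ?_ h1
    have hA : n * x * n⁻¹ ∈ F.A := (cm_eq_one_iff F ha haB hx').1 h3
    refine (cm_eq_one_iff F ha haB hx).2 ?_
    have hinj : Set.SurjOn (fun y => n * y * n⁻¹) (F.A ⊓ F.B : Set G) (F.A ⊓ F.B : Set G) :=
      ((Set.toFinite _).injOn_iff_bijOn_of_mapsTo (fun y hy => hnZ y hy)).1
        (fun y _ y' _ h => by simpa using h) |>.surjOn
    obtain ⟨y, hy, hye⟩ := hinj (show n * x * n⁻¹ ∈ (F.A ⊓ F.B : Set G) from ⟨hA, hx'⟩)
    have : y = x := by simpa using hye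
    exact this ▸ hy.1
  · exfalso
    refine h2 ?_
    have h4 : n * x * n⁻¹ * b ∈ F.A ⊓ F.B := ⟨(cm_eq_iff F ha haB hx' hb).1 h3, mul_mem hx' hb⟩
    have hinj : Set.SurjOn (fun y => n * y * n⁻¹) (F.A ⊓ F.B : Set G) (F.A ⊓ F.B : Set G) :=
      ((Set.toFinite _).injOn_iff_bijOn_of_mapsTo (fun y hy => hnZ y hy)).1
        (fun y _ y' _ h => by simpa using h) |>.surjOn
    obtain ⟨y, hy, hye⟩ := hinj h4
    have : y = x * b := by
      refine mul_left_cancel (a := n) (mul_right_cancel (b := n⁻¹) ?_)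
      calc n * y * n⁻¹ = n * x * n⁻¹ * b := hye
        _ = n * x * n⁻¹ * (n * b * n⁻¹) := by rw [hnb]
        _ = n * (x * b) * n⁻¹ := by group
    exact (cm_eq_iff F ha haB hx hb).2 (this ▸ hy.1)
  · exact (hcong _ hx' x hx h3).trans h3
  · have h4 : f (n * x * n⁻¹) = f (b * x) := h3.trans (cm_mul F ha hb hx).symm
    have h5 := hcong _ hx' _ (mul_mem hb hx) h4
    rw [show n * (b * x) * n⁻¹ = n * b * n⁻¹ * (n * x * n⁻¹) by group, hnb] at h5
    rw [h5]
    show cm a (b * (n * x * n⁻¹)) = cm a x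
    rw [cm_mul F ha hb hx', show cm a (n * x * n⁻¹) = cm a b * cm a x from h3, ← mul_assoc, show cm a b * cm a b = 1 from F.A_sq (F.commutator_mem ha hb).1, one_mul]

end Finite

end CfsgLib.LinearThreeFourType.BadCount
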