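import Cfsg.Agent.Lib.LinearThreeFourType.BadBasic
import Cfsg.Agent.Lib.Involutions.Basic

/-!
With a turn on both sides the involutions fall into three classes.
-/

set_option autoImplicit false
set_option linter.unusedSectionVars false

namespace CfsgLib.LinearThreeFourType.BadCount

open Subgroup Cfsg CfsgLib.AEightThreeClasses

universe u

variable {G : Type u} [Group G] [Finite G]

/-- The common hypotheses. -/
structure Both (F : Frame G) : Prop where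
  cl : ∀ a ∈ F.A, a ∉ F.B → ∀ g : G, g * a * g⁻¹ ∈ (F.S : Subgroup G) →
    g * a * g⁻¹ ∈ F.A ∧ g * a * g⁻¹ ∉ F.B
  clB : ∀ b ∈ F.B, b ∉ F.A → ∀ g : G, g * b * g⁻¹ ∈ (F.S : Subgroup G) →
    g * b * g⁻¹ ∈ F.B ∧ g * b * g⁻¹ ∉ F.A
  loc : ∀ z ∈ F.A ⊓ F.B, z ≠ 1 →
    Loc (normalizer (F.A : Set G) ⊓ normalizer (F.B : Set G)) z
  small : normalizer (F.A : Set G) ≤ normalizer ((F.A ⊓ F.B : Subgroup G) : Set G)
  smallB : normalizer (F.B : Set G) ≤ normalizer ((F.A ⊓ F.B : Subgroup G) : Set G)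
  turnA : ∃ a ∈ F.A, a ∉ F.B ∧ ∃ y ∈ normalizer (F.A : Set G) ⊓ normalizer (F.B : Set G),
    y * a = a * y ∧
      (Odd (orderOf y) ∧ ∀ s ∈ (F.S : Subgroup G), y ^ 3 * s = s * y ^ 3) ∧ ∀ z ∈ F.A ⊓ F.B, z ≠ 1 → y * z * y⁻¹ ≠ z
  turnB : ∃ b ∈ F.B, b ∉ F.A ∧ ∃ y ∈ normalizer (F.A : Set G) ⊓ normalizer (F.B : Set G),
    y * b = b * y ∧
      (Odd (orderOf y) ∧ ∀ s ∈ (F.S : Subgroup G), y ^ 3 * s = s * y ^ 3) ∧ ∀ z ∈ F.A ⊓ F.B, z ≠ 1 → y * z * y⁻¹ ≠ z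

theorem conj_A {F : Frame G} {n x : G}
    (hn : n ∈ normalizer (F.A : Set G) ⊓ normalizer (F.B : Set G)) (hx : x ∈ F.A) :
    n * x * n⁻¹ ∈ F.A := (mem_normalizer_iff.1 hn.1 x).1 hx

theorem conj_B {F : Frame G} {n x : G}
    (hn : n ∈ normalizer (F.A : Set G) ⊓ normalizer (F.B : Set G)) (hx : x ∈ F.B) :
    n * x * n⁻¹ ∈ F.B := (mem_normalizer_iff.1 hn.2 x).1 hx

theorem conj_Z {F : Frame G} {n x : G}
    (hn : n ∈ normalizer (F.A : Set G) ⊓ normalizer (F.B : Set G)) (hx : x ∈ F.A ⊓ F.B) :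
    n * x * n⁻¹ ∈ F.A ⊓ F.B := ⟨conj_A hn hx.1, conj_B hn hx.2⟩

theorem conj_not_A {F : Frame G} {n x : G}
    (hn : n ∈ normalizer (F.A : Set G) ⊓ normalizer (F.B : Set G)) (hx : x ∉ F.A) :
    n * x * n⁻¹ ∉ F.A := fun h => hx ((mem_normalizer_iff.1 hn.1 x).2 h)

theorem S_le_norms (F : Frame G) :
    (F.S : Subgroup G) ≤ normalizer (F.A : Set G) ⊓ normalizer (F.B : Set G) :=
  le_inf F.norm_A F.norm_B

theorem S_cent (F : Frame G) {z : G} (hz : z ∈ F.A ⊓ F.B) :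
    (F.S : Subgroup G) ≤ centralizer ({z} : Set G) :=
  fun s hs => mem_cent.2 (F.central z hz s hs)

theorem exists_Z_ne_one (F : Frame G) : ∃ z ∈ F.A ⊓ F.B, z ≠ 1 := by
  by_contra! h
  have h' : F.A ⊓ F.B = ⊥ := eq_bot_iff.2 fun z hz => mem_bot.2 (h z hz)
  have := F.card_Z
  rw [h', card_bot] at this
  omega

/-- The three nontrivial elements of the centre along the orbit of a turn. -/
theorem orbit_Z (F : Frame G) {y p q : G}
    (hy : y ∈ normalizer (F.A : Set G) ⊓ normalizer (F.B : Set G)) (h3 : (Odd (orderOf y) ∧ ∀ s ∈ (F.S : Subgroup G), y ^ 3 * s = s * y ^ 3))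
    (hf : ∀ z ∈ F.A ⊓ F.B, z ≠ 1 → y * z * y⁻¹ ≠ z) (hp : p ∈ F.A ⊓ F.B) (hp1 : p ≠ 1)
    (hq : q ∈ F.A ⊓ F.B) (hq1 : q ≠ 1) : ∃ i : ℕ, y ^ i * p * (y ^ i)⁻¹ = q := by
  have h1 : y * p * y⁻¹ ∈ F.A ⊓ F.B := conj_Z hy hp
  have h11 : y * p * y⁻¹ ≠ 1 := fun h => hp1 (conj_eq_one_iff.1 h)
  have hne : p ≠ y * p * y⁻¹ := fun h => hf p hp hp1 h.symm
  have h2 : y * (y * p * y⁻¹) * y⁻¹ ∈ F.A ⊓ F.B := conj_Z hy h1
  have h21 : y * (y * p * y⁻¹) * y⁻¹ ≠ 1 := fun h => h11 (conj_eq_one_iff.1 h)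
  have hy3 : y * y * y * p * (y * y * y)⁻¹ = p := by
    rw [show y * y * y = y ^ 3 by rw [pow_succ, pow_two]]
    exact mul_inv_eq_of_eq_mul (h3.2 p (Z_le_S F hp))
  have hyy : y * (y * p * y⁻¹) * y⁻¹ = p * (y * p * y⁻¹) := by
    rcases Z_cases F hp h1 h2 hp1 h11 hne with h | h | h | h
    · exact absurd h h21
    · exfalso
      refine hf p hp hp1 ?_
      calc y * p * y⁻¹ = y * (y * (y * p * y⁻¹) * y⁻¹) * y⁻¹ := by rw [h]
        _ = (y * y * y) * p * (y * y * y)⁻¹ := by group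
        _ = p := hy3
    · exact absurd h (hf _ h1 h11)
    · exact h
  rcases Z_cases F hp h1 hq hp1 h11 hne with rfl | rfl | rfl | rfl
  · exact absurd rfl hq1
  · exact ⟨0, by simp⟩
  · exact ⟨1, by simp⟩
  · exact ⟨2, by rw [← hyy, pow_two]; group⟩

variable {F : Frame G} (P : Both F)
include P

theorem Both.symm : Both F.symm where
  cl := P.clB
  clB := P.cl
  loc := fun z hz h1 => by
    have := P.loc z ⟨hz.2, hz.1⟩ h1
    rwa [inf_comm] at this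
  small := by rw [show F.symm.A ⊓ F.symm.B = F.A ⊓ F.B from inf_comm _ _]; exact P.smallB
  smallB := by rw [show F.symm.A ⊓ F.symm.B = F.A ⊓ F.B from inf_comm _ _]; exact P.small
  turnA := by
    obtain ⟨b, hb, hbA, y, hy, h1, h2, h3⟩ := P.turnB
    exact ⟨b, hb, hbA, y, ⟨hy.2, hy.1⟩, h1, h2, fun z hz => h3 z ⟨hz.2, hz.1⟩⟩
  turnB := by
    obtain ⟨a, ha, haB, y, hy, h1, h2, h3⟩ := P.turnA
    exact ⟨a, ha, haB, y, ⟨hy.2, hy.1⟩, h1, h2, fun z hz => h3 z ⟨hz.2, hz.1⟩⟩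

/-- Conjugacy in `B` outside `A` is realised by elements of the normalisers centralising a given
element of the centre. -/
theorem Both.trans_B {z b₁ b₂ : G} (hz : z ∈ F.A ⊓ F.B) (hz1 : z ≠ 1)
    (h₁ : b₁ ∈ F.B) (h₁A : b₁ ∉ F.A) (h₂ : b₂ ∈ F.B) (h₂A : b₂ ∉ F.A) :
    ∃ c ∈ normalizer (F.A : Set G) ⊓ normalizer (F.B : Set G), c * z = z * c ∧
      c * b₁ * c⁻¹ = b₂ := by
  obtain ⟨a, ha, haB, ya, hya, hyaa, hya3, hyaf⟩ := P.turnA
  obtain ⟨b, hb, hbA, yb, hyb, hybb, hyb3, hybf⟩ := P.turnB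
  -- `yb` is trivial on `B` modulo the centre
  have hsqb : ∀ x ∈ F.B, yb * x * yb⁻¹ * x ∈ F.A := by
    intro x hx
    have hnb : yb * yb * b * (yb * yb)⁻¹ = b := by
      have h : yb * b * yb⁻¹ = b := mul_inv_eq_of_eq_mul hybb
      calc yb * yb * b * (yb * yb)⁻¹ = yb * (yb * b * yb⁻¹) * yb⁻¹ := by group
        _ = b := by rw [h, h]
    have h := sq_fix F (mul_mem hyb.2 hyb.2) (fun w hw => conj_Z (mul_mem hyb hyb) hw) hb hbA hnb hx
    have hy3 : yb ^ 3 * x * (yb ^ 3)⁻¹ = x := mul_inv_eq_of_eq_mul (hyb3.2 x (F.B_le hx))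
    have h4 : yb * yb * (yb * yb) * x * (yb * yb * (yb * yb))⁻¹ = yb * x * yb⁻¹ := by
      calc yb * yb * (yb * yb) * x * (yb * yb * (yb * yb))⁻¹
          = yb * (yb ^ 3 * x * (yb ^ 3)⁻¹) * yb⁻¹ := by rw [pow_succ, pow_two]; group
        _ = _ := by rw [hy3]
    rwa [h4] at h
  -- an element turning `B` modulo the centre and fixing `z`
  obtain ⟨j, hj⟩ := orbit_Z F hyb hyb3 hybf (conj_Z hya hz)
    (fun h => hz1 (conj_eq_one_iff.1 h)) hz hz1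
  set e := yb ^ j * ya with he
  have hybj : yb ^ j ∈ normalizer (F.A : Set G) ⊓ normalizer (F.B : Set G) := pow_mem hyb j
  have heN : e ∈ normalizer (F.A : Set G) ⊓ normalizer (F.B : Set G) := mul_mem hybj hya
  have hez : e * z * e⁻¹ = z := by
    calc e * z * e⁻¹ = yb ^ j * (ya * z * ya⁻¹) * (yb ^ j)⁻¹ := by rw [he]; group
      _ = z := hj
  have hbpow : ∀ i : ℕ, ∀ x ∈ F.B, cm a (yb ^ i * x * (yb ^ i)⁻¹) = cm a x := by
    intro i
    induction i with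
    | zero => intro x _; simp
    | succ i ih =>
      intro x hx
      rw [show yb ^ (i + 1) * x * (yb ^ (i + 1))⁻¹ =
        yb ^ i * (yb * x * yb⁻¹) * (yb ^ i)⁻¹ by rw [pow_succ]; group, ih _ (conj_B hyb hx)]
      exact (cm_eq_iff F ha haB (conj_B hyb hx) hx).2 (hsqb x hx)
  have hya' : ∀ x, cm a (ya * x * ya⁻¹) = ya * cm a x * ya⁻¹ := fun x => by
    rw [conj_cm, mul_inv_eq_of_eq_mul hyaa]
  have hea : ∀ i : ℕ, ∀ x ∈ F.B,
      cm a (e ^ i * x * (e ^ i)⁻¹) = ya ^ i * cm a x * (ya ^ i)⁻¹ := by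
    intro i
    induction i with
    | zero => intro x _; simp
    | succ i ih =>
      intro x hx
      rw [show e ^ (i + 1) * x * (e ^ (i + 1))⁻¹ =
        e ^ i * (e * x * e⁻¹) * (e ^ i)⁻¹ by rw [pow_succ]; group, ih _ (conj_B heN hx),
        show e * x * e⁻¹ = yb ^ j * (ya * x * ya⁻¹) * (yb ^ j)⁻¹ by rw [he]; group,
        hbpow j _ (conj_B hya hx), hya', pow_succ]
      group
  obtain ⟨i, hi⟩ := orbit_Z F hya hya3 hyaf (F.commutator_mem ha h₁)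
    (fun h => h₁A ((cm_eq_one_iff F ha haB h₁).1 h)) (F.commutator_mem ha h₂)
    (fun h => h₂A ((cm_eq_one_iff F ha haB h₂).1 h))
  set c₀ := e ^ i with hc₀
  have hc₀N : c₀ ∈ normalizer (F.A : Set G) ⊓ normalizer (F.B : Set G) := pow_mem heN i
  have hc₀z : c₀ * z = z * c₀ :=
    (Commute.pow_left (show Commute e z from mul_inv_eq_iff_eq_mul.1 hez) i).eq
  set b' := c₀ * b₁ * c₀⁻¹ with hb'
  have hb'B : b' ∈ F.B := conj_B hc₀N h₁
  have hb'A : b' ∉ F.A := conj_not_A hc₀N h₁A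
  have hdiff : b' * b₂ ∈ F.A := by
    refine (cm_eq_iff F ha haB hb'B h₂).1 ?_
    rw [hb', hea i b₁ h₁]
    exact hi
  -- move inside the coset of the centre by an element of `A`
  obtain ⟨a', ha', hcm⟩ := exists_cm F.symm (a := b') hb'B hb'A
    (show b' * b₂ ∈ F.symm.A ⊓ F.symm.B from ⟨mul_mem hb'B h₂, hdiff⟩)
  have hconj : a' * b' * a'⁻¹ = b₂ := by
    have h1 : cm a' b' = b' * b₂ := by
      have h2 : cm a' b' = (cm b' a')⁻¹ := by simp only [cm]; group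
      rw [h2, hcm, inv_eq_of_mul_eq_one_right (F.A_sq hdiff)]
    calc a' * b' * a'⁻¹ = cm a' b' * b' := by simp only [cm]; group
      _ = b₂ := by
        rw [h1, F.B_comm hb'B h₂, mul_assoc, F.B_sq hb'B, mul_one]
  refine ⟨a' * c₀, mul_mem (S_le_norms F (F.A_le ha')) hc₀N, ?_, ?_⟩
  · rw [mul_assoc, hc₀z, ← mul_assoc, F.central z hz a' (F.A_le ha'), mul_assoc]
  · calc a' * c₀ * b₁ * (a' * c₀)⁻¹ = a' * b' * a'⁻¹ := by rw [hb']; group
      _ = b₂ := hconj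

theorem Both.conj_of_B {b₁ b₂ : G} (h₁ : b₁ ∈ F.B) (h₁A : b₁ ∉ F.A) (h₂ : b₂ ∈ F.B)
    (h₂A : b₂ ∉ F.A) : IsConj b₁ b₂ := by
  obtain ⟨z, hz, hz1⟩ := exists_Z_ne_one F
  obtain ⟨c, -, -, hc⟩ := P.trans_B hz hz1 h₁ h₁A h₂ h₂A
  exact isConj_iff.2 ⟨c, hc⟩

theorem Both.conj_of_A {a₁ a₂ : G} (h₁ : a₁ ∈ F.A) (h₁B : a₁ ∉ F.B) (h₂ : a₂ ∈ F.A)
    (h₂B : a₂ ∉ F.B) : IsConj a₁ a₂ := P.symm.conj_of_B h₁ h₁B h₂ h₂B

theorem Both.conj_of_Z {z₁ z₂ : G} (h₁ : z₁ ∈ F.A ⊓ F.B) (h₁1 : z₁ ≠ 1) (h₂ : z₂ ∈ F.A ⊓ F.B)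
    (h₂1 : z₂ ≠ 1) : IsConj z₁ z₂ := by
  obtain ⟨a, -, -, y, hy, -, h3, hf⟩ := P.turnA
  obtain ⟨i, hi⟩ := orbit_Z F hy h3 hf h₁ h₁1 h₂ h₂1
  exact isConj_iff.2 ⟨y ^ i, hi⟩

theorem Both.Z_not_conj_B {z b : G} (hz : z ∈ F.A ⊓ F.B) (hb : b ∈ F.B) (hbA : b ∉ F.A) :
    ¬ IsConj b z := by
  intro h
  obtain ⟨g, hg⟩ := isConj_iff.1 h
  have := P.clB b hb hbA g (hg ▸ Z_le_S F hz)
  rw [hg] at this
  exact this.2 hz.1

theorem Both.A_not_conj_B {a b : G} (ha : a ∈ F.A) (hb : b ∈ F.B) (hbA : b ∉ F.A) :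
    ¬ IsConj b a := by
  intro h
  obtain ⟨g, hg⟩ := isConj_iff.1 h
  have := P.clB b hb hbA g (hg ▸ F.A_le ha)
  rw [hg] at this
  exact this.2 ha

omit P in
/-- Two commuting involutions are moved into the Sylow subgroup together. -/
theorem exists_pair_conj (F : Frame G) {x y : G} (hx : x * x = 1) (hy : y * y = 1)
    (hxy : x * y = y * x) :
    ∃ g : G, g * x * g⁻¹ ∈ (F.S : Subgroup G) ∧ g * y * g⁻¹ ∈ (F.S : Subgroup G) := by
  haveI : Fact (Nat.Prime 2) := ⟨Nat.prime_two⟩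
  have hp : IsPGroup 2 (closure ({x, y} : Set G)) := by
    intro w
    refine ⟨1, Subtype.ext ?_⟩
    rw [pow_one, SubmonoidClass.coe_pow, OneMemClass.coe_one, pow_two]
    have hc : ∀ w ∈ closure ({x, y} : Set G), w * w = 1 ∧ w * x = x * w ∧ w * y = y * w := by
      intro w hw
      induction hw using Subgroup.closure_induction with
      | mem w hw =>
        rcases hw with rfl | rfl
        · exact ⟨hx, rfl, hxy⟩
        · exact ⟨hy, hxy.symm, rfl⟩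
      | one => simp
      | mul u v hu hv ihu ihv =>
        have huv : v * u = u * v := by
          have : closure ({x, y} : Set G) ≤ centralizer ({v} : Set G) :=
            (closure_le _).2 (by
              rintro w (rfl | rfl)
              · exact mem_cent.2 ihv.2.1.symm
              · exact mem_cent.2 ihv.2.2.symm)
          exact (mem_cent.1 (this hu)).symm
        refine ⟨?_, (Commute.mul_left ihu.2.1 ihv.2.1).eq, (Commute.mul_left ihu.2.2 ihv.2.2).eq⟩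
        rw [mul_assoc, ← mul_assoc v u v, huv, mul_assoc u v v, ihv.1, mul_one, ihu.1]
      | inv u hu ihu => rw [inv_eq_of_mul_eq_one_right ihu.1]; exact ihu
    exact (hc w w.2).1
  obtain ⟨T, hT⟩ := hp.exists_le_sylow
  obtain ⟨g, hg⟩ := MulAction.exists_smul_eq G T F.S
  refine ⟨g, ?_, ?_⟩ <;> rw [← hg]
  · exact ⟨x, hT (subset_closure (Or.inl rfl)), rfl⟩
  · exact ⟨y, hT (subset_closure (Or.inr rfl)), rfl⟩

omit P in
theorem exists_conj_S (F : Frame G) {x : G} (hx : x * x = 1) :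
    ∃ g : G, g * x * g⁻¹ ∈ (F.S : Subgroup G) := by
  obtain ⟨g, hg, -⟩ := exists_pair_conj F hx hx rfl
  exact ⟨g, hg⟩

omit P in
theorem sq_one_of_conj {x y : G} (hx : x * x = 1) (h : IsConj x y) : y * y = 1 := by
  obtain ⟨g, rfl⟩ := isConj_iff.1 h
  calc g * x * g⁻¹ * (g * x * g⁻¹) = g * (x * x) * g⁻¹ := by group
    _ = 1 := by rw [hx]; group

/-- A conjugate of an element of `A` outside `B` commutes with no conjugate of one of `B` outside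
`A`. -/
theorem Both.not_commute_classes {a b x y : G} (ha : a ∈ F.A) (haB : a ∉ F.B) (hb : b ∈ F.B)
    (hbA : b ∉ F.A) (hx : IsConj a x) (hy : IsConj b y) : x * y ≠ y * x := by
  intro h
  obtain ⟨g, hgx, hgy⟩ := exists_pair_conj F (sq_one_of_conj (F.A_sq ha) hx)
    (sq_one_of_conj (F.B_sq hb) hy) h
  obtain ⟨u, rfl⟩ := isConj_iff.1 hx
  obtain ⟨v, rfl⟩ := isConj_iff.1 hy
  have e : ∀ k w : G, g * (k * w * k⁻¹) * g⁻¹ = (g * k) * w * (g * k)⁻¹ := fun k w => by group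
  rw [e] at hgx hgy
  have h1 := P.cl a ha haB _ hgx
  have h2 := P.clB b hb hbA _ hgy
  refine F.not_commute h1.1 h1.2 h2.1 h2.2 ?_
  rw [← e, ← e]
  calc g * (v * b * v⁻¹) * g⁻¹ * (g * (u * a * u⁻¹) * g⁻¹)
      = g * (v * b * v⁻¹ * (u * a * u⁻¹)) * g⁻¹ := by group
    _ = g * (u * a * u⁻¹ * (v * b * v⁻¹)) * g⁻¹ := by rw [h]
    _ = _ := by group

/-- Every involution is of one of three kinds. -/
theorem Both.kinds {a b z x : G} (ha : a ∈ F.A) (haB : a ∉ F.B) (hb : b ∈ F.B)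
    (hbA : b ∉ F.A) (hz : z ∈ F.A ⊓ F.B) (hz1 : z ≠ 1) (hx : orderOf x = 2) :
    IsConj a x ∨ IsConj b x ∨ IsConj z x := by
  have hx2 := CfsgLib.Involutions.mul_self_eq_one hx
  obtain ⟨g, hg⟩ := exists_conj_S F hx2
  have hc : IsConj (g * x * g⁻¹) x := (isConj_iff.2 ⟨g, rfl⟩).symm
  have hg2 : g * x * g⁻¹ * (g * x * g⁻¹) = 1 := sq_one_of_conj hx2 hc.symm
  have hg1 : g * x * g⁻¹ ≠ 1 := fun h =>
    CfsgLib.Involutions.ne_one hx (conj_eq_one_iff.1 h)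
  by_cases hA : g * x * g⁻¹ ∈ F.A <;> by_cases hB : g * x * g⁻¹ ∈ F.B
  · exact Or.inr (Or.inr ((P.conj_of_Z hz hz1 ⟨hA, hB⟩ hg1).trans hc))
  · exact Or.inl ((P.conj_of_A ha haB hA hB).trans hc)
  · exact Or.inr (Or.inl ((P.conj_of_B hb hbA hB hA).trans hc))
  · exact ((F.invol _ hg hg2).elim hA hB).elim

end CfsgLib.LinearThreeFourType.BadCount
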