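import Cfsg.Agent.Lib.LinearThreeFourType.BadSide

/-!
Turns on both sides are impossible: the two sides would each have more central involutions in the
centraliser than the other.
-/

set_option autoImplicit false
set_option linter.unusedSectionVars false

open scoped Classical commutatorElement

namespace CfsgLib.LinearThreeFourType

open Subgroup Cfsg CfsgLib.AEightThreeClasses

universe u

namespace BadCount

variable {G : Type u} [Group G] [Fintype G] {F : Frame G} (P : Both F)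
include P

/-- A turned side whose centraliser is not local has few central involutions. -/
theorem Both.sq_lt {b y : G} (hb : b ∈ F.B) (hbA : b ∉ F.A)
    (hy : y ∈ normalizer (F.A : Set G) ⊓ normalizer (F.B : Set G)) (hyb : y * b = b * y)
    
    (hy3 : (Odd (orderOf y) ∧ ∀ s ∈ (F.S : Subgroup G), y ^ 3 * s = s * y ^ 3))
    (hyf : ∀ z ∈ F.A ⊓ F.B, z ≠ 1 → y * z * y⁻¹ ≠ z)
    (hnl : ¬ Loc (normalizer (F.B : Set G)) b) {z : G} (hz : z ∈ F.A ⊓ F.B) (hz1 : z ≠ 1) :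
    (com b z).card * (com b z).card < 3 * (cls z).card := by
  haveI : Fact (Nat.Prime 2) := ⟨Nat.prime_two⟩
  set C := centralizer ({b} : Set G) with hC
  have hBC : F.B ≤ C := fun x hx => mem_cent.2 (F.B_comm hx hb)
  have hZC : F.A ⊓ F.B ≤ C := inf_le_right.trans hBC
  -- `B` is a Sylow subgroup of the centraliser
  obtain ⟨T, hT⟩ := ((IsPGroup.of_card (n := 4) (by rw [F.card_B]; rfl) : IsPGroup 2 F.B).comap_of_injective
    C.subtype C.subtype_injective).exists_le_sylow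
  obtain ⟨T', hT'⟩ := (T.2.map C.subtype).exists_le_sylow
  obtain ⟨q, hq⟩ := MulAction.exists_smul_eq G T' F.S
  have hTq : ∀ x ∈ (T : Subgroup C), q * (x : G) * q⁻¹ ∈ (F.S : Subgroup G) := fun x hx => by
    rw [← hq]; exact ⟨x, hT' ⟨x, hx, rfl⟩, rfl⟩
  have hqb := P.clB b hb hbA q (hTq ⟨b, hBC hb⟩ (hT (show (b : G) ∈ F.B from hb)))
  have hTle : ((T : Subgroup C).map C.subtype).map (MulAut.conj q).toMonoidHom ≤ F.B := by
    rintro _ ⟨_, ⟨x, hx, rfl⟩, rfl⟩
    refine F.cent_B _ hqb.1 hqb.2 _ (hTq x hx) ?_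
    show q * (x : G) * q⁻¹ * (q * b * q⁻¹) = q * b * q⁻¹ * (q * (x : G) * q⁻¹)
    calc q * (x : G) * q⁻¹ * (q * b * q⁻¹) = q * ((x : G) * b) * q⁻¹ := by group
      _ = q * (b * (x : G)) * q⁻¹ := by rw [mem_cent.1 x.2]
      _ = _ := by group
  have hTB : (T : Subgroup C) = F.B.subgroupOf C := by
    refine (eq_of_le_of_card_ge hT ?_).symm
    have := card_le_of_le hTle
    rw [card_map_of_injective (MulAut.conj q).injective, card_map_of_injective C.subtype_injective,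
      F.card_B] at this
    exact this.trans (le_of_eq (by
      rw [← F.card_B]; exact (Nat.card_congr (subgroupOfEquivOfLe hBC).toEquiv).symm))
  have hTc : IsMulCommutative ↥(T : Subgroup C) := ⟨⟨fun u v => Subtype.ext (Subtype.ext
    (F.B_comm (mem_subgroupOf.1 (hTB ▸ u.2 : (u : C) ∈ F.B.subgroupOf C))
      (mem_subgroupOf.1 (hTB ▸ v.2 : (v : C) ∈ F.B.subgroupOf C))))⟩⟩
  have hmT : ∀ {x : C}, x ∈ (T : Subgroup C) ↔ (x : G) ∈ F.B := by
    intro x; rw [hTB, mem_subgroupOf]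
  have hnZ : ∀ {n : G}, n ∈ normalizer (F.B : Set G) → ∀ w ∈ F.A ⊓ F.B, n * w * n⁻¹ ∈ F.A ⊓ F.B :=
    fun hn w hw => (mem_normalizer_iff.1 (P.smallB hn) w).1 hw
  -- the residual
  set K : Subgroup C := Cfsg.pResidual 2 ↥C with hK
  haveI hKn : K.Normal := CfsgLib.Transfer.pResidual_normal
  have hfoc := CfsgLib.Transfer.abelian_inf_pResidual T hTc
  set yC : C := ⟨y, mem_cent.2 hyb⟩ with hyC
  have hyN : yC ∈ normalizer ((T : Subgroup C) : Set C) :=
    CfsgLib.CoprimeAction.mem_normalizer_of_conj_mem fun x hx => hmT.2 (conj_B hy (hmT.1 hx))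
  have hyK : yC ∈ K := CfsgLib.Transfer.mem_pResidual_of_coprime (by
    rw [hyC, Subgroup.orderOf_mk]; exact Nat.coprime_two_right.2 hy3.1)
  have hZK : ∀ w (hw : w ∈ F.A ⊓ F.B), (⟨w, hZC hw⟩ : C) ∈ K := by
    intro w hw
    let φ : ↥(F.A ⊓ F.B) → ↥(F.A ⊓ F.B) := fun v =>
      ⟨v * (y * (v : G)⁻¹ * y⁻¹), mul_mem v.2 (conj_Z hy (inv_mem v.2))⟩
    have hinj : Function.Injective φ := by
      intro v v' e
      have e' : (v : G) * (y * (v : G)⁻¹ * y⁻¹) = (v' : G) * (y * (v' : G)⁻¹ * y⁻¹) :=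
        congrArg Subtype.val e
      have hd : ((v' : G)⁻¹ * v) ∈ F.A ⊓ F.B := mul_mem (inv_mem v'.2) v.2
      by_contra hne
      refine hyf _ hd (fun h => hne (Subtype.ext (inv_mul_eq_one.1 h).symm)) ?_
      rw [F.A_comm (inv_mem v'.2.1) v.2.1]
      have e2 : y * (v : G)⁻¹ * y⁻¹ = (v : G)⁻¹ * ((v' : G) * (y * (v' : G)⁻¹ * y⁻¹)) := by
        rw [← e', inv_mul_cancel_left]
      calc y * ((v : G) * (v' : G)⁻¹) * y⁻¹
          = (y * (v : G)⁻¹ * y⁻¹)⁻¹ * (y * (v' : G)⁻¹ * y⁻¹) := by group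
        _ = (y * (v' : G)⁻¹ * y⁻¹)⁻¹ * (v' : G)⁻¹ * v * (y * (v' : G)⁻¹ * y⁻¹) := by rw [e2]; group
        _ = (v : G) * (v' : G)⁻¹ := by
          have hm : (v' : G)⁻¹ * v ∈ F.A ⊓ F.B := hd
          rw [mul_assoc (y * (v' : G)⁻¹ * y⁻¹)⁻¹ (v' : G)⁻¹ v, mul_assoc,
            F.A_comm hm.1 (conj_Z hy (inv_mem v'.2)).1, inv_mul_cancel_left,
            F.A_comm (inv_mem v'.2.1) v.2.1]
    obtain ⟨v, hv⟩ := Finite.injective_iff_surjective.1 hinj ⟨w, hw⟩
    have hmem : (⟨(v : G), hZC v.2⟩ : C) * yC * (⟨(v : G), hZC v.2⟩ : C)⁻¹ * yC⁻¹ ∈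
        (T : Subgroup C) ⊓ K := by
      rw [hK, hfoc]
      exact commutator_mem_commutator (hmT.2 v.2.2) hyN
    have hv' : (v : G) * (y * (v : G)⁻¹ * y⁻¹) = w := congrArg Subtype.val hv
    have heq : (⟨w, hZC hw⟩ : C) =
        (⟨(v : G), hZC v.2⟩ : C) * yC * (⟨(v : G), hZC v.2⟩ : C)⁻¹ * yC⁻¹ := by
      refine Subtype.ext ?_
      show w = (v : G) * y * (v : G)⁻¹ * y⁻¹
      rw [← hv']; group
    rw [heq]; exact hmem.2
  have hKA : ∀ x : C, x ∈ K → (x : G) ∈ F.B → (x : G) ∈ F.A := by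
    intro x hx hxB
    have h1 : x ∈ (T : Subgroup C) ⊓ K := ⟨hmT.2 hxB, hx⟩
    rw [hK, hfoc] at h1
    have hle : ⁅(T : Subgroup C), normalizer ((T : Subgroup C) : Set C)⁆ ≤
        (F.A ⊓ F.B).subgroupOf C := by
      refine commutator_le.2 fun u hu n hn => ?_
      obtain ⟨p, hp, k, hk, hpk⟩ := CfsgLib.Transfer.exists_mul_eq
        (T.subtype (le_normalizer : (T : Subgroup C) ≤ normalizer ((T : Subgroup C) : Set C))) ⟨n, hn⟩
      have hnB : ∀ m : C, m ∈ normalizer ((T : Subgroup C) : Set C) →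
          (m : G) ∈ normalizer (F.B : Set G) := fun m hm =>
        CfsgLib.CoprimeAction.mem_normalizer_of_conj_mem fun w hw =>
          hmT.1 ((mem_normalizer_iff.1 hm ⟨w, hBC hw⟩).1 (hmT.2 hw))
      -- odd elements act trivially modulo the centre
      have hodd : ∀ m : ↥(normalizer ((T : Subgroup C) : Set C)), Odd (orderOf m) →
          ∀ w ∈ F.B, ((m : C) : G) * w * ((m : C) : G)⁻¹ * w ∈ F.A := by
        intro m hm w hw
        set g : G := ((m : C) : G) with hg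
        have hgb : g * b * g⁻¹ = b := mul_inv_eq_of_eq_mul (mem_cent.1 (m : C).2)
        have hgN : g ∈ normalizer (F.B : Set G) := hnB _ m.2
        obtain ⟨j, hj⟩ := hm
        have hgo : g ^ (2 * j + 1) = 1 := by
          rw [← hj]
          exact congrArg (fun r : ↥(normalizer ((T : Subgroup C) : Set C)) => ((r : C) : G))
            (pow_orderOf_eq_one m)
        have hpow : ∀ i : ℕ, ∀ w ∈ F.B, (g ^ 2) ^ i * w * ((g ^ 2) ^ i)⁻¹ * w ∈ F.A := by
          intro i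
          induction i with
          | zero => intro w hw; simpa using (F.B_sq hw).symm ▸ one_mem F.A
          | succ i ih =>
            intro w hw
            have h1 := sq_fix F hgN (hnZ hgN) hb hbA hgb hw
            have h2 := ih _ ((mem_normalizer_iff.1 (mul_mem hgN hgN) w).1 hw)
            have h3 := F.A.mul_mem h2 h1
            have hd : g * g * w * (g * g)⁻¹ * (g * g * w * (g * g)⁻¹) = 1 :=
              F.B_sq ((mem_normalizer_iff.1 (mul_mem hgN hgN) w).1 hw)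
            convert h3 using 1
            calc (g ^ 2) ^ (i + 1) * w * ((g ^ 2) ^ (i + 1))⁻¹ * w
                = (g ^ 2) ^ i * (g * g * w * (g * g)⁻¹) * ((g ^ 2) ^ i)⁻¹ * 1 * w := by
                  rw [pow_succ ((g ^ 2)) i, pow_two]; group
              _ = _ := by rw [← hd]; group
        have hge : (g ^ 2) ^ (j + 1) = g := by
          rw [← pow_mul, show 2 * (j + 1) = (2 * j + 1) + 1 by ring, pow_succ, hgo, one_mul]
        have := hpow (j + 1) w hw
        rwa [hge] at this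
      have hgen : ∀ m : ↥(normalizer ((T : Subgroup C) : Set C)),
          ∀ w ∈ F.B, ((m : C) : G) * w * ((m : C) : G)⁻¹ * w ∈ F.A := by
        let L : Subgroup ↥(normalizer ((T : Subgroup C) : Set C)) :=
          { carrier := {m | ∀ w ∈ F.B, ((m : C) : G) * w * ((m : C) : G)⁻¹ * w ∈ F.A}
            one_mem' := fun w hw => by simpa using (F.B_sq hw).symm ▸ one_mem F.A
            mul_mem' := by
              intro m m' hm hm' w hw
              set g : G := ((m : C) : G)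
              set g' : G := ((m' : C) : G)
              have hw' : g' * w * g'⁻¹ ∈ F.B := (mem_normalizer_iff.1 (hnB _ m'.2) w).1 hw
              have h1 : g * (g' * w * g'⁻¹) * g⁻¹ * (g' * w * g'⁻¹) * (g' * w * g'⁻¹ * w) ∈ F.A :=
                F.A.mul_mem (hm _ hw') (hm' w hw)
              show g * g' * w * (g * g')⁻¹ * w ∈ F.A
              convert h1 using 1
              calc g * g' * w * (g * g')⁻¹ * w = g * (g' * w * g'⁻¹) * g⁻¹ * 1 * w := by group
                _ = _ := by rw [← F.B_sq hw']; group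
            inv_mem' := by
              intro m hm w hw
              set g : G := ((m : C) : G)
              have hw' : g⁻¹ * w * g⁻¹⁻¹ ∈ F.B :=
                (mem_normalizer_iff.1 (inv_mem (hnB _ m.2)) w).1 hw
              have h1 := hm _ hw'
              rw [show g * (g⁻¹ * w * g⁻¹⁻¹) * g⁻¹ = w by group] at h1
              show g⁻¹ * w * g⁻¹⁻¹ * w ∈ F.A
              rwa [F.B_comm hw' hw] }
        have hTL : (T.subtype (le_normalizer :
            (T : Subgroup C) ≤ normalizer ((T : Subgroup C) : Set C)) : Subgroup _) ≤ L := by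
          intro m hm w hw
          have hgB : ((m : C) : G) ∈ F.B := hmT.1 hm
          rw [F.B_comm hgB hw, mul_inv_cancel_right, F.B_sq hw]
          exact one_mem _
        have hKL : Cfsg.pResidual 2 ↥(normalizer ((T : Subgroup C) : Set C)) ≤ L := by
          rw [Cfsg.pResidual, closure_le]
          exact fun m hm => hodd m (Nat.coprime_two_right.1 hm)
        intro m
        obtain ⟨p, hp, k, hk, rfl⟩ := CfsgLib.Transfer.exists_mul_eq
          (T.subtype (le_normalizer : (T : Subgroup C) ≤ normalizer ((T : Subgroup C) : Set C))) m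
        exact L.mul_mem (hTL hp) (hKL hk)
      have hu' : (u : G) ∈ F.B := hmT.1 hu
      have hn' : (n : G) * (u : G)⁻¹ * (n : G)⁻¹ ∈ F.B :=
        (mem_normalizer_iff.1 (hnB n hn) _).1 (inv_mem hu')
      refine mem_subgroupOf.2 ⟨?_, ?_⟩
      · have h3 := hgen ⟨n, hn⟩ _ (inv_mem hu')
        show (u : G) * n * (u : G)⁻¹ * (n : G)⁻¹ ∈ F.A
        have h4 : (u : G)⁻¹ = (u : G) := inv_eq_of_mul_eq_one_right (F.B_sq hu')
        rw [show (u : G) * n * (u : G)⁻¹ * (n : G)⁻¹ = (u : G) * ((n : G) * (u : G)⁻¹ * (n : G)⁻¹) by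
          group, F.B_comm hu' hn']
        have h5 : (n : G) * (u : G)⁻¹ * (n : G)⁻¹ * (u : G)⁻¹ ∈ F.A := h3
        rwa [show (n : G) * (u : G)⁻¹ * (n : G)⁻¹ * (u : G)⁻¹ =
          (n : G) * (u : G)⁻¹ * (n : G)⁻¹ * (u : G) from by rw [h4]] at h5
      · show (u : G) * n * (u : G)⁻¹ * (n : G)⁻¹ ∈ F.B
        rw [show (u : G) * n * (u : G)⁻¹ * (n : G)⁻¹ = (u : G) * ((n : G) * (u : G)⁻¹ * (n : G)⁻¹) by
          group]
        exact mul_mem hu' hn'
    exact (mem_subgroupOf.1 (hle h1)).1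
  -- the elements of `K`
  let ζ : ∀ w, w ∈ F.A ⊓ F.B → K := fun w hw => ⟨⟨w, hZC hw⟩, hZK w hw⟩
  have hbord : orderOf b = 2 :=
    CfsgLib.Involutions.orderOf_eq_two_iff.2 ⟨F.B_sq hb, fun e => hbA (e ▸ one_mem _)⟩
  have hzord : ∀ w ∈ F.A ⊓ F.B, w ≠ 1 → orderOf w = 2 := fun w hw h =>
    CfsgLib.Involutions.orderOf_eq_two_iff.2 ⟨F.A_sq hw.1, h⟩
  have hkinv : ∀ w : K, orderOf w = 2 → ∃ (v : G) (hv : v ∈ F.A ⊓ F.B), v ≠ 1 ∧ IsConj (ζ v hv) w := by
    intro w hw
    obtain ⟨R, hR⟩ := (IsPGroup.of_card (n := 1) (by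
      rw [Nat.card_zpowers, Subgroup.orderOf_coe, hw, pow_one]) :
      IsPGroup 2 (zpowers (w : C))).exists_le_sylow
    obtain ⟨c, hc⟩ := MulAction.exists_smul_eq C R T
    have h1 : c * (w : C) * c⁻¹ ∈ (T : Subgroup C) := by
      rw [← hc]; exact ⟨_, hR (mem_zpowers _), rfl⟩
    have h2 : c * (w : C) * c⁻¹ ∈ K := hKn.conj_mem _ w.2 c
    have hB' := hmT.1 h1
    have hv : ((c * (w : C) * c⁻¹ : C) : G) ∈ F.A ⊓ F.B := ⟨hKA _ h2 hB', hB'⟩
    refine ⟨_, hv, fun e => ?_, ?_⟩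
    · have : (w : C) = 1 := conj_eq_one_iff.1 (Subtype.ext e : c * (w : C) * c⁻¹ = 1)
      exact CfsgLib.Involutions.ne_one hw (Subtype.ext this)
    · -- conjugation by `c` is conjugation by an element of `K`
      obtain ⟨p, hp, k, hk, rfl⟩ := CfsgLib.Transfer.exists_mul_eq T c
      have hB'' := hmT.1 hp
      refine IsConj.symm (isConj_iff.2 ⟨⟨k, hk⟩, ?_⟩)
      refine Subtype.ext (Subtype.ext ?_)
      show (k : G) * ((w : C) : G) * (k : G)⁻¹ = ((p * k * (w : C) * (p * k)⁻¹ : C) : G)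
      have hv3 : (p : G) * ((k : G) * ((w : C) : G) * (k : G)⁻¹) * (p : G)⁻¹ =
          ((p * k * (w : C) * (p * k)⁻¹ : C) : G) := by
        simp only [Subgroup.coe_mul, Subgroup.coe_inv]; group
      set v : G := ((p * k * (w : C) * (p * k)⁻¹ : C) : G) with hvdef
      calc (k : G) * ((w : C) : G) * (k : G)⁻¹
          = (p : G)⁻¹ * ((p : G) * ((k : G) * ((w : C) : G) * (k : G)⁻¹) * (p : G)⁻¹) * (p : G) := by
            group
        _ = (p : G)⁻¹ * (v * (p : G)) := by rw [hv3]; group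
        _ = v := by rw [F.B_comm hv.2 hB'', inv_mul_cancel_left]
  have h8 : ¬ 8 ∣ Nat.card K := by
    intro h
    obtain ⟨Q, hQ⟩ := Sylow.exists_subgroup_card_pow_prime 2 (n := 3) (G := K) h
    have hQp : IsPGroup 2 (Q.map K.subtype) :=
      (IsPGroup.of_card (n := 3) hQ).map _
    obtain ⟨R, hR⟩ := hQp.exists_le_sylow
    obtain ⟨c, hc⟩ := MulAction.exists_smul_eq C R T
    have hle : ((Q.map K.subtype).map (MulAut.conj c).toMonoidHom).map C.subtype ≤ F.A ⊓ F.B := by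
      rintro _ ⟨_, ⟨_, ⟨w, hw, rfl⟩, rfl⟩, rfl⟩
      have h1 : c * (w : C) * c⁻¹ ∈ (T : Subgroup C) := by
        rw [← hc]; exact ⟨_, hR ⟨w, hw, rfl⟩, rfl⟩
      exact ⟨hKA _ (hKn.conj_mem _ w.2 c) (hmT.1 h1), hmT.1 h1⟩
    have := card_le_of_le hle
    rw [card_map_of_injective C.subtype_injective, card_map_of_injective (MulAut.conj c).injective,
      card_map_of_injective K.subtype_injective, hQ, F.card_Z] at this
    omega
  set yK : K := ⟨yC, hyK⟩ with hyKdef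
  have honeZ : ∀ w (hw : w ∈ F.A ⊓ F.B), w ≠ 1 → IsConj (ζ z hz) (ζ w hw) := by
    intro w hw hw1
    obtain ⟨i, hi⟩ := orbit_Z F hy hy3 hyf hz hz1 hw hw1
    refine isConj_iff.2 ⟨yK ^ i, Subtype.ext (Subtype.ext ?_)⟩
    simp only [Subgroup.coe_mul, Subgroup.coe_inv, SubmonoidClass.coe_pow]
    exact hi
  have hone : ∀ i j : K, orderOf i = 2 → orderOf j = 2 → IsConj i j := by
    intro i j hi hj
    obtain ⟨v, hv, hv1, hvi⟩ := hkinv i hi
    obtain ⟨v', hv', hv'1, hv'j⟩ := hkinv j hj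
    exact ((hvi.symm.trans (honeZ v hv hv1).symm).trans (honeZ v' hv' hv'1)).trans hv'j
  have hordζ : ∀ w (hw : w ∈ F.A ⊓ F.B), w ≠ 1 → orderOf (ζ w hw) = 2 := fun w hw h => by
    rw [← Subgroup.orderOf_coe, ← Subgroup.orderOf_coe]; exact hzord w hw h
  have hz' : y * z * y⁻¹ ∈ F.A ⊓ F.B := conj_Z hy hz
  have hz'1 : y * z * y⁻¹ ≠ 1 := fun e => hz1 (conj_eq_one_iff.1 e)
  haveI : Fintype K := Fintype.ofFinite _
  have hcom : Commute (ζ z hz) (ζ _ hz') := Subtype.ext (Subtype.ext (F.A_comm hz.1 hz'.1))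
  have hne : ζ z hz ≠ ζ _ hz' := fun e => hyf z hz hz1
    (congrArg (fun r : K => ((r : C) : G)) e).symm
  rcases four_dichotomy h8 (ζ z hz) (ζ _ hz') (hordζ z hz hz1) (hordζ _ hz' hz'1) hcom hne hone with
    hnorm | hlt
  · exfalso
    refine hnl (P.loc_of_congr hb hbA fun g hg w hw hw1 => ?_)
    have hmem : (⟨g, hg⟩ : C) * ⟨w, hZC hw⟩ * (⟨g, hg⟩ : C)⁻¹ ∈ K := hKn.conj_mem _ (hZK w hw) _
    set i : K := ⟨_, hmem⟩ with hi
    have hio : orderOf i = 2 := by
      rw [hi, Subgroup.orderOf_mk, CfsgLib.Involutions.orderOf_conj, Subgroup.orderOf_mk]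
      exact hzord w hw hw1
    obtain ⟨v, hv, hvi⟩ := hnorm i hio
    have hcore : ∀ r : K, r ∈ Cfsg.oddCore K → ((r : C) : G) ∈ Oc b := by
      intro r hr
      haveI := CfsgLib.Cores.pPrimeCore_characteristic 2 ↥K
      have hn : ((Cfsg.pPrimeCore 2 ↥K).map K.subtype).Normal :=
        ConjAct.normal_of_characteristic_of_normal
      haveI := hn
      have hle : (Cfsg.pPrimeCore 2 ↥K).map K.subtype ≤ oddCore ↥C := CfsgLib.Cores.le_oddCore (by
        rw [card_map_of_injective K.subtype_injective]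
        exact CfsgLib.Cores.odd_card_oddCore)
      exact ⟨(r : C), hle ⟨r, hr, rfl⟩, rfl⟩
    have h1 : i * v⁻¹ ∈ Cfsg.oddCore K := by
      haveI : (Cfsg.oddCore K).Normal := inferInstance
      rw [← QuotientGroup.eq_one_iff, QuotientGroup.mk_mul, QuotientGroup.mk_inv, hvi, mul_inv_cancel]
    have h2 := hcore _ h1
    simp only [Set.mem_insert_iff, Set.mem_singleton_iff] at hv
    rcases hv with rfl | rfl | rfl
    · exact ⟨z, hz, h2⟩
    · exact ⟨_, hz', h2⟩
    · exact ⟨_, mul_mem hz hz', h2⟩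
  -- counting
  set I := invols ↥K with hI
  have hmI : ∀ {w : K}, w ∈ I ↔ orderOf w = 2 := fun {w} => by simp [hI, invols]
  have hKG : ∀ w : K, orderOf w = 2 → IsConj z ((w : C) : G) ∧ ((w : C) : G) * b = b * ((w : C) : G) := by
    intro w hw
    obtain ⟨v, hv, hv1, hvw⟩ := hkinv w hw
    refine ⟨(P.conj_of_Z hz hz1 hv hv1).trans ?_, mem_cent.1 (w : C).2⟩
    exact (C.subtype.comp K.subtype).map_isConj hvw
  have hcard : (com b z).card = I.card := by
    refine (Finset.card_bij (fun (w : K) _ => ((w : C) : G)) (fun w hw => ?_) (fun w _ w' _ e => ?_)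
      (fun x hx => ?_)).symm
    · exact mem_com.2 (hKG w (hmI.1 hw))
    · exact Subtype.ext (Subtype.ext e)
    · obtain ⟨hx1, hx2⟩ := mem_com.1 hx
      have hxo : orderOf x = 2 := orderOf_of_cls (F.A_sq hz.1) hz1 hx1
      obtain ⟨R, hR⟩ := (IsPGroup.of_card (n := 1) (by
        rw [Nat.card_zpowers, Subgroup.orderOf_mk, hxo, pow_one]) :
        IsPGroup 2 (zpowers (⟨x, mem_cent.2 hx2⟩ : C))).exists_le_sylow
      obtain ⟨c, hc⟩ := MulAction.exists_smul_eq C R T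
      set xC : C := ⟨x, mem_cent.2 hx2⟩
      have h1 : c * xC * c⁻¹ ∈ (T : Subgroup C) := by
        rw [← hc]; exact ⟨_, hR (mem_zpowers _), rfl⟩
      have hA : ((c * xC * c⁻¹ : C) : G) ∈ F.A := by
        by_contra hA
        refine P.Z_not_conj_B hz (hmT.1 h1) hA (IsConj.symm (hx1.trans ?_))
        exact isConj_iff.2 ⟨(c : G), rfl⟩
      have h2 : c * xC * c⁻¹ ∈ K := hZK _ ⟨hA, hmT.1 h1⟩
      have h3 := hKn.conj_mem _ h2 c⁻¹
      rw [show c⁻¹ * (c * xC * c⁻¹) * c⁻¹⁻¹ = xC by group] at h3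
      refine ⟨⟨xC, h3⟩, hmI.2 ?_, rfl⟩
      rw [Subgroup.orderOf_mk, Subgroup.orderOf_mk, hxo]
  set Pb := (cls z ×ˢ cls b).filter fun p => half p.1 p.2 = b with hPb
  have hPb_ge : (∑ x ∈ I, (oddMates x).card) ≤ Pb.card := by
    rw [← Finset.card_sigma]
    refine Finset.card_le_card_of_injOn
      (fun p => (((p.1 : C) : G), b * ((p.2 : C) : G))) (fun p hp => ?_) ?_
    · obtain ⟨h1, h2⟩ := Finset.mem_sigma.1 hp
      obtain ⟨h2', h3⟩ := Finset.mem_filter.1 h2
      obtain ⟨hx1, hx2⟩ := hKG _ (hmI.1 h1)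
      obtain ⟨hx'1, hx'2⟩ := hKG _ (hmI.1 h2')
      set x : G := ((p.1 : C) : G)
      set x' : G := ((p.2 : C) : G)
      have hbx : IsConj b (b * x') := by
        obtain ⟨v, hv, hv1, hvw⟩ := hkinv _ (hmI.1 h2')
        obtain ⟨k, hk⟩ := isConj_iff.1 hvw
        have hk' : ((k : C) : G) * v * ((k : C) : G)⁻¹ = x' := congrArg (fun r : K => ((r : C) : G)) hk
        have hbv : b * v ∈ F.B ∧ b * v ∉ F.A :=
          ⟨mul_mem hb hv.2, fun h => hbA ((F.A.mul_mem_cancel_right hv.1).1 h)⟩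
        refine (P.conj_of_B hb hbA hbv.1 hbv.2).trans (isConj_iff.2 ⟨((k : C) : G), ?_⟩)
        rw [← hk']
        calc ((k : C) : G) * (b * v) * ((k : C) : G)⁻¹ = (((k : C) : G) * b) * v * ((k : C) : G)⁻¹ := by
              group
          _ = _ := by rw [mem_cent.1 (k : C).2]; group
      refine Finset.mem_filter.2 ⟨Finset.mem_product.2 ⟨mem_cls.2 hx1, mem_cls.2 hbx⟩, ?_⟩
      show half x (b * x') = b
      have hd : Odd (orderOf (x * x')) := by
        have e : orderOf (p.1 * p.2) = orderOf (x * x') :=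
          (orderOf_injective (C.subtype.comp K.subtype)
            (C.subtype_injective.comp K.subtype_injective) _).symm
        rwa [e] at h3
      set d := orderOf (x * x')
      have hprod : x * (b * x') = b * (x * x') := by rw [← mul_assoc, hx2, mul_assoc]
      have hbc : Commute b (x * x') :=
        ((show Commute x b from hx2).mul_left (show Commute x' b from hx'2)).symm
      have hpd : (x * (b * x')) ^ d = b := by
        rw [hprod, hbc.mul_pow, pow_orderOf_eq_one, mul_one]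
        obtain ⟨j, hj⟩ := hd
        rw [hj, pow_succ, pow_mul, pow_two, F.B_sq hb, one_pow, one_mul]
      exact (CfsgLib.Involutions.eq_half_of_mem_zpowers hbord
        (Subgroup.mem_zpowers_iff.2 ⟨(d : ℤ), by rw [zpow_natCast, hpd]⟩)).2.symm
    · rintro ⟨p, p'⟩ _ ⟨r, r'⟩ _ e
      simp only [Prod.mk.injEq, mul_right_inj] at e
      obtain ⟨e1, e2⟩ := e
      obtain rfl : p = r := Subtype.ext (Subtype.ext e1)
      obtain rfl : p' = r' := Subtype.ext (Subtype.ext e2)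
      rfl
  have hPb_le : (cls b).card * Pb.card ≤ (cls z).card * (cls b).card := by
    rw [← Finset.card_product (cls z) (cls b), ← smul_eq_mul (a := (cls b).card), ← Finset.sum_const]
    have hfib : ∀ w ∈ cls b, Pb.card = ((cls z ×ˢ cls b).filter fun p => half p.1 p.2 = w).card := by
      intro w hw
      obtain ⟨g, rfl⟩ := isConj_iff.1 (mem_cls.1 hw)
      refine Finset.card_bij' (fun p _ => (g * p.1 * g⁻¹, g * p.2 * g⁻¹))
        (fun p _ => (g⁻¹ * p.1 * g, g⁻¹ * p.2 * g)) (fun p hp => ?_) (fun p hp => ?_)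
        (fun p _ => by ext <;> group) (fun p _ => by ext <;> group)
      · simp only [hPb, Finset.mem_filter, Finset.mem_product, mem_cls] at hp ⊢
        exact ⟨⟨hp.1.1.trans (isConj_iff.2 ⟨g, rfl⟩), hp.1.2.trans (isConj_iff.2 ⟨g, rfl⟩)⟩,
          by rw [half_conj, hp.2]⟩
      · simp only [hPb, Finset.mem_filter, Finset.mem_product, mem_cls] at hp ⊢
        refine ⟨⟨hp.1.1.trans (isConj_iff.2 ⟨g⁻¹, by group⟩),
          hp.1.2.trans (isConj_iff.2 ⟨g⁻¹, by group⟩)⟩, ?_⟩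
        have h := half_conj g⁻¹ p.1 p.2
        rw [inv_inv] at h
        rw [h, hp.2]; group
    rw [Finset.sum_congr rfl hfib,
      ← Finset.card_biUnion (fun u _ v _ huv => Finset.disjoint_left.2 fun p hu hv =>
        huv ((Finset.mem_filter.1 hu).2.symm.trans (Finset.mem_filter.1 hv).2))]
    exact Finset.card_le_card (Finset.biUnion_subset.2 fun w _ => Finset.filter_subset _ _)
  have hPb_z : Pb.card ≤ (cls z).card := by
    have hpos : 0 < (cls b).card := Finset.card_pos.2 ⟨b, mem_cls.2 (IsConj.refl b)⟩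
    rw [mul_comm (cls z).card] at hPb_le
    exact Nat.le_of_mul_le_mul_left hPb_le hpos
  have hIne : I.Nonempty := ⟨ζ z hz, hmI.2 (hordζ z hz hz1)⟩
  have hsum : ∑ _x ∈ I, I.card < ∑ x ∈ I, 3 * (oddMates x).card :=
    Finset.sum_lt_sum_of_nonempty hIne fun x hx =>
      oddMates_large h8 _ _ (hordζ z hz hz1) (hordζ _ hz' hz'1) hcom hne hone hlt (hmI.1 hx)
  rw [Finset.sum_const, smul_eq_mul, ← Finset.mul_sum] at hsum
  rw [hcard]
  omega

end BadCount

namespace Frame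

variable {G : Type u} [Group G] [Finite G] (F : Frame G)

/-- Turns on both sides: one of the two sides is local. -/
theorem loc_or_loc (hAs : F.Small) (hBs : F.symm.Small)
    (hcl : ∀ a ∈ F.A, a ∉ F.B → ∀ g : G, g * a * g⁻¹ ∈ (F.S : Subgroup G) →
      g * a * g⁻¹ ∈ F.A ∧ g * a * g⁻¹ ∉ F.B)
    (hclB : ∀ b ∈ F.B, b ∉ F.A → ∀ g : G, g * b * g⁻¹ ∈ (F.S : Subgroup G) →
      g * b * g⁻¹ ∈ F.B ∧ g * b * g⁻¹ ∉ F.A)
    (hZ : ∀ z ∈ F.A ⊓ F.B, z ≠ 1 →
      Loc (normalizer (F.A : Set G) ⊓ normalizer (F.B : Set G)) z)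
    (hdA : ∀ a ∈ F.A, a ∉ F.B → Loc (normalizer (F.A : Set G)) a ∨
      ∃ y, y ∈ normalizer (F.A : Set G) ⊓ normalizer (F.B : Set G) ∧ y * a = a * y ∧
        Odd (orderOf y) ∧ (∀ s ∈ (F.S : Subgroup G), y ^ 3 * s = s * y ^ 3) ∧
        ∀ z ∈ F.A ⊓ F.B, z ≠ 1 → y * z * y⁻¹ ≠ z)
    (hdB : ∀ b ∈ F.B, b ∉ F.A → Loc (normalizer (F.B : Set G)) b ∨
      ∃ y, y ∈ normalizer (F.A : Set G) ⊓ normalizer (F.B : Set G) ∧ y * b = b * y ∧
        Odd (orderOf y) ∧ (∀ s ∈ (F.S : Subgroup G), y ^ 3 * s = s * y ^ 3) ∧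
        ∀ z ∈ F.A ⊓ F.B, z ≠ 1 → y * z * y⁻¹ ≠ z) :
    (∀ b ∈ F.B, b ≠ 1 → Loc (normalizer (F.B : Set G)) b) ∨
      (∀ a ∈ F.A, a ≠ 1 → Loc (normalizer (F.A : Set G)) a) := by
  classical
  haveI := Fintype.ofFinite G
  by_contra hcon
  push Not at hcon
  obtain ⟨⟨b, hb, hb1, hbn⟩, a, ha, ha1, han⟩ := hcon
  have hbA : b ∉ F.A := fun h => hbn fun g hg => by
    obtain ⟨o, ho, n, hn, e⟩ := hZ b ⟨h, hb⟩ hb1 g hg
    exact ⟨o, ho, n, hn.2, e⟩
  have haB : a ∉ F.B := fun h => han fun g hg => by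
    obtain ⟨o, ho, n, hn, e⟩ := hZ a ⟨ha, h⟩ ha1 g hg
    exact ⟨o, ho, n, hn.1, e⟩
  obtain ⟨ya, hya, hyaa, hyao, hyac, hyaf⟩ := (hdA a ha haB).resolve_left han
  obtain ⟨yb, hyb, hybb, hybo, hybc, hybf⟩ := (hdB b hb hbA).resolve_left hbn
  have hsmallB : normalizer (F.B : Set G) ≤ normalizer ((F.A ⊓ F.B : Subgroup G) : Set G) := by
    have h : normalizer (F.B : Set G) ≤ normalizer ((F.B ⊓ F.A : Subgroup G) : Set G) := hBs
    rwa [inf_comm] at h
  have P : BadCount.Both F :=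
    ⟨hcl, hclB, hZ, hAs, hsmallB, ⟨a, ha, haB, ya, hya, hyaa, ⟨hyao, hyac⟩, hyaf⟩,
      ⟨b, hb, hbA, yb, hyb, hybb, ⟨hybo, hybc⟩, hybf⟩⟩
  obtain ⟨z, hz, hz1⟩ := BadCount.exists_Z_ne_one F
  have h3 := P.three_mul ha haB hb hbA hz hz1
  have hB' := P.sq_lt hb hbA hyb hybb ⟨hybo, hybc⟩ hybf hbn hz hz1
  have hA' := P.symm.sq_lt ha haB ⟨hya.2, hya.1⟩ hyaa ⟨hyao, hyac⟩ (fun w hw => hyaf w ⟨hw.2, hw.1⟩) han
    (show z ∈ F.symm.A ⊓ F.symm.B from ⟨hz.2, hz.1⟩) hz1
  rw [h3] at hA' hB'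
  have h1 := Nat.lt_of_mul_lt_mul_left hA'
  have h2 := Nat.lt_of_mul_lt_mul_right hB'
  omega

end Frame

end CfsgLib.LinearThreeFourType
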