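import Cfsg.Agent.Lib.TwoPointAltFour.KleinRatio

/-!
A group with a four-group as Sylow 2-subgroup and one class of involutions: either the four-group
is normal modulo the odd core, or most products of two involutions have odd order.
-/

set_option autoImplicit false
set_option linter.style.haveILetI false
set_option linter.unusedSectionVars false

open Cfsg CfsgLib.GW CfsgLib.TwoPointAltFour
open scoped Classical

namespace CfsgLib.LinearThreeFourType.BadCount

/-- The dichotomy. -/
theorem four_dichotomy {X : Type*} [Group X] [Finite X] (h8 : ¬ 8 ∣ Nat.card X) (t u : X)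
    (ht : orderOf t = 2) (hu : orderOf u = 2) (htu : Commute t u) (hne : t ≠ u)
    (hone : ∀ i j : X, orderOf i = 2 → orderOf j = 2 → IsConj i j) :
    (∀ w : X, orderOf w = 2 → ∃ v ∈ ({t, u, t * u} : Set X),
      (QuotientGroup.mk w : X ⧸ Cfsg.oddCore X) = QuotientGroup.mk v) ∨
    6 * Nat.card (Subgroup.centralizer ({t} : Set X)) ^ 3 <
      Nat.card X * Nat.card (Subgroup.centralizer ({t, u} : Set X)) ^ 2 := by
  haveI : Fact (Nat.Prime 2) := ⟨Nat.prime_two⟩
  have htt : t * t = 1 := PGLTwo.mul_self_of_orderOf ht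
  have huu : u * u = 1 := PGLTwo.mul_self_of_orderOf hu
  have hv2 : t * u * (t * u) = 1 := by
    rw [mul_assoc, ← mul_assoc u, ← htu.eq, mul_assoc, huu, mul_one, htt]
  have hv : orderOf (t * u) = 2 := by
    refine orderOf_eq_prime (by rw [pow_two, hv2]) fun h => hne ?_
    rw [mul_eq_one_iff_eq_inv, inv_eq_of_mul_eq_one_right huu] at h
    exact h
  -- the four-group
  have ht1 : t ≠ 1 := fun h => by rw [h, orderOf_one] at ht; omega
  have hu1 : u ≠ 1 := fun h => by rw [h, orderOf_one] at hu; omega
  have hv1 : t * u ≠ 1 := fun h => by rw [h, orderOf_one] at hv; omega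
  let V : Subgroup X :=
    { carrier := {x | x = 1 ∨ x = t ∨ x = u ∨ x = t * u}
      one_mem' := Or.inl rfl
      mul_mem' := by
        have e : u * t = t * u := htu.symm.eq
        have e1 : t * (t * u) = u := by rw [← mul_assoc, htt, one_mul]
        have e2 : u * (t * u) = t := by rw [← e, ← mul_assoc, huu, one_mul]
        have e3 : t * u * t = u := by rw [← e, mul_assoc, htt, mul_one]
        have e4 : t * u * u = t := by rw [mul_assoc, huu, mul_one]
        rintro a b (rfl | rfl | rfl | rfl) (rfl | rfl | rfl | rfl) <;>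
          simp [htt, huu, hv2, e, e1, e2, e3, e4]
      inv_mem' := by
        rintro a (rfl | rfl | rfl | rfl)
        · exact Or.inl inv_one
        · exact Or.inr (Or.inl (inv_eq_of_mul_eq_one_right htt))
        · exact Or.inr (Or.inr (Or.inl (inv_eq_of_mul_eq_one_right huu)))
        · exact Or.inr (Or.inr (Or.inr (inv_eq_of_mul_eq_one_right hv2))) }
  have hVcard : Nat.card V = 4 := by
    have hset : (V : Set X) = (({1, t, u, t * u} : Finset X) : Set X) := by
      ext x; simp [V]
    rw [← SetLike.coe_sort_coe, hset, Nat.card_coe_set_eq, Set.ncard_coe_finset,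
      Finset.card_insert_of_notMem, Finset.card_insert_of_notMem, Finset.card_insert_of_notMem,
      Finset.card_singleton] <;>
      simp [hne, ht1.symm, hu1.symm, hv1.symm, ht1, hu1]
  have hVp : IsPGroup 2 V := IsPGroup.of_card (n := 2) (by rw [hVcard]; rfl)
  -- a four-group is a Sylow 2-subgroup
  have hd : HasDihedralSylow X := by
    have hidx : ¬ 2 ∣ V.index := fun h => h8 (by
      rw [← V.card_mul_index, hVcard]
      exact (Nat.mul_dvd_mul_left 4 h : 4 * 2 ∣ 4 * V.index))
    haveI : Nontrivial V := Finite.one_lt_card_iff_nontrivial.1 (by rw [hVcard]; decide)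
    haveI : IsKleinFour V := ⟨hVcard, (Monoid.exponent_eq_prime_iff Nat.prime_two).2 fun a ha => by
      rw [← Subgroup.orderOf_coe]
      rcases a.2 with h | h | h | h
      · exact absurd (Subtype.ext h) ha
      all_goals rw [h]; assumption⟩
    exact ⟨hVp.toSylow hidx, 2, le_rfl,
      (IsKleinFour.nonempty_mulEquiv : Nonempty (V ≃* DihedralGroup 2))⟩
  set O := Cfsg.oddCore X with hOdef
  haveI : O.Normal := by
    haveI := CfsgLib.Cores.pPrimeCore_characteristic 2 X
    rw [hOdef, Cfsg.oddCore]; infer_instance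
  have hOodd : Odd (Nat.card O) := CfsgLib.Cores.odd_card_oddCore
  set π := QuotientGroup.mk' O with hπ
  have hker : π.ker = O := QuotientGroup.ker_mk' _
  have htV : t ∈ V := Or.inr (Or.inl rfl)
  have huV : u ∈ V := Or.inr (Or.inr (Or.inl rfl))
  -- centralizers modulo the core
  have h1 := card_centralizer_hom π (QuotientGroup.mk'_surjective _) (by rw [hker]; exact hOodd) {t}
    (hVp.to_le ((Subgroup.closure_le _).2 (by simpa using htV)))
  have h2 := card_centralizer_hom π (QuotientGroup.mk'_surjective _) (by rw [hker]; exact hOodd)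
    {t, u} (hVp.to_le ((Subgroup.closure_le _).2 (by
      intro x hx
      rcases hx with rfl | rfl
      · exact htV
      · exact huV)))
  rw [Set.image_singleton, hker] at h1
  rw [Set.image_pair, hker] at h2
  -- the order formula in the core
  have hconj : ∀ w : X, orderOf w = 2 →
      Nat.card (O ⊓ Subgroup.centralizer ({w} : Set X) : Subgroup X) =
        Nat.card (O ⊓ Subgroup.centralizer ({t} : Set X) : Subgroup X) := by
    intro w hw
    obtain ⟨g, hg⟩ := isConj_iff.1 (hone t w ht hw)
    rw [← Subgroup.card_map_of_injective (f := (MulAut.conj g).toMonoidHom) (MulAut.conj g).injective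
      (K := O ⊓ Subgroup.centralizer ({t} : Set X))]
    congr 2
    ext x
    rw [Subgroup.mem_map_equiv, MulAut.conj_symm_apply]
    simp only [Subgroup.mem_inf, Subgroup.mem_centralizer_singleton_iff]
    subst hg
    constructor
    · rintro ⟨hx, hc⟩
      refine ⟨?_, ?_⟩
      · have := (inferInstance : O.Normal).conj_mem x hx g⁻¹
        rwa [inv_inv] at this
      · calc g⁻¹ * x * g * t = g⁻¹ * (x * (g * t * g⁻¹)) * g := by group
          _ = g⁻¹ * (g * t * g⁻¹ * x) * g := by rw [hc]
          _ = t * (g⁻¹ * x * g) := by group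
    · rintro ⟨hx, hc⟩
      refine ⟨?_, ?_⟩
      · have := (inferInstance : O.Normal).conj_mem _ hx g
        rwa [show g * (g⁻¹ * x * g) * g⁻¹ = x by group] at this
      · calc x * (g * t * g⁻¹) = g * (g⁻¹ * x * g * t) * g⁻¹ := by group
          _ = g * (t * (g⁻¹ * x * g)) * g⁻¹ := by rw [hc]
          _ = g * t * g⁻¹ * x := by group
  have hR := card_mul_sq_eq hOodd htt huu htu
    (Subgroup.normalizer_eq_top (O) ▸ Subgroup.mem_top t)
    (Subgroup.normalizer_eq_top (O) ▸ Subgroup.mem_top u)
  rw [hconj u hu, hconj (t * u) hv] at hR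
  -- the quotient
  have hcardX : Nat.card X = Nat.card O * Nat.card (X ⧸ O) := by
    rw [Subgroup.card_eq_card_quotient_mul_card_subgroup O, mul_comm]
  have hinj := CfsgLib.GW.mk_injective_on_pgroup hVp O hOodd
  have hord : ∀ w ∈ V, orderOf (π w) = orderOf w := fun w hw => by
    exact (orderOf_injective (π.comp V.subtype) hinj ⟨w, hw⟩).trans (Subgroup.orderOf_coe _).symm
  have hneb : π t ≠ π u := fun h =>
    hne (congrArg Subtype.val (@hinj ⟨t, htV⟩ ⟨u, huV⟩ h))
  have honeb : ∀ i j : X ⧸ O, orderOf i = 2 → orderOf j = 2 → IsConj i j := by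
    have lift : ∀ i : X ⧸ O, orderOf i = 2 → ∃ w : X, orderOf w = 2 ∧ π w = i := by
      intro i hi
      obtain ⟨x, rfl⟩ := QuotientGroup.mk'_surjective O i
      have hx2 : x ^ 2 ∈ O := by
        rw [← hker, MonoidHom.mem_ker, map_pow, ← hi, pow_orderOf_eq_one]
      set n := Nat.card O with hn
      refine ⟨x ^ n, ?_, ?_⟩
      · refine orderOf_eq_prime ?_ fun h => ?_
        · rw [← pow_mul, mul_comm, pow_mul]
          exact congrArg Subtype.val (pow_card_eq_one' (G := O) (x := ⟨x ^ 2, hx2⟩))
        · have := congrArg π h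
          rw [map_pow, map_one, ← orderOf_dvd_iff_pow_eq_one, hi] at this
          exact Nat.not_even_iff_odd.2 hOodd (even_iff_two_dvd.2 this)
      · obtain ⟨k, hk⟩ := hOodd
        rw [map_pow, hk, pow_succ, pow_mul, ← hi, pow_orderOf_eq_one, one_pow, one_mul]
    intro i j hi hj
    obtain ⟨a, ha, rfl⟩ := lift i hi
    obtain ⟨b, hb, rfl⟩ := lift j hj
    exact π.map_isConj (hone a b ha hb)
  have hvb : π (t * u) ≠ π t ∧ π (t * u) ≠ π u := by
    refine ⟨fun h => ?_, fun h => ?_⟩
    · rw [map_mul, mul_eq_left] at h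
      exact hu1 (congrArg Subtype.val (@hinj ⟨u, huV⟩ 1 (h.trans (map_one π).symm)))
    · rw [map_mul, mul_eq_right] at h
      exact ht1 (congrArg Subtype.val (@hinj ⟨t, htV⟩ 1 (h.trans (map_one π).symm)))
  rcases core_free_counts (hasDihedralSylow_quotient hd)
      (CfsgLib.Cores.pPrimeCore_quotient_pPrimeCore 2) (π t) (π u) (by rw [hord t htV, ht])
      (by rw [hord u huV, hu]) (htu.map π) hneb honeb with
    ⟨⟨e⟩⟩ | ⟨q, φ, ε, hq, hodd, hε, h4, hφ, hN, hC, hD⟩
  · exfalso
    refine h8 ?_
    rw [hcardX, Nat.card_congr e.toEquiv, card_seven]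
    exact Dvd.dvd.mul_left (by decide) _
  generalize hNv : Nat.card (X ⧸ O) = Nq at hN hcardX
  generalize hCv : Nat.card (Subgroup.centralizer ({π t} : Set (X ⧸ O))) = Cq at hC h1
  generalize hDv : Nat.card (Subgroup.centralizer ({π t, π u} : Set (X ⧸ O))) = Dq at hD h2
  rcases (show q = 3 ∨ q ≠ 3 from em _) with hq3 | hq3
  · left
    -- the class of `t` in the quotient has three elements
    subst hq3
    have hεm : ε = -1 := by
      rcases hε with rfl | rfl
      · norm_num at h4
      · rfl
    subst hεm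
    have hφp : 0 < φ := hφ.pos
    have hC4 : Cq = 4 * φ := by push_cast at hC; omega
    have hN12 : Nq = 12 * φ := by push_cast at hN; omega
    haveI : Fintype (X ⧸ O) := Fintype.ofFinite _
    set K : Finset (X ⧸ O) := Finset.univ.filter (fun w => IsConj (π t) w) with hK
    have hKc : K.card * Cq = Nq := by
      have hset : K.card = (MulAction.orbit (ConjAct (X ⧸ O)) (π t)).ncard := by
        rw [← Set.ncard_coe_finset]
        congr 1
        ext w
        rw [ConjAct.mem_orbit_conjAct]
        rw [hK, Finset.mem_coe, Finset.mem_filter]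
        exact ⟨fun h => h.2.symm, fun h => ⟨Finset.mem_univ _, IsConj.symm h⟩⟩
      rw [hset, ← hNv, ← hCv, ← MulAction.index_stabilizer]
      rw [show Nat.card (Subgroup.centralizer ({π t} : Set (X ⧸ O))) =
        Nat.card (MulAction.stabilizer (ConjAct (X ⧸ O)) (π t)) by
          rw [ConjAct.stabilizer_eq_centralizer]
          exact Nat.card_congr (Equiv.subtypeEquiv ConjAct.toConjAct.toEquiv (fun _ => Iff.rfl))]
      rw [mul_comm, Subgroup.card_mul_index]
      exact Nat.card_congr ConjAct.ofConjAct.toEquiv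
    have hK3 : K.card = 3 := by
      rw [hC4, hN12] at hKc
      exact Nat.eq_of_mul_eq_mul_right (show 0 < 4 * φ by omega) (by rw [hKc]; ring)
    have hsub : ({π t, π u, π (t * u)} : Finset (X ⧸ O)) ⊆ K := by
      intro w hw
      simp only [Finset.mem_insert, Finset.mem_singleton] at hw
      refine Finset.mem_filter.2 ⟨Finset.mem_univ _, ?_⟩
      rcases hw with rfl | rfl | rfl
      · exact π.map_isConj (IsConj.refl t)
      · exact π.map_isConj (hone t u ht hu)
      · exact π.map_isConj (hone t _ ht hv)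
    have h3 : ({π t, π u, π (t * u)} : Finset (X ⧸ O)).card = 3 := by
      rw [Finset.card_insert_of_notMem, Finset.card_insert_of_notMem, Finset.card_singleton]
      · rw [Finset.mem_singleton]; exact hvb.2.symm
      · simp only [Finset.mem_insert, Finset.mem_singleton, not_or]
        exact ⟨hneb, hvb.1.symm⟩
    have hKe := Finset.eq_of_subset_of_card_le hsub (by omega)
    intro w hw
    have hwK : π w ∈ ({π t, π u, π (t * u)} : Finset (X ⧸ O)) :=
      hKe ▸ Finset.mem_filter.2 ⟨Finset.mem_univ _, π.map_isConj (hone t w ht hw)⟩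
    simp only [Finset.mem_insert, Finset.mem_singleton] at hwK
    rcases hwK with h | h | h
    · exact ⟨t, Or.inl rfl, h⟩
    · exact ⟨u, Or.inr (Or.inl rfl), h⟩
    · exact ⟨t * u, Or.inr (Or.inr rfl), h⟩
  · right
    rw [h1, h2, hcardX]
    set o := Nat.card O
    set α := Nat.card (O ⊓ Subgroup.centralizer ({t} : Set X) : Subgroup X)
    set β := Nat.card (O ⊓ Subgroup.centralizer ({t, u} : Set X) : Subgroup X)
    have hα : 0 < α := Nat.card_pos
    have hφp : (0 : ℤ) < φ := by exact_mod_cast hφ.pos
    have hq5 : 5 ≤ q := by obtain ⟨k, rfl⟩ := hodd; omega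
    have key : 6 * Cq ^ 3 < Nq * Dq ^ 2 := by
      have hND : ((Nq : ℤ)) * (Dq : ℤ) ^ 2 = 8 * q * ((q : ℤ) ^ 2 - 1) * (φ : ℤ) ^ 3 := by
        rw [hD]; push_cast
        linear_combination (8 * (φ : ℤ) ^ 2) * hN
      have hq' : (5 : ℤ) ≤ q := by exact_mod_cast hq5
      have hmain : 6 * ((q : ℤ) - ε) ^ 3 < 8 * q * ((q : ℤ) ^ 2 - 1) := by
        rcases hε with rfl | rfl
        · nlinarith
        · have hq11 : 11 ≤ q := by
            have h7 : q ≠ 7 := by
              intro e
              subst e
              refine h8 ?_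
              rw [hcardX]
              have : Nq = 168 * φ := by push_cast at hN; omega
              rw [this]
              exact Dvd.dvd.mul_left (Dvd.dvd.mul_right (by decide) φ) o
            obtain ⟨k, rfl⟩ := hodd
            omega
          have hq11' : (11 : ℤ) ≤ q := by exact_mod_cast hq11
          nlinarith
      have : (6 : ℤ) * (Cq : ℤ) ^ 3 < (Nq : ℤ) * (Dq : ℤ) ^ 2 := by
        rw [hND, hC, mul_pow, ← mul_assoc]
        exact mul_lt_mul_of_pos_right hmain (pow_pos hφp 3)
      exact_mod_cast this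
    calc 6 * (α * Cq) ^ 3 = α * α * α * (6 * Cq ^ 3) := by ring
      _ < α * α * α * (Nq * Dq ^ 2) := Nat.mul_lt_mul_of_pos_left key (by positivity)
      _ = o * Nq * (β * Dq) ^ 2 := by rw [← hR]; ring

end CfsgLib.LinearThreeFourType.BadCount
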