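import Cfsg.Agent.Lib.LinearThreeFourType.Setting

/-!
The centraliser of an element of `B` outside `A` when `N(B)` fixes the centre: it is generated by
its odd core and its part in `N(B)`, or contains a turn of the centre.
-/

set_option autoImplicit false

namespace CfsgLib.LinearThreeFourType

open Subgroup Cfsg CfsgLib.AEightThreeClasses

universe u

variable {G : Type u} [Group G]

theorem conj_mem_of_mem_normalizer {H : Subgroup G} {g x : G} (hg : g ∈ normalizer (H : Set G))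
    (hx : x ∈ H) : g * x * g⁻¹ ∈ H :=
  (mem_normalizer_iff.1 hg x).1 hx

/-- An element of odd order moving `x` to `ζ x`, `ζ` an involution it centralises, fixes `x`. -/
theorem eq_one_of_odd_moves [Finite G] {g x ζ : G} (hg : Odd (orderOf g)) (hζ : ζ * ζ = 1)
    (hc : g * ζ = ζ * g) (h : g * x * g⁻¹ = ζ * x) : ζ = 1 := by
  have hk : ∀ k : ℕ, g ^ k * x * (g ^ k)⁻¹ = ζ ^ k * x := by
    intro k
    induction k with
    | zero => simp
    | succ k ih =>
      have hck : g * ζ ^ k = ζ ^ k * g := (Commute.pow_right (show Commute g ζ from hc) k).eq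
      calc g ^ (k + 1) * x * (g ^ (k + 1))⁻¹ = g * (g ^ k * x * (g ^ k)⁻¹) * g⁻¹ := by
            rw [pow_succ']; group
        _ = g * ζ ^ k * x * g⁻¹ := by rw [ih]; group
        _ = ζ ^ k * (g * x * g⁻¹) := by rw [hck]; group
        _ = ζ ^ (k + 1) * x := by rw [h, pow_succ]; group
  have h1 := hk (orderOf g)
  rw [pow_orderOf_eq_one, inv_one, one_mul, mul_one] at h1
  obtain ⟨j, hj⟩ := hg
  rw [hj, pow_succ, pow_mul, pow_two, hζ, one_pow, one_mul] at h1
  exact mul_eq_right.1 h1.symm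

/-- An element of odd order lies in the subgroups containing a power of it by a power of two. -/
theorem mem_of_pow_two_pow [Finite G] {H : Subgroup G} {g : G} (hg : Odd (orderOf g)) (k : ℕ)
    (h : g ^ 2 ^ k ∈ H) : g ∈ H := by
  have hco : Nat.Coprime (orderOf g) (2 ^ k) := (Nat.coprime_two_right.2 hg).pow_right k
  have h1 := Nat.gcd_eq_gcd_ab (orderOf g) (2 ^ k)
  rw [Nat.coprime_iff_gcd_eq_one.1 hco] at h1
  have : g = (g ^ (2 ^ k : ℕ)) ^ ((orderOf g).gcdB (2 ^ k)) := by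
    calc g = g ^ ((1 : ℕ) : ℤ) := by simp
      _ = _ := by
        rw [h1, zpow_add, zpow_mul, zpow_natCast, pow_orderOf_eq_one, one_zpow, one_mul, zpow_mul,
          zpow_natCast]
  rw [this]
  exact zpow_mem h _

namespace Frame

variable [Finite G] (F : Frame G)

theorem Z_cases {z x w : G} (hz : z ∈ F.A ⊓ F.B) (hz1 : z ≠ 1) (hx : x ∈ F.A ⊓ F.B) (hx1 : x ≠ 1)
    (hxz : x ≠ z) (hw : w ∈ F.A ⊓ F.B) : w = 1 ∨ w = z ∨ w = x ∨ w = z * x := by
  classical
  have hzz := F.A_sq hz.1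
  have h4 : ({1, z, x, z * x} : Finset G).card = 4 := by
    have e1 : z * x ≠ 1 := fun h => hxz (mul_left_cancel (h.trans hzz.symm))
    have e2 : z * x ≠ z := fun h => hx1 (mul_eq_left.1 h)
    have e3 : z * x ≠ x := fun h => hz1 (mul_eq_right.1 h)
    rw [Finset.card_insert_of_notMem (by simp [Ne.symm hz1, Ne.symm hx1, Ne.symm e1]),
      Finset.card_insert_of_notMem (by simp [Ne.symm hxz, Ne.symm e2]),
      Finset.card_pair (Ne.symm e3)]
  by_contra h
  push Not at h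
  have h5 : ({w, 1, z, x, z * x} : Finset G).card = 5 := by
    rw [Finset.card_insert_of_notMem (by simp [h.1, h.2.1, h.2.2.1, h.2.2.2]), h4]
  have hsub : (({w, 1, z, x, z * x} : Finset G) : Set G) ⊆ ((F.A ⊓ F.B : Subgroup G) : Set G) := by
    intro y hy
    simp only [Finset.coe_insert, Finset.coe_singleton, Set.mem_insert_iff,
      Set.mem_singleton_iff] at hy
    rcases hy with rfl | rfl | rfl | rfl | rfl
    · exact hw
    · exact one_mem _
    · exact hz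
    · exact hx
    · exact mul_mem hz hx
  have := Set.ncard_le_ncard hsub
  rw [Set.ncard_coe_finset, h5, ← Nat.card_coe_set_eq, SetLike.coe_sort_coe, F.card_Z] at this
  omega

theorem conj_mem_Z {g w : G} (hA : g ∈ normalizer (F.A : Set G)) (hB : g ∈ normalizer (F.B : Set G))
    (hw : w ∈ F.A ⊓ F.B) : g * w * g⁻¹ ∈ F.A ⊓ F.B :=
  ⟨conj_mem_of_mem_normalizer hA hw.1, conj_mem_of_mem_normalizer hB hw.2⟩

/-- An element of odd order normalising `Z` and fixing one of its involutions centralises it. -/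
theorem fix_Z_of_fix_one {g : G} (hg : Odd (orderOf g))
    (hn : g ∈ normalizer ((F.A ⊓ F.B : Subgroup G) : Set G)) {z : G} (hz : z ∈ F.A ⊓ F.B)
    (hz1 : z ≠ 1) (hf : g * z * g⁻¹ = z) {x : G} (hx : x ∈ F.A ⊓ F.B) : g * x * g⁻¹ = x := by
  by_cases hx1 : x = 1
  · subst hx1; group
  by_cases hxz : x = z
  · subst hxz; exact hf
  have hc : g * z = z * g := mul_inv_eq_iff_eq_mul.1 hf
  rcases F.Z_cases hz hz1 hx hx1 hxz (conj_mem_of_mem_normalizer hn hx) with h | h | h | h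
  · exact absurd (conj_eq_one_iff.1 h) hx1
  · exact absurd (mul_left_cancel (mul_right_cancel (h.trans hf.symm))) hxz
  · exact h
  · exact absurd (eq_one_of_odd_moves hg (F.A_sq hz.1) hc h) hz1

theorem conj_three {g : G} (hg : Odd (orderOf g))
    (hn : g ∈ normalizer ((F.A ⊓ F.B : Subgroup G) : Set G))
    (hfree : ∀ z ∈ F.A ⊓ F.B, z ≠ 1 → g * z * g⁻¹ ≠ z) {z : G} (hz : z ∈ F.A ⊓ F.B) :
    g ^ 3 * z * (g ^ 3)⁻¹ = z := by
  by_cases hz1 : z = 1
  · subst hz1; group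
  have hz' := conj_mem_of_mem_normalizer hn hz
  have hz'' := conj_mem_of_mem_normalizer hn hz'
  have hz''' := conj_mem_of_mem_normalizer hn hz''
  have e3 : g ^ 3 * z * (g ^ 3)⁻¹ = g * (g * (g * z * g⁻¹) * g⁻¹) * g⁻¹ := by
    simp only [pow_succ, pow_zero, one_mul, mul_inv_rev, mul_assoc]
  have hne' : g * z * g⁻¹ ≠ 1 := fun h => hz1 (conj_eq_one_iff.1 h)
  have hne'' : g * (g * z * g⁻¹) * g⁻¹ ≠ 1 := fun h => hne' (conj_eq_one_iff.1 h)
  have h2 : g * (g * z * g⁻¹) * g⁻¹ ≠ z := by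
    intro h
    refine hfree z hz hz1 (mem_cent_conj.1 (mem_of_pow_two_pow hg 1 (mem_cent_conj.2 ?_)))
    conv_rhs => rw [← h]
    simp only [pow_succ, pow_zero, one_mul, mul_inv_rev, mul_assoc]
  rw [e3]
  rcases F.Z_cases hz' hne' hz'' hne'' (hfree _ hz' hne') hz''' with h | h | h | h
  · exact absurd (conj_eq_one_iff.1 h) hne''
  · exact absurd (mul_left_cancel (mul_right_cancel h)) h2
  · exact absurd h (hfree _ hz'' hne'')
  · rcases F.Z_cases hz' hne' hz'' hne'' (hfree _ hz' hne') hz with h' | h' | h' | h'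
    · exact absurd h' hz1
    · exact absurd h'.symm (hfree _ hz hz1)
    · exact absurd h'.symm h2
    · rw [h, ← h']

/-- Elements of the odd core of the centraliser of `z` normalising `B` centralise it. -/
theorem core_commute {z o β : G} (hz : z ∈ F.A ⊓ F.B) (ho : o ∈ Oc z)
    (hoB : o ∈ normalizer (F.B : Set G)) (hβ : β ∈ F.B) : o * β * o⁻¹ = β := by
  have hβc : β ∈ centralizer ({z} : Set G) := mem_cent.2 (F.central z hz β (F.B_le hβ))
  have h1 : o * β * o⁻¹ * β⁻¹ ∈ F.B :=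
    mul_mem (conj_mem_of_mem_normalizer hoB hβ) (inv_mem hβ)
  have h2 : o * β * o⁻¹ * β⁻¹ ∈ Oc z := by
    rw [show o * β * o⁻¹ * β⁻¹ = o * (β * o⁻¹ * β⁻¹) by group]
    exact mul_mem ho (conj_mem_of_mem_normalizer (centralizer_le_normalizer_Oc z hβc) (inv_mem ho))
  exact mul_inv_eq_one.1 (eq_one_of_mem_odd (odd_card_Oc z) (F.B_sq h1) h2)

theorem exists_not_mem : ∃ a ∈ F.A, a ∉ F.B := by
  by_contra h
  push Not at h
  have := Subgroup.card_le_of_le (le_inf le_rfl h : F.A ≤ F.A ⊓ F.B)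
  rw [F.card_A, F.card_Z] at this
  omega

/-- A common normaliser fixing `b` and the centre is trivial on both quotients by the centre. -/
theorem fix_mod {b m : G} (hb : b ∈ F.B) (hbA : b ∉ F.A) (hmA : m ∈ normalizer (F.A : Set G))
    (hmB : m ∈ normalizer (F.B : Set G)) (hmb : m * b * m⁻¹ = b)
    (hmZ : ∀ z ∈ F.A ⊓ F.B, m * z * m⁻¹ = z) :
    (∀ a ∈ F.A, m * a * m⁻¹ * a⁻¹ ∈ F.A ⊓ F.B) ∧ ∀ β ∈ F.B, m * β * m⁻¹ * β⁻¹ ∈ F.A ⊓ F.B := by
  have hA : ∀ a ∈ F.A, m * a * m⁻¹ * a⁻¹ ∈ F.A ⊓ F.B := by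
    intro a ha
    have ha' := conj_mem_of_mem_normalizer hmA ha
    have hd : m * a * m⁻¹ * a⁻¹ ∈ F.A := mul_mem ha' (inv_mem ha)
    refine ⟨hd, by_contra fun hdB => F.not_commute hd hdB hb hbA ?_⟩
    have e : m * a * m⁻¹ * b * (m * a * m⁻¹)⁻¹ = a * b * a⁻¹ := by
      have h1 := hmZ _ (F.commutator_mem ha hb)
      have h2 : m * a * m⁻¹ * b * (m * a * m⁻¹)⁻¹ * b⁻¹ = a * b * a⁻¹ * b⁻¹ := by
        conv_rhs => rw [← h1]
        nth_rewrite 1 [← hmb]
        nth_rewrite 2 [← hmb]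
        group
      exact mul_right_cancel h2
    have e' : a⁻¹ * (m * a * m⁻¹) * b = b * (a⁻¹ * (m * a * m⁻¹)) := by
      calc a⁻¹ * (m * a * m⁻¹) * b
          = a⁻¹ * (m * a * m⁻¹ * b * (m * a * m⁻¹)⁻¹) * (m * a * m⁻¹) := by group
        _ = _ := by rw [e]; group
    rw [F.A_comm (inv_mem ha) ha'] at e'
    exact e'.symm
  refine ⟨hA, fun β hβ => ?_⟩
  obtain ⟨a, ha, haB⟩ := F.exists_not_mem
  obtain ⟨z0, hz0, hz0e⟩ : ∃ z0 ∈ F.A ⊓ F.B, m * a * m⁻¹ = z0 * a :=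
    ⟨_, hA a ha, by group⟩
  have hβ' := conj_mem_of_mem_normalizer hmB hβ
  have hd : m * β * m⁻¹ * β⁻¹ ∈ F.B := mul_mem hβ' (inv_mem hβ)
  refine ⟨by_contra fun hdA => F.not_commute ha haB hd hdA ?_, hd⟩
  have h1 := hmZ _ (F.commutator_mem ha hβ)
  have hzc : ∀ s ∈ (F.S : Subgroup G), s * z0 = z0 * s := F.central z0 hz0
  have e : a * (m * β * m⁻¹) * a⁻¹ * (m * β * m⁻¹)⁻¹ = a * β * a⁻¹ * β⁻¹ := by
    conv_rhs => rw [← h1]
    have hs := hzc _ (mul_mem (mul_mem (F.A_le ha) (F.B_le hβ')) (inv_mem (F.A_le ha)))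
    calc a * (m * β * m⁻¹) * a⁻¹ * (m * β * m⁻¹)⁻¹
        = a * (m * β * m⁻¹) * a⁻¹ * z0 * z0⁻¹ * (m * β * m⁻¹)⁻¹ := by group
      _ = z0 * a * (m * β * m⁻¹) * (z0 * a)⁻¹ * (m * β * m⁻¹)⁻¹ := by rw [hs]; group
      _ = _ := by rw [← hz0e]; group
  have e' : a * (m * β * m⁻¹ * β⁻¹) = m * β * m⁻¹ * β⁻¹ * a := by
    have h2 : a * (m * β * m⁻¹) * a⁻¹ = a * β * a⁻¹ * (β⁻¹ * (m * β * m⁻¹)) := by
      conv_rhs => rw [← mul_assoc, ← e]
      group
    rw [F.B_comm (inv_mem hβ) hβ'] at h2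
    have h3 : a * (m * β * m⁻¹ * β⁻¹) * a⁻¹ = m * β * m⁻¹ * β⁻¹ := by
      have h4 : a * β * a⁻¹ * (m * β * m⁻¹ * β⁻¹) = m * β * m⁻¹ * β⁻¹ * (a * β * a⁻¹) :=
        F.B_comm (conj_mem_of_mem_normalizer (F.norm_B (F.A_le ha)) hβ) hd
      rw [h4] at h2
      calc a * (m * β * m⁻¹ * β⁻¹) * a⁻¹ = a * (m * β * m⁻¹) * a⁻¹ * (a * β * a⁻¹)⁻¹ := by group
        _ = _ := by rw [h2]; group
    exact mul_inv_eq_iff_eq_mul.1 h3
  exact e'.symm

/-- An odd common normaliser fixing `b` and the centre centralises the Sylow subgroup. -/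
theorem fix_S {b m : G} (hb : b ∈ F.B) (hbA : b ∉ F.A) (hmA : m ∈ normalizer (F.A : Set G))
    (hmB : m ∈ normalizer (F.B : Set G)) (hodd : Odd (orderOf m)) (hmb : m * b * m⁻¹ = b)
    (hmZ : ∀ z ∈ F.A ⊓ F.B, m * z * m⁻¹ = z) : ∀ s ∈ (F.S : Subgroup G), m * s = s * m := by
  obtain ⟨hA, hB⟩ := F.fix_mod hb hbA hmA hmB hmb hmZ
  have key : ∀ x, m * x * m⁻¹ * x⁻¹ ∈ F.A ⊓ F.B → m * x * m⁻¹ = x := by
    intro x hx
    have h1 := eq_one_of_odd_moves hodd (F.A_sq hx.1) (mul_inv_eq_iff_eq_mul.1 (hmZ _ hx))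
      (x := x) (by group)
    exact mul_inv_eq_one.1 h1
  have hle : (F.S : Subgroup G) ≤ centralizer ({m} : Set G) := by
    rw [← F.sup_eq]
    refine sup_le (fun x hx => mem_cent.2 ?_) (fun x hx => mem_cent.2 ?_)
    · exact (mul_inv_eq_iff_eq_mul.1 (key x (hA x hx))).symm
    · exact (mul_inv_eq_iff_eq_mul.1 (key x (hB x hx))).symm
  exact fun s hs => (mem_cent.1 (hle hs)).symm

variable (hBs : F.symm.Small)
  (hZ : ∀ z ∈ F.A ⊓ F.B, z ≠ 1 →
    Loc (normalizer (F.A : Set G) ⊓ normalizer (F.B : Set G)) z)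

include hBs in
theorem normalizer_B_le :
    normalizer (F.B : Set G) ≤ normalizer ((F.A ⊓ F.B : Subgroup G) : Set G) := by
  rw [inf_comm]; exact hBs

include hBs in
/-- The centraliser of `b` has no subgroup of order 32. -/
theorem not_dvd_cent {b : G} (hb : b ∈ F.B) (hbA : b ∉ F.A) :
    ¬ 2 ^ (4 + 1) ∣ Nat.card ↥(centralizer ({b} : Set G)) := by
  haveI : Fact (Nat.Prime 2) := ⟨Nat.prime_two⟩
  intro hdvd
  set C := centralizer ({b} : Set G) with hC
  set N := normalizer (F.B : Set G) with hN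
  have hBC : F.B ≤ C := fun x hx => mem_cent.2 (F.B_comm hx hb)
  obtain ⟨K, hK, hle⟩ := Sylow.exists_subgroup_card_pow_succ (p := 2) hdvd
    (H := F.B.subgroupOf C) (by rw [Nat.card_congr (subgroupOfEquivOfLe hBC).toEquiv, F.card_B]; rfl)
  set K' := K.map C.subtype with hK'
  have hcard : Nat.card ↥K' = 32 := by
    rw [card_map_of_injective (subtype_injective _), hK]; rfl
  have hBK : F.B ≤ K' := fun x hx => ⟨⟨x, hBC hx⟩, hle hx, rfl⟩
  have hidx : (F.B.subgroupOf K').index = 2 := by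
    have := card_mul_index (F.B.subgroupOf K')
    rw [Nat.card_congr (subgroupOfEquivOfLe hBK).toEquiv, F.card_B, hcard] at this
    omega
  haveI := normal_of_index_eq_two hidx
  have hKN : K' ≤ N := (normal_subgroupOf_iff_le_normalizer hBK).1 inferInstance
  have hpK : IsPGroup 2 (K'.subgroupOf N) :=
    IsPGroup.of_card (n := 5) (by rw [Nat.card_congr (subgroupOfEquivOfLe hKN).toEquiv, hcard]; rfl)
  obtain ⟨Q, hQ⟩ := hpK.exists_le_sylow
  obtain ⟨g, hg⟩ := MulAction.exists_smul_eq N Q (F.S.subtype F.norm_B)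
  have hgN : (g : G) ∈ N := g.2
  have hmem : ∀ k ∈ K', (g : G) * k * (g : G)⁻¹ ∈ (F.S : Subgroup G) := by
    intro k hk
    have h1 : (⟨k, hKN hk⟩ : N) ∈ (Q : Subgroup N) := hQ hk
    have h2 : g * ⟨k, hKN hk⟩ * g⁻¹ ∈ ((g • Q : Sylow 2 N) : Subgroup N) := by
      rw [Sylow.coe_subgroup_smul]
      exact smul_mem_pointwise_smul _ (MulAut.conj g) _ h1
    rw [hg] at h2
    exact h2
  have hb' : (g : G) * b * (g : G)⁻¹ ∈ F.B := conj_mem_of_mem_normalizer hgN hb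
  have hbA' : (g : G) * b * (g : G)⁻¹ ∉ F.A := by
    intro h
    have := conj_mem_of_mem_normalizer (inv_mem (F.normalizer_B_le hBs hgN))
      (show (g : G) * b * (g : G)⁻¹ ∈ F.A ⊓ F.B from ⟨h, hb'⟩)
    rw [show (g : G)⁻¹ * ((g : G) * b * (g : G)⁻¹) * (g : G)⁻¹⁻¹ = b by group] at this
    exact hbA this.1
  have hKB : K' ≤ F.B := by
    intro k hk
    obtain ⟨k0, hk0, rfl⟩ := hk
    have hc : (k0 : G) * b = b * k0 := mem_cent.1 k0.2
    rw [Subgroup.coe_subtype]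
    refine (mem_normalizer_iff.1 hgN _).2 (F.cent_B _ hb' hbA' _ (hmem _ ⟨k0, hk0, rfl⟩) ?_)
    calc (g : G) * k0 * (g : G)⁻¹ * ((g : G) * b * (g : G)⁻¹)
        = g * ((k0 : G) * b) * (g : G)⁻¹ := by group
      _ = _ := by rw [hc]; group
  have := Subgroup.card_le_of_le hKB
  rw [hcard, F.card_B] at this
  omega

include hBs in
theorem isComplement_or_moves {b : G} (hb : b ∈ F.B) (hbA : b ∉ F.A) :
    Loc (normalizer (F.B : Set G)) b ∨
      ∃ n, n ∈ normalizer (F.B : Set G) ∧ n * b * n⁻¹ = b ∧ Odd (orderOf n) ∧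
        ∃ β ∈ F.B, n * β * n⁻¹ ≠ β := by
  haveI : Fact (Nat.Prime 2) := ⟨Nat.prime_two⟩
  set C := centralizer ({b} : Set G) with hC
  have hBC : F.B ≤ C := fun x hx => mem_cent.2 (F.B_comm hx hb)
  have hB16 : Nat.card ↥(F.B.subgroupOf C) = 16 := by
    rw [Nat.card_congr (subgroupOfEquivOfLe hBC).toEquiv, F.card_B]
  have hp : IsPGroup 2 (F.B.subgroupOf C) := IsPGroup.of_card (n := 4) (by rw [hB16]; rfl)
  obtain ⟨P, hP⟩ := hp.exists_le_sylow
  have hPB : (P : Subgroup C) = F.B.subgroupOf C := by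
    refine (eq_of_le_of_card_ge hP ?_).symm
    obtain ⟨k, hk⟩ := IsPGroup.iff_card.1 P.isPGroup'
    have hk4 : k ≤ 4 := by
      by_contra hk4
      exact F.not_dvd_cent hBs hb hbA
        ((pow_dvd_pow 2 (show 4 + 1 ≤ k by omega)).trans (hk ▸ card_subgroup_dvd_card _))
    rw [hk, hB16, show 16 = 2 ^ 4 by norm_num]
    exact Nat.pow_le_pow_right (by norm_num) hk4
  by_cases hcent : normalizer ((P : Subgroup C) : Set C) ≤ centralizer ((P : Subgroup C) : Set C)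
  · left
    have hK := MonoidHom.ker_transferSylow_isComplement' P hcent
    set K := (MonoidHom.transferSylow P hcent).ker with hKdef
    have hodd : Odd (Nat.card ↥K) := by
      rw [← Nat.not_even_iff_odd]
      rintro ⟨j, hj⟩
      refine F.not_dvd_cent hBs hb hbA ⟨j, ?_⟩
      rw [← hK.card_mul, hPB, hB16, hj]; ring
    intro g hg
    have hmem : (⟨g, hg⟩ : C) ∈ K ⊔ (P : Subgroup C) := by rw [hK.sup_eq_top]; exact mem_top _
    obtain ⟨k, hk, p, hp', hkp⟩ := mem_sup_of_normal_left.1 hmem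
    refine ⟨k, ⟨k, CfsgLib.Cores.le_oddCore hodd hk, rfl⟩, p, le_normalizer ?_,
      (congrArg Subtype.val hkp).symm⟩
    rw [hPB] at hp'; exact hp'
  · right
    obtain ⟨n, hn, hnc⟩ := SetLike.not_le_iff_exists.1 hcent
    have hnB : (n : G) ∈ normalizer (F.B : Set G) := by
      refine mem_normalizer_iff.2 fun x => ⟨fun hx => ?_, fun hx => ?_⟩
      · have := (mem_normalizer_iff.1 hn ⟨x, hBC hx⟩).1 (by rw [hPB]; exact hx)
        rw [hPB] at this; exact this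
      · have hxC : x ∈ C := by
          have := C.mul_mem (C.mul_mem (C.inv_mem n.2) (hBC hx)) n.2
          rwa [show (n : G)⁻¹ * ((n : G) * x * (n : G)⁻¹) * n = x by group] at this
        have := (mem_normalizer_iff.1 hn ⟨x, hxC⟩).2 (by rw [hPB]; exact hx)
        rw [hPB] at this; exact this
    have hnb : (n : G) * b * (n : G)⁻¹ = b := mem_cent_conj.1 n.2
    obtain ⟨k, m, hm, ho⟩ := Nat.exists_eq_two_pow_mul_odd (orderOf_pos (n : G)).ne'
    refine ⟨(n : G) ^ 2 ^ k, pow_mem hnB _, mem_cent_conj.1 (pow_mem n.2 _), ?_, ?_⟩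
    · rwa [orderOf_pow' _ (by positivity), ho, Nat.gcd_mul_right_left,
        Nat.mul_div_cancel_left _ (by positivity)]
    by_contra hfix
    push Not at hfix
    apply hnc
    have h2 : n ^ m ∈ (P : Subgroup C) := by
      have hz : IsPGroup 2 (zpowers (n ^ m)) := by
        rw [IsPGroup]
        rintro ⟨x, hx⟩
        refine ⟨k, Subtype.ext ?_⟩
        obtain ⟨i, rfl⟩ := mem_zpowers_iff.1 hx
        show ((n ^ m) ^ i) ^ 2 ^ k = 1
        rw [← zpow_natCast, ← zpow_mul, mul_comm i, zpow_mul, zpow_natCast, ← pow_mul, mul_comm m,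
          ← ho, orderOf_coe, pow_orderOf_eq_one, one_zpow]
      have hle : zpowers (n ^ m) ≤ normalizer ((P : Subgroup C) : Set C) :=
        zpowers_le.2 (pow_mem hn m)
      have h := P.is_maximal' (IsPGroup.to_sup_of_normal_right' hz P.isPGroup' hle) le_sup_right
      rw [← h]
      exact mem_sup_left (mem_zpowers _)
    have hco : Nat.gcd (2 ^ k) m = 1 := (Nat.coprime_two_left.2 hm).pow_left k
    have h3 : ∀ p ∈ (P : Subgroup C), p * n ^ m = n ^ m * p := by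
      intro p hp'
      rw [hPB] at hp' h2
      exact Subtype.ext (F.B_comm hp' h2)
    have h4 : ∀ p ∈ (P : Subgroup C), p * n ^ 2 ^ k = n ^ 2 ^ k * p := by
      intro p hp'
      rw [hPB] at hp'
      exact Subtype.ext (mul_inv_eq_iff_eq_mul.1 (hfix _ hp')).symm
    have hn' : n = (n ^ 2 ^ k) ^ Nat.gcdA (2 ^ k) m * (n ^ m) ^ Nat.gcdB (2 ^ k) m := by
      have h1 := Nat.gcd_eq_gcd_ab (2 ^ k) m
      rw [hco] at h1
      rw [← zpow_natCast n (2 ^ k), ← zpow_natCast n m, ← zpow_mul, ← zpow_mul, ← zpow_add, ← h1]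
      simp
    rw [hn']
    refine mem_centralizer_iff.2 fun p hp' => ?_
    exact ((Commute.zpow_right (h4 p hp') _).mul_right (Commute.zpow_right (h3 p hp') _)).eq

include hBs hZ in
/-- The centraliser of `b` is generated by its odd core and its part in `N(B)`, or contains an
element of odd order normalising `A` and `B`, whose cube centralises `S`, fixing no involution of
the centre. -/
theorem loc_or_turn {b : G} (hb : b ∈ F.B) (hbA : b ∉ F.A) :
    Loc (normalizer (F.B : Set G)) b ∨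
      ∃ y, y ∈ normalizer (F.A : Set G) ⊓ normalizer (F.B : Set G) ∧ y * b = b * y ∧
        Odd (orderOf y) ∧ (∀ s ∈ (F.S : Subgroup G), y ^ 3 * s = s * y ^ 3) ∧
        ∀ z ∈ F.A ⊓ F.B, z ≠ 1 → y * z * y⁻¹ ≠ z := by
  refine (F.isComplement_or_moves hBs hb hbA).imp_right ?_
  rintro ⟨n, hnB, hnb, hodd, β, hβ, hmove⟩
  have hnZ := F.normalizer_B_le hBs hnB
  -- the action of an element of `N(B)` centralising `z` is that of a common normaliser
  have split : ∀ z ∈ F.A ⊓ F.B, z ≠ 1 → ∀ g ∈ normalizer (F.B : Set G), g * z * g⁻¹ = z →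
      ∃ m, m ∈ normalizer (F.A : Set G) ⊓ normalizer (F.B : Set G) ∧
        ∀ x ∈ F.B, g * x * g⁻¹ = m * x * m⁻¹ := by
    intro z hz hz1 g hg hgz
    obtain ⟨o, ho, m, hm, rfl⟩ := hZ z hz hz1 g (mem_cent_conj.2 hgz)
    refine ⟨m, hm, fun x hx => ?_⟩
    have hoB : o ∈ normalizer (F.B : Set G) := by
      have := mul_mem hg (inv_mem (mem_inf.1 hm).2)
      rwa [mul_inv_cancel_right] at this
    calc o * m * x * (o * m)⁻¹ = o * (m * x * m⁻¹) * o⁻¹ := by group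
      _ = _ := F.core_commute hz ho hoB (conj_mem_of_mem_normalizer (mem_inf.1 hm).2 hx)
  have hfree : ∀ z ∈ F.A ⊓ F.B, z ≠ 1 → n * z * n⁻¹ ≠ z := by
    intro z hz hz1 hfix
    obtain ⟨m, hm, hact⟩ := split z hz hz1 n hnB hfix
    have hnZall : ∀ w ∈ F.A ⊓ F.B, n * w * n⁻¹ = w :=
      fun w hw => F.fix_Z_of_fix_one hodd hnZ hz hz1 hfix hw
    have hd := (F.fix_mod hb hbA (mem_inf.1 hm).1 (mem_inf.1 hm).2 (by rw [← hact b hb, hnb])
      (fun w hw => by rw [← hact w hw.2, hnZall w hw])).2 β hβ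
    rw [← hact β hβ] at hd
    exact hmove (mul_inv_eq_one.1 (eq_one_of_odd_moves hodd (F.A_sq hd.1)
      (mul_inv_eq_iff_eq_mul.1 (hnZall _ hd)) (x := β) (by group)))
  obtain ⟨z, hz, hz1⟩ : ∃ z ∈ F.A ⊓ F.B, z ≠ 1 := by
    by_contra h
    push Not at h
    have : F.A ⊓ F.B ≤ ⊥ := fun x hx => mem_bot.2 (h x hx)
    have := Subgroup.card_le_of_le this
    rw [F.card_Z, card_bot] at this
    omega
  -- conjugate the Sylow subgroup back inside `N(B) ∩ C(z)`
  haveI : Fact (Nat.Prime 2) := ⟨Nat.prime_two⟩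
  set H := normalizer (F.B : Set G) ⊓ centralizer ({z} : Set G) with hH
  have hSH : (F.S : Subgroup G) ≤ H :=
    le_inf F.norm_B fun s hs => mem_cent.2 (F.central z hz s hs)
  set T := (F.S : Subgroup G).map (MulAut.conj n).toMonoidHom with hT
  have hTH : T ≤ H := by
    rintro _ ⟨s, hs, rfl⟩
    refine mem_inf.2 ⟨mul_mem (mul_mem hnB (F.norm_B hs)) (inv_mem hnB), mem_cent.2 ?_⟩
    have hz' := conj_mem_of_mem_normalizer (inv_mem hnZ) hz
    have h := F.central _ hz' s hs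
    show n * s * n⁻¹ * z = z * (n * s * n⁻¹)
    calc n * s * n⁻¹ * z = n * (s * (n⁻¹ * z * n⁻¹⁻¹)) * n⁻¹ := by group
      _ = n * (n⁻¹ * z * n⁻¹⁻¹ * s) * n⁻¹ := by rw [h]
      _ = _ := by group
  have hpT : IsPGroup 2 (T.subgroupOf H) :=
    IsPGroup.of_card (n := 6) (by
      rw [Nat.card_congr (subgroupOfEquivOfLe hTH).toEquiv,
        card_map_of_injective (MulAut.conj n).injective, F.card_S]; rfl)
  obtain ⟨Q, hQ⟩ := hpT.exists_le_sylow
  obtain ⟨g, hg⟩ := MulAction.exists_smul_eq H Q (F.S.subtype hSH)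
  have hgH : (g : G) ∈ normalizer (F.B : Set G) := (mem_inf.1 g.2).1
  have hgz : (g : G) * z * (g : G)⁻¹ = z := mem_cent_conj.1 (mem_inf.1 g.2).2
  have hmem : ∀ s ∈ (F.S : Subgroup G), (g : G) * n * s * ((g : G) * n)⁻¹ ∈ (F.S : Subgroup G) := by
    intro s hs
    have hns : n * s * n⁻¹ ∈ T := ⟨s, hs, rfl⟩
    have h1 : (⟨n * s * n⁻¹, hTH hns⟩ : H) ∈ (Q : Subgroup H) := hQ hns
    have h2 : g * ⟨_, hTH hns⟩ * g⁻¹ ∈ ((g • Q : Sylow 2 H) : Subgroup H) := by
      rw [Sylow.coe_subgroup_smul]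
      exact smul_mem_pointwise_smul _ (MulAut.conj g) _ h1
    rw [hg] at h2
    rw [show (g : G) * n * s * ((g : G) * n)⁻¹ = g * (n * s * n⁻¹) * (g : G)⁻¹ by group]
    exact h2
  have hgnB : (g : G) * n ∈ normalizer (F.B : Set G) := mul_mem hgH hnB
  have hgnA : (g : G) * n ∈ normalizer (F.A : Set G) := by
    set E := F.A.map (MulAut.conj ((g : G) * n)).toMonoidHom with hE
    rcases F.elem (E := E) (by rintro _ ⟨a, ha, rfl⟩; exact hmem a (F.A_le ha))
      (by rintro _ ⟨a, ha, rfl⟩; rw [← map_mul, F.A_sq ha, map_one])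
      (by rw [hE, card_map_of_injective (MulAut.conj _).injective, F.card_A]) with h | h
    · exact mem_normalizer_iff_map_conj_eq.2 (hE ▸ h)
    · obtain ⟨a, ha, haB⟩ := F.exists_not_mem
      exact absurd ((mem_normalizer_iff.1 hgnB a).2 (h ▸ (⟨a, ha, rfl⟩ : _ ∈ E))) haB
  obtain ⟨m, hm, hact⟩ := split z hz hz1 _ hgH hgz
  set y0 := m⁻¹ * ((g : G) * n) with hy0
  have hy0N : y0 ∈ normalizer (F.A : Set G) ⊓ normalizer (F.B : Set G) :=
    mul_mem (inv_mem hm) ⟨hgnA, hgnB⟩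
  have hact0 : ∀ x ∈ F.B, y0 * x * y0⁻¹ = n * x * n⁻¹ := by
    intro x hx
    have h := hact _ (conj_mem_of_mem_normalizer hnB hx)
    calc y0 * x * y0⁻¹ = m⁻¹ * ((g : G) * (n * x * n⁻¹) * (g : G)⁻¹) * m := by rw [hy0]; group
      _ = _ := by rw [h]; group
  have hactk : ∀ j : ℕ, ∀ x ∈ F.B, y0 ^ j * x * (y0 ^ j)⁻¹ = n ^ j * x * (n ^ j)⁻¹ := by
    intro j
    induction j with
    | zero => simp
    | succ j ih =>
      intro x hx
      calc y0 ^ (j + 1) * x * (y0 ^ (j + 1))⁻¹ = y0 ^ j * (y0 * x * y0⁻¹) * (y0 ^ j)⁻¹ := by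
            rw [pow_succ]; group
        _ = n ^ j * (n * x * n⁻¹) * (n ^ j)⁻¹ := by
            rw [hact0 x hx, ih _ (conj_mem_of_mem_normalizer hnB hx)]
        _ = _ := by rw [pow_succ]; group
  obtain ⟨k, r, hr, ho⟩ := Nat.exists_eq_two_pow_mul_odd (orderOf_pos y0).ne'
  have hyN : y0 ^ 2 ^ k ∈ normalizer (F.A : Set G) ⊓ normalizer (F.B : Set G) := pow_mem hy0N _
  have hyodd : Odd (orderOf (y0 ^ 2 ^ k)) := by
    rwa [orderOf_pow' _ (by positivity), ho, Nat.gcd_mul_right_left,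
      Nat.mul_div_cancel_left _ (by positivity)]
  have hyb : y0 ^ 2 ^ k * b * (y0 ^ 2 ^ k)⁻¹ = b := by
    rw [hactk _ b hb]; exact mem_cent_conj.1 (pow_mem (mem_cent_conj.2 hnb) _)
  have hyfree : ∀ w ∈ F.A ⊓ F.B, w ≠ 1 → y0 ^ 2 ^ k * w * (y0 ^ 2 ^ k)⁻¹ ≠ w := by
    intro w hw hw1 h
    rw [hactk _ w hw.2] at h
    exact hfree w hw hw1 (mem_cent_conj.1 (mem_of_pow_two_pow hodd k (mem_cent_conj.2 h)))
  refine ⟨y0 ^ 2 ^ k, hyN, mul_inv_eq_iff_eq_mul.1 hyb, hyodd, ?_, hyfree⟩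
  exact F.fix_S hb hbA (pow_mem (mem_inf.1 hyN).1 _) (pow_mem (mem_inf.1 hyN).2 _)
    (hyodd.of_dvd_nat (orderOf_pow_dvd _)) (mem_cent_conj.1 (pow_mem (mem_cent_conj.2 hyb) _))
    fun w hw => F.conj_three hyodd (F.normalizer_B_le hBs (mem_inf.1 hyN).2) hyfree hw

end Frame

end CfsgLib.LinearThreeFourType
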