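import Cfsg.Agent.Lib.LinearThreeFourType.BadClasses

/-!
Counting the pairs of involutions of the two outer kinds: three times the number of central
involutions is the product of the two numbers of central involutions centralising the others.
-/

set_option autoImplicit false
set_option linter.unusedSectionVars false

open scoped Classical

namespace CfsgLib.LinearThreeFourType.BadCount

open Subgroup Cfsg CfsgLib.AEightThreeClasses

universe u

variable {G : Type u} [Group G] [Fintype G]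

/-- The conjugates of `x`. -/
noncomputable def cls (x : G) : Finset G := Finset.univ.filter fun w => IsConj x w

@[simp] theorem mem_cls {x w : G} : w ∈ cls x ↔ IsConj x w := by simp [cls]

/-- The conjugates of `v` commuting with `u`. -/
noncomputable def com (u v : G) : Finset G := (cls v).filter fun w => w * u = u * w

@[simp] theorem mem_com {u v w : G} : w ∈ com u v ↔ IsConj v w ∧ w * u = u * w := by simp [com]

theorem card_com_conj (g u v : G) : (com (g * u * g⁻¹) v).card = (com u v).card := by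
  refine Finset.card_bij' (fun w _ => g⁻¹ * w * g) (fun w _ => g * w * g⁻¹) (fun w hw => ?_)
    (fun w hw => ?_) (fun w _ => by group) (fun w _ => by group)
  · obtain ⟨h1, h2⟩ := mem_com.1 hw
    refine mem_com.2 ⟨h1.trans (isConj_iff.2 ⟨g⁻¹, by group⟩), ?_⟩
    calc g⁻¹ * w * g * u = g⁻¹ * (w * (g * u * g⁻¹)) * g := by group
      _ = g⁻¹ * (g * u * g⁻¹ * w) * g := by rw [h2]
      _ = u * (g⁻¹ * w * g) := by group
  · obtain ⟨h1, h2⟩ := mem_com.1 hw
    refine mem_com.2 ⟨h1.trans (isConj_iff.2 ⟨g, rfl⟩), ?_⟩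
    calc g * w * g⁻¹ * (g * u * g⁻¹) = g * (w * u) * g⁻¹ := by group
      _ = g * (u * w) * g⁻¹ := by rw [h2]
      _ = _ := by group

/-- Double counting of commuting conjugates. -/
theorem cls_mul_com (u v : G) :
    (cls u).card * (com u v).card = (cls v).card * (com v u).card := by
  have h1 : ((cls u ×ˢ cls v).filter fun p => p.2 * p.1 = p.1 * p.2).card =
      (cls u).card * (com u v).card := by
    rw [Finset.card_filter, Finset.sum_product, ← smul_eq_mul, ← Finset.sum_const]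
    refine Finset.sum_congr rfl fun x hx => ?_
    obtain ⟨g, hg⟩ := isConj_iff.1 (mem_cls.1 hx)
    rw [← card_com_conj g u v, hg, com, Finset.card_filter]
  have h2 : ((cls u ×ˢ cls v).filter fun p => p.2 * p.1 = p.1 * p.2).card =
      (cls v).card * (com v u).card := by
    rw [Finset.card_filter, Finset.sum_product_right, ← smul_eq_mul, ← Finset.sum_const]
    refine Finset.sum_congr rfl fun x hx => ?_
    obtain ⟨g, hg⟩ := isConj_iff.1 (mem_cls.1 hx)
    rw [← card_com_conj g v u, hg, com, Finset.card_filter]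
    exact Finset.sum_congr rfl fun y _ => if_congr ⟨Eq.symm, Eq.symm⟩ rfl rfl
  exact h1.symm.trans h2

/-- The involution in the cyclic group of a product. -/
noncomputable def half (x y : G) : G := (x * y) ^ (orderOf (x * y) / 2)

theorem half_conj (g x y : G) :
    half (g * x * g⁻¹) (g * y * g⁻¹) = g * half x y * g⁻¹ := by
  unfold half
  rw [show g * x * g⁻¹ * (g * y * g⁻¹) = g * (x * y) * g⁻¹ by group,
    CfsgLib.Involutions.orderOf_conj, conj_pow]

theorem orderOf_of_cls {x y : G} (hx : x * x = 1) (hx1 : x ≠ 1) (h : IsConj x y) :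
    orderOf y = 2 := by
  rw [← CfsgLib.Involutions.orderOf_eq_of_isConj h]
  exact CfsgLib.Involutions.orderOf_eq_two_iff.2 ⟨hx, hx1⟩

variable {F : Frame G} (P : Both F)
include P

section Elements

variable {a b z : G} (ha : a ∈ F.A) (haB : a ∉ F.B) (hb : b ∈ F.B) (hbA : b ∉ F.A)
  (hz : z ∈ F.A ⊓ F.B) (hz1 : z ≠ 1)
include ha haB hb hbA hz hz1

theorem Both.half_mem {x y : G} (hx : IsConj a x) (hy : IsConj b y) :
    half x y ∈ cls z ∧ half x y * x = x * half x y ∧ half x y * y = y * half x y ∧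
      orderOf (half x y) = 2 ∧ Even (orderOf (x * y)) := by
  have ha1 : a ≠ 1 := fun h => haB (h ▸ one_mem _)
  have hb1 : b ≠ 1 := fun h => hbA (h ▸ one_mem _)
  have hxo := orderOf_of_cls (F.A_sq ha) ha1 hx
  have hyo := orderOf_of_cls (F.B_sq hb) hb1 hy
  have hev : Even (orderOf (x * y)) := by
    rw [← Nat.not_odd_iff_even]
    intro h
    exact P.A_not_conj_B ha hb hbA
      (hy.trans ((CfsgLib.Involutions.isConj_of_odd hxo hyo h).symm.trans hx.symm))
  have hwo : orderOf (half x y) = 2 := CfsgLib.Involutions.orderOf_half hev (orderOf_pos _).ne'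
  have hwx : half x y * x = x * half x y :=
    (CfsgLib.Involutions.commute_half_left hxo hyo hev).eq
  have hwy : half x y * y = y * half x y :=
    (CfsgLib.Involutions.commute_half_right hxo hyo hev).eq
  refine ⟨mem_cls.2 ?_, hwx, hwy, hwo, hev⟩
  rcases P.kinds ha haB hb hbA hz hz1 hwo with h | h | h
  · exact absurd hwy (P.not_commute_classes ha haB hb hbA h hy)
  · exact absurd hwx.symm (P.not_commute_classes ha haB hb hbA hx h)
  · exact h

/-- The pairs with a given central involution. -/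
theorem Both.cls_mul_cls :
    (cls a).card * (cls b).card =
      (cls z).card * ((cls a ×ˢ cls b).filter fun p => half p.1 p.2 = z).card := by
  rw [← Finset.card_product, Finset.card_eq_sum_card_fiberwise (f := fun p : G × G => half p.1 p.2)
    (t := cls z) (fun p hp => by
      rw [Finset.mem_coe, Finset.mem_product, mem_cls, mem_cls] at hp
      exact (P.half_mem ha haB hb hbA hz hz1 hp.1 hp.2).1)]
  rw [← smul_eq_mul, ← Finset.sum_const]
  refine Finset.sum_congr rfl fun w hw => ?_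
  obtain ⟨g, rfl⟩ := isConj_iff.1 (mem_cls.1 hw)
  refine Finset.card_bij' (fun p _ => (g⁻¹ * p.1 * g, g⁻¹ * p.2 * g))
    (fun p _ => (g * p.1 * g⁻¹, g * p.2 * g⁻¹)) (fun p hp => ?_) (fun p hp => ?_)
    (fun p _ => by ext <;> group) (fun p _ => by ext <;> group)
  · simp only [Finset.mem_filter, Finset.mem_product, mem_cls] at hp ⊢
    refine ⟨⟨hp.1.1.trans (isConj_iff.2 ⟨g⁻¹, by group⟩),
      hp.1.2.trans (isConj_iff.2 ⟨g⁻¹, by group⟩)⟩, ?_⟩
    have h := half_conj g⁻¹ p.1 p.2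
    rw [inv_inv] at h
    rw [h, hp.2]; group
  · simp only [Finset.mem_filter, Finset.mem_product, mem_cls] at hp ⊢
    exact ⟨⟨hp.1.1.trans (isConj_iff.2 ⟨g, rfl⟩), hp.1.2.trans (isConj_iff.2 ⟨g, rfl⟩)⟩,
      by rw [half_conj, hp.2]⟩

end Elements

/-- An involution of the second kind centralising `z` is a conjugate of an element of `B` outside
`A` under the odd core. -/
theorem Both.exists_rep {b z y : G} (hb : b ∈ F.B) (hbA : b ∉ F.A) (hz : z ∈ F.A ⊓ F.B)
    (hz1 : z ≠ 1) (hy : IsConj b y) (hyz : y * z = z * y) :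
    ∃ b' ∈ F.B, b' ∉ F.A ∧ ∃ o ∈ Oc z, o * b' * o⁻¹ = y := by
  haveI : Fact (Nat.Prime 2) := ⟨Nat.prime_two⟩
  set C := centralizer ({z} : Set G) with hC
  have hy2 : y * y = 1 := sq_one_of_conj (F.B_sq hb) hy
  have hp : IsPGroup 2 (zpowers (⟨y, mem_cent.2 hyz⟩ : C)) := by
    intro w
    refine ⟨1, Subtype.ext ?_⟩
    obtain ⟨i, hi⟩ := mem_zpowers_iff.1 w.2
    rw [pow_one, SubmonoidClass.coe_pow, OneMemClass.coe_one, ← hi, ← zpow_natCast, ← zpow_mul,
      mul_comm, zpow_mul, show ((⟨y, mem_cent.2 hyz⟩ : C) ^ ((2 : ℕ) : ℤ)) = 1 by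
        rw [zpow_natCast, pow_two]; exact Subtype.ext hy2, one_zpow]
  obtain ⟨T, hT⟩ := hp.exists_le_sylow
  obtain ⟨⟨c, hc⟩, hcT⟩ := MulAction.exists_smul_eq C T (F.S.subtype (S_cent F hz))
  have hcy : c * y * c⁻¹ ∈ (F.S : Subgroup G) := by
    have : (⟨c, hc⟩ : C) * ⟨y, mem_cent.2 hyz⟩ * (⟨c, hc⟩ : C)⁻¹ ∈
        (F.S.subtype (S_cent F hz) : Subgroup C) := by
      rw [← hcT]; exact ⟨_, hT (mem_zpowers _), rfl⟩
    exact this
  obtain ⟨u, rfl⟩ := isConj_iff.1 hy
  have e : c * (u * b * u⁻¹) * c⁻¹ = c * u * b * (c * u)⁻¹ := by group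
  rw [e] at hcy
  have h1 := P.clB b hb hbA _ hcy
  obtain ⟨o, ho, n, hn, rfl⟩ := P.loc z hz hz1 c hc
  have hnC : n ∈ C := by
    have := mul_mem (inv_mem (Oc_le z ho)) hc
    rwa [inv_mul_cancel_left] at this
  refine ⟨n⁻¹ * (o * n * u * b * (o * n * u)⁻¹) * n⁻¹⁻¹, conj_B (inv_mem hn) h1.1,
    conj_not_A (inv_mem hn) h1.2, n⁻¹ * o⁻¹ * n,
    ?_, by group⟩
  have := (mem_normalizer_iff.1 (centralizer_le_normalizer_Oc z (inv_mem hnC)) o⁻¹).1 (inv_mem ho)
  rwa [inv_inv] at this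

section Quot

variable {z : G}

omit P in
theorem eq_of_mk_eq (hz : z ∈ F.A ⊓ F.B) {s t : G} (hs : s ∈ (F.S : Subgroup G))
    (ht : t ∈ (F.S : Subgroup G))
    (h : QuotientGroup.mk' (oddCore ↥(centralizer ({z} : Set G))) ⟨s, S_cent F hz hs⟩ =
      QuotientGroup.mk' (oddCore ↥(centralizer ({z} : Set G))) ⟨t, S_cent F hz ht⟩) : s = t := by
  haveI : Fact (Nat.Prime 2) := ⟨Nat.prime_two⟩
  have h1 := QuotientGroup.eq.1 h
  have h2 : s⁻¹ * t ∈ Oc z := ⟨_, h1, rfl⟩
  obtain ⟨k, hk⟩ := F.S.2 ⟨s⁻¹ * t, mul_mem (inv_mem hs) ht⟩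
  have hk' : (s⁻¹ * t) ^ 2 ^ k = 1 := congrArg Subtype.val hk
  have h3 : orderOf (s⁻¹ * t) = 1 :=
    Nat.eq_one_of_dvd_coprimes ((Nat.coprime_two_left.2 (odd_orderOf_of_mem (odd_card_Oc z) h2)).pow_left k)
      (orderOf_dvd_of_pow_eq_one hk') dvd_rfl
  exact inv_mul_eq_one.1 (orderOf_eq_one_iff.1 h3)

omit P in
theorem mk_conj_Oc (hz : z ∈ F.A ⊓ F.B) {o s x : G} (ho : o ∈ Oc z)
    (hs : s ∈ (F.S : Subgroup G)) (hx : x ∈ centralizer ({z} : Set G)) (e : o * s * o⁻¹ = x) :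
    QuotientGroup.mk' (oddCore ↥(centralizer ({z} : Set G))) ⟨x, hx⟩ =
      QuotientGroup.mk' (oddCore ↥(centralizer ({z} : Set G))) ⟨s, S_cent F hz hs⟩ := by
  set π := QuotientGroup.mk' (oddCore ↥(centralizer ({z} : Set G))) with hπ
  obtain ⟨o', ho', rfl⟩ := ho
  have h1 : π o' = 1 := (QuotientGroup.eq_one_iff _).2 ho'
  have h2 : (⟨x, hx⟩ : ↥(centralizer ({z} : Set G))) = o' * ⟨s, S_cent F hz hs⟩ * o'⁻¹ :=
    Subtype.ext e.symm
  rw [h2, map_mul, map_mul, map_inv, h1, one_mul, inv_one, mul_one]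

end Quot

variable {a b z : G} (ha : a ∈ F.A) (haB : a ∉ F.B) (hb : b ∈ F.B) (hbA : b ∉ F.A)
  (hz : z ∈ F.A ⊓ F.B) (hz1 : z ≠ 1)
include ha haB hb hbA hz hz1

theorem Both.half_eq_iff {x y a' b' o o' : G} (ha' : a' ∈ F.A) (ha'B : a' ∉ F.B) (hb' : b' ∈ F.B)
    (hb'A : b' ∉ F.A) (ho : o ∈ Oc z) (ho' : o' ∈ Oc z) (ex : o * a' * o⁻¹ = x)
    (ey : o' * b' * o'⁻¹ = y) (hx : IsConj a x) (hy : IsConj b y) :
    half x y = z ↔ cm a' b' = z := by
  set C := centralizer ({z} : Set G) with hC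
  set π := QuotientGroup.mk' (oddCore ↥C) with hπ
  have hS : ∀ {s}, s ∈ (F.S : Subgroup G) → s ∈ C := fun hs => S_cent F hz hs
  have hxC : x ∈ C := ex ▸ mul_mem (mul_mem (Oc_le z ho) (hS (F.A_le ha'))) (inv_mem (Oc_le z ho))
  have hyC : y ∈ C := ey ▸ mul_mem (mul_mem (Oc_le z ho') (hS (F.B_le hb'))) (inv_mem (Oc_le z ho'))
  obtain ⟨-, -, -, hwo, -⟩ := P.half_mem ha haB hb hbA hz hz1 hx hy
  have hwC : half x y ∈ C := pow_mem (mul_mem hxC hyC) _
  have hζ : cm a' b' ∈ F.A ⊓ F.B := F.commutator_mem ha' hb'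
  have hζ1 : cm a' b' ≠ 1 := fun h => hb'A ((cm_eq_one_iff F ha' ha'B hb').1 h)
  set ζ : C := ⟨cm a' b', hS (Z_le_S F hζ)⟩ with hζC
  set u := π ⟨x * y, mul_mem hxC hyC⟩ with hu
  have hu2 : u ^ 2 = π ζ := by
    have e : u = π ⟨a' * b', hS (mul_mem (F.A_le ha') (F.B_le hb'))⟩ := by
      rw [hu, show (⟨x * y, mul_mem hxC hyC⟩ : C) = ⟨x, hxC⟩ * ⟨y, hyC⟩ from rfl, map_mul,
        mk_conj_Oc hz ho (F.A_le ha') hxC ex, mk_conj_Oc hz ho' (F.B_le hb') hyC ey, ← map_mul]
      rfl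
    rw [e, ← map_pow]
    congr 1
    refine Subtype.ext ?_
    show (a' * b') ^ 2 = cm a' b'
    rw [cm, pow_two, inv_eq_of_mul_eq_one_right (F.A_sq ha'),
      inv_eq_of_mul_eq_one_right (F.B_sq hb')]
    group
  have hζζ : π ζ ^ 2 = 1 := by
    rw [← map_pow, show ζ ^ 2 = 1 from Subtype.ext (by
      show (cm a' b') ^ 2 = 1
      rw [pow_two]; exact F.A_sq hζ.1), map_one]
  have hπζ : π ζ ≠ 1 := fun h => hζ1
    (eq_of_mk_eq hz (Z_le_S F hζ) (one_mem _) (h.trans (map_one π).symm))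
  have hw2 := CfsgLib.Involutions.mul_self_eq_one hwo
  have hwu : π ⟨half x y, hwC⟩ = u ^ (orderOf (x * y) / 2) := by
    rw [hu, ← map_pow]; rfl
  have hπw : π ⟨half x y, hwC⟩ ≠ 1 := fun h => CfsgLib.Involutions.ne_one hwo
    (eq_one_of_mem_odd (odd_card_Oc z) hw2 ⟨_, (QuotientGroup.eq_one_iff _).1 h, rfl⟩)
  have hpw : π ⟨half x y, hwC⟩ = π ζ := by
    set n := orderOf (x * y) / 2 with hn
    have hsq : (π ζ) ^ n = 1 := by
      rw [← hu2, ← pow_mul, mul_comm, pow_mul, ← hwu, ← map_pow,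
        show (⟨half x y, hwC⟩ : C) ^ 2 = 1 from Subtype.ext (by
          show half x y ^ 2 = 1
          rw [pow_two, hw2]), map_one]
    rcases Nat.even_or_odd n with ⟨m, hm⟩ | ⟨m, hm⟩
    · rw [hwu, hm, ← two_mul, pow_mul, hu2]
      rcases Nat.even_or_odd m with ⟨k, hk⟩ | ⟨k, hk⟩
      · exfalso
        refine hπw ?_
        rw [hwu, hm, ← two_mul, pow_mul, hu2, hk, ← two_mul, pow_mul, hζζ, one_pow]
      · rw [hk, pow_succ, pow_mul, hζζ, one_pow, one_mul]
    · exfalso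
      rw [hm, pow_succ, pow_mul, hζζ, one_pow, one_mul] at hsq
      exact hπζ hsq
  constructor
  · intro h
    refine eq_of_mk_eq hz (Z_le_S F hζ) (Z_le_S F hz) (hpw.symm.trans ?_)
    exact congrArg π (Subtype.ext h)
  · intro h
    have h1 : π ⟨half x y, hwC⟩ = π ⟨z, hS (Z_le_S F hz)⟩ :=
      hpw.trans (congrArg π (Subtype.ext h))
    have h2 : (half x y)⁻¹ * z ∈ Oc z := ⟨_, QuotientGroup.eq.1 h1, rfl⟩
    have hwz : half x y * z = z * half x y := mem_cent.1 hwC
    rw [inv_eq_of_mul_eq_one_right hw2] at h2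
    have h3 : half x y * z * (half x y * z) = 1 := by
      calc half x y * z * (half x y * z) = half x y * (z * half x y) * z := by group
        _ = half x y * half x y * (z * z) := by rw [← hwz]; group
        _ = 1 := by rw [hw2, F.A_sq hz.1, one_mul]
    have h4 := eq_one_of_mem_odd (odd_card_Oc z) h3 h2
    exact (eq_inv_of_mul_eq_one_left h4).trans (inv_eq_of_mul_eq_one_right (F.A_sq hz.1))

/-- The number of central involutions. -/
theorem Both.three_mul : 3 * (cls z).card = (com a z).card * (com b z).card := by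
  set BA : Finset G := Finset.univ.filter fun x => x ∈ F.B ∧ x ∉ F.A with hBA
  have hmBA : ∀ {x}, x ∈ BA ↔ x ∈ F.B ∧ x ∉ F.A := by simp [hBA]
  have hBAcard : BA.card = 12 := by
    have h1 : BA = (Finset.univ.filter (· ∈ F.B)) \ (Finset.univ.filter (· ∈ F.A ⊓ F.B)) := by
      ext x; simp [hBA]; tauto
    have h2 : (Finset.univ.filter (· ∈ F.A ⊓ F.B)) ⊆ Finset.univ.filter (· ∈ F.B) := fun x hx => by
      simp only [Finset.mem_filter] at hx ⊢; exact ⟨hx.1, hx.2.2⟩
    rw [h1, Finset.card_sdiff_of_subset h2,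
      show (Finset.univ.filter (· ∈ F.B)).card = 16 by
        rw [← F.card_B, Nat.card_eq_fintype_card, Fintype.card_subtype],
      show (Finset.univ.filter (· ∈ F.A ⊓ F.B)).card = 4 by
        rw [← F.card_Z, Nat.card_eq_fintype_card, Fintype.card_subtype]]
  -- the representative in `B`
  have hrep : ∀ y ∈ com z b, ∃ b' ∈ F.B, b' ∉ F.A ∧ ∃ o ∈ Oc z, o * b' * o⁻¹ = y := fun y hy =>
    P.exists_rep hb hbA hz hz1 (mem_com.1 hy).1 (mem_com.1 hy).2
  choose! r hrB hrA o ho hor using hrep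
  have hru : ∀ y ∈ com z b, ∀ b' ∈ F.B, ∀ o' ∈ Oc z, o' * b' * o'⁻¹ = y → r y = b' := by
    intro y hy b' hb' o' ho' e
    exact eq_of_mk_eq hz (F.B_le (hrB y hy)) (F.B_le hb')
      ((mk_conj_Oc hz (ho y hy) (F.B_le (hrB y hy)) (mem_cent.2 (mem_com.1 hy).2) (hor y hy)).symm.trans
        (mk_conj_Oc hz ho' (F.B_le hb') (mem_cent.2 (mem_com.1 hy).2) e))
  obtain ⟨k, hk⟩ : ∃ k, ∀ b' ∈ BA, ((com z b).filter fun y => r y = b').card = k := by
    refine ⟨((com z b).filter fun y => r y = b).card, fun b' hb' => ?_⟩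
    obtain ⟨hb'B, hb'A⟩ := hmBA.1 hb'
    obtain ⟨c, hcN, hcz, hcb⟩ := P.trans_B hz hz1 hb'B hb'A hb hbA
    have hcC : c ∈ centralizer ({z} : Set G) := mem_cent.2 hcz
    have key : ∀ c' ∈ normalizer (F.A : Set G) ⊓ normalizer (F.B : Set G),
        c' ∈ centralizer ({z} : Set G) → ∀ y ∈ com z b,
        c' * y * c'⁻¹ ∈ com z b ∧ r (c' * y * c'⁻¹) = c' * r y * c'⁻¹ := by
      intro c' hc' hc'C y hy
      obtain ⟨h1, h2⟩ := mem_com.1 hy
      have hmem : c' * y * c'⁻¹ ∈ com z b := mem_com.2 ⟨h1.trans (isConj_iff.2 ⟨c', rfl⟩),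
        mem_cent.1 (mul_mem (mul_mem hc'C (mem_cent.2 h2)) (inv_mem hc'C))⟩
      refine ⟨hmem, hru _ hmem _ (conj_B hc' (hrB y hy)) (c' * o y * c'⁻¹)
        ((mem_normalizer_iff.1 (centralizer_le_normalizer_Oc z hc'C) _).1 (ho y hy)) ?_⟩
      calc c' * o y * c'⁻¹ * (c' * r y * c'⁻¹) * (c' * o y * c'⁻¹)⁻¹
          = c' * (o y * r y * (o y)⁻¹) * c'⁻¹ := by group
        _ = _ := by rw [hor y hy]
    refine Finset.card_bij' (fun y _ => c * y * c⁻¹) (fun y _ => c⁻¹ * y * c) (fun y hy => ?_)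
      (fun y hy => ?_) (fun y _ => by group) (fun y _ => by group)
    · obtain ⟨h1, h2⟩ := Finset.mem_filter.1 hy
      obtain ⟨h3, h4⟩ := key c hcN hcC y h1
      exact Finset.mem_filter.2 ⟨h3, by rw [h4, h2, hcb]⟩
    · obtain ⟨h1, h2⟩ := Finset.mem_filter.1 hy
      obtain ⟨h3, h4⟩ := key c⁻¹ (inv_mem hcN) (inv_mem hcC) y h1
      rw [inv_inv] at h3 h4
      refine Finset.mem_filter.2 ⟨h3, ?_⟩
      rw [h4, h2, ← hcb]; group
  have hBz : (com z b).card = 12 * k := by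
    rw [Finset.card_eq_sum_card_fiberwise (f := r) (t := BA)
      (fun y hy => hmBA.2 ⟨hrB y hy, hrA y hy⟩), Finset.sum_congr rfl hk, Finset.sum_const,
      hBAcard, smul_eq_mul]
  have hx : ∀ x ∈ com z a, ((com z b).filter fun y => half x y = z).card = 4 * k := by
    intro x hx
    obtain ⟨hx1, hx2⟩ := mem_com.1 hx
    obtain ⟨a', ha', ha'B, o', ho', hox⟩ := P.symm.exists_rep (b := a) ha haB
      (show z ∈ F.symm.A ⊓ F.symm.B from ⟨hz.2, hz.1⟩) hz1 hx1 hx2
    set T := BA.filter fun b' => cm a' b' = z with hT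
    have h4 : T.card = 4 := by
      rw [← card_fibre F ha' ha'B hz, Nat.card_eq_fintype_card, Fintype.card_subtype]
      refine Finset.card_bij' (fun b' hb' => (⟨b', (hmBA.1 (Finset.mem_filter.1 hb').1).1⟩ : F.B))
        (fun b' _ => (b' : G)) (fun b' hb' => ?_) (fun b' hb' => ?_) (fun _ _ => rfl) (fun _ _ => rfl)
      · exact Finset.mem_filter.2 ⟨Finset.mem_univ _, (Finset.mem_filter.1 hb').2⟩
      · have h := (Finset.mem_filter.1 hb').2
        exact Finset.mem_filter.2 ⟨hmBA.2 ⟨b'.2, fun hA =>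
          hz1 (h.symm.trans ((cm_eq_one_iff F ha' ha'B b'.2).2 hA))⟩, h⟩
    have hiff : ∀ y ∈ com z b, (half x y = z ↔ cm a' (r y) = z) := fun y hy =>
      P.half_eq_iff ha haB hb hbA hz hz1 ha' ha'B (hrB y hy) (hrA y hy) ho' (ho y hy) hox (hor y hy)
        hx1 (mem_com.1 hy).1
    rw [Finset.card_eq_sum_card_fiberwise (f := r) (t := T) (fun y hy => by
      rw [Finset.mem_coe, Finset.mem_filter] at hy
      exact Finset.mem_filter.2 ⟨hmBA.2 ⟨hrB y hy.1, hrA y hy.1⟩, (hiff y hy.1).1 hy.2⟩)]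
    rw [← h4, ← smul_eq_mul, ← Finset.sum_const]
    refine Finset.sum_congr rfl fun b' hb' => ?_
    obtain ⟨hb'1, hb'2⟩ := Finset.mem_filter.1 hb'
    rw [← hk b' hb'1]
    congr 1
    ext y
    simp only [Finset.mem_filter]
    exact ⟨fun h => ⟨h.1.1, h.2⟩, fun h => ⟨⟨h.1, (hiff y h.1).2 (by rw [h.2]; exact hb'2)⟩, h.2⟩⟩
  have hPz : ((cls a ×ˢ cls b).filter fun p => half p.1 p.2 = z).card =
      (com z a).card * (4 * k) := by
    rw [Finset.card_eq_sum_card_fiberwise (f := Prod.fst) (t := com z a) (fun p hp => by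
      simp only [Finset.coe_filter, Finset.mem_product, mem_cls, Set.mem_setOf_eq] at hp
      obtain ⟨-, h1, -, -, -⟩ := P.half_mem ha haB hb hbA hz hz1 hp.1.1 hp.1.2
      rw [hp.2] at h1
      exact mem_com.2 ⟨hp.1.1, h1.symm⟩), ← smul_eq_mul, ← Finset.sum_const]
    refine Finset.sum_congr rfl fun x hx' => ?_
    rw [← hx x hx']
    refine Finset.card_bij' (fun p _ => p.2) (fun y _ => (x, y)) (fun p hp => ?_) (fun y hy => ?_)
      (fun p hp => ?_) (fun _ _ => rfl)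
    · simp only [Finset.mem_filter, Finset.mem_product, mem_cls] at hp
      obtain ⟨⟨⟨h1, h2⟩, h3⟩, rfl⟩ := hp
      obtain ⟨-, -, h4, -, -⟩ := P.half_mem ha haB hb hbA hz hz1 h1 h2
      rw [h3] at h4
      exact Finset.mem_filter.2 ⟨mem_com.2 ⟨h2, h4.symm⟩, h3⟩
    · simp only [Finset.mem_filter, mem_com] at hy
      simp only [Finset.mem_filter, Finset.mem_product, mem_cls]
      exact ⟨⟨⟨(mem_com.1 hx').1, hy.1.1⟩, hy.2⟩, trivial⟩
    · simp only [Finset.mem_filter] at hp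
      exact Prod.ext hp.2.symm rfl
  have h1 := P.cls_mul_cls ha haB hb hbA hz hz1
  rw [hPz] at h1
  have h2 := cls_mul_com a z
  have h3 := cls_mul_com b z
  rw [hBz] at h3
  have hpos : 0 < (cls a).card * (cls b).card := Nat.mul_pos
    (Finset.card_pos.2 ⟨a, mem_cls.2 (IsConj.refl a)⟩)
    (Finset.card_pos.2 ⟨b, mem_cls.2 (IsConj.refl b)⟩)
  refine Nat.eq_of_mul_eq_mul_left hpos ?_
  calc (cls a).card * (cls b).card * (3 * (cls z).card)
      = (cls z).card * ((com z a).card * (4 * k)) * (3 * (cls z).card) := by rw [← h1]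
    _ = ((cls z).card * (com z a).card) * ((cls z).card * (12 * k)) := by ring
    _ = ((cls a).card * (com a z).card) * ((cls b).card * (com b z).card) := by rw [h2, h3]
    _ = _ := by ring

end CfsgLib.LinearThreeFourType.BadCount
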