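import Cfsg.Agent.Lib.LinearThreeFourType.BadFour
import Cfsg.Agent.Lib.Involutions.Basic

/-!
Counting products of odd order of involutions in a group with a four-group as Sylow 2-subgroup.
-/

set_option autoImplicit false
set_option linter.unusedSectionVars false

open scoped Classical

namespace CfsgLib.LinearThreeFourType.BadCount

open Subgroup

variable {X : Type*} [Group X] [Fintype X]

/-- Orbit and stabiliser for conjugation by a subgroup. -/
theorem card_conjugates_mul (H : Subgroup X) (u : X) :
    (Finset.univ.filter fun w => ∃ c ∈ H, c * u * c⁻¹ = w).card *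
      Nat.card (H ⊓ centralizer ({u} : Set X) : Subgroup X) = Nat.card H := by
  set s := Finset.univ.filter fun c : X => c ∈ H with hs
  have hH : Nat.card H = s.card := by rw [Nat.card_eq_fintype_card, Fintype.card_subtype]
  rw [hH, Finset.card_eq_sum_card_fiberwise (f := fun c => c * u * c⁻¹)
    (t := Finset.univ.filter fun w => ∃ c ∈ H, c * u * c⁻¹ = w) (fun c hc =>
      Finset.mem_filter.2 ⟨Finset.mem_univ _, c, (Finset.mem_filter.1 hc).2, rfl⟩),
    ← smul_eq_mul, ← Finset.sum_const]
  refine Finset.sum_congr rfl fun w hw => ?_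
  obtain ⟨c₀, hc₀, rfl⟩ := (Finset.mem_filter.1 hw).2
  rw [Nat.card_eq_fintype_card, Fintype.card_subtype]
  refine Finset.card_bij' (fun c _ => c₀ * c) (fun c _ => c₀⁻¹ * c) (fun c hc => ?_) (fun c hc => ?_)
    (fun c _ => by group) (fun c _ => by group)
  · obtain ⟨-, hcH, hcu⟩ := Finset.mem_filter.1 hc
    have hcu' : c * u * c⁻¹ = u := mul_inv_eq_of_eq_mul (mem_centralizer_singleton_iff.1 hcu)
    refine Finset.mem_filter.2 ⟨Finset.mem_filter.2 ⟨Finset.mem_univ _, mul_mem hc₀ hcH⟩, ?_⟩
    calc c₀ * c * u * (c₀ * c)⁻¹ = c₀ * (c * u * c⁻¹) * c₀⁻¹ := by group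
      _ = c₀ * u * c₀⁻¹ := by rw [hcu']
  · obtain ⟨h1, h2⟩ := Finset.mem_filter.1 hc
    refine Finset.mem_filter.2 ⟨Finset.mem_univ _, mem_inf.2
      ⟨mul_mem (inv_mem hc₀) (Finset.mem_filter.1 h1).2, mem_centralizer_singleton_iff.2 ?_⟩⟩
    calc c₀⁻¹ * c * u = c₀⁻¹ * (c * u * c⁻¹) * c := by group
      _ = c₀⁻¹ * (c₀ * u * c₀⁻¹) * c := by rw [h2]
      _ = u * (c₀⁻¹ * c) := by group

/-- The involutions of `X`. -/
noncomputable def invols (X : Type*) [Group X] [Fintype X] : Finset X :=
  Finset.univ.filter fun w => orderOf w = 2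

/-- The involutions with which `x` has a product of odd order. -/
noncomputable def oddMates (x : X) : Finset X :=
  (invols X).filter fun y => Odd (orderOf (x * y))

theorem card_oddMates_conj (g x : X) : (oddMates (g * x * g⁻¹)).card = (oddMates x).card := by
  refine Finset.card_bij' (fun w _ => g⁻¹ * w * g) (fun w _ => g * w * g⁻¹) (fun w hw => ?_)
    (fun w hw => ?_) (fun w _ => by group) (fun w _ => by group)
  · simp only [oddMates, invols, Finset.mem_filter, Finset.mem_univ, true_and] at hw ⊢
    constructor
    · have := CfsgLib.Involutions.orderOf_conj g⁻¹ w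
      rw [inv_inv] at this
      rw [this, hw.1]
    · rw [← CfsgLib.Involutions.orderOf_conj g (x * (g⁻¹ * w * g)),
        show g * (x * (g⁻¹ * w * g)) * g⁻¹ = g * x * g⁻¹ * w by group]
      exact hw.2
  · simp only [oddMates, invols, Finset.mem_filter, Finset.mem_univ, true_and] at hw ⊢
    refine ⟨by rw [CfsgLib.Involutions.orderOf_conj, hw.1], ?_⟩
    rw [show g * x * g⁻¹ * (g * w * g⁻¹) = g * (x * w) * g⁻¹ by group,
      CfsgLib.Involutions.orderOf_conj]
    exact hw.2

/-- The involutions other than `v` centralising `v`. -/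
noncomputable def near (v : X) : Finset X :=
  (invols X).filter fun w => w ≠ v ∧ w * v = v * w

theorem card_near_conj (g v : X) : (near (g * v * g⁻¹)).card = (near v).card := by
  refine Finset.card_bij' (fun w _ => g⁻¹ * w * g) (fun w _ => g * w * g⁻¹) (fun w hw => ?_)
    (fun w hw => ?_) (fun w _ => by group) (fun w _ => by group)
  · simp only [near, invols, Finset.mem_filter, Finset.mem_univ, true_and] at hw ⊢
    obtain ⟨h1, h2, h3⟩ := hw
    refine ⟨?_, fun h => h2 (by rw [← h]; group), ?_⟩
    · have := CfsgLib.Involutions.orderOf_conj g⁻¹ w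
      rw [inv_inv] at this
      rw [this, h1]
    · calc g⁻¹ * w * g * v = g⁻¹ * (w * (g * v * g⁻¹)) * g := by group
        _ = g⁻¹ * (g * v * g⁻¹ * w) * g := by rw [h3]
        _ = _ := by group
  · simp only [near, invols, Finset.mem_filter, Finset.mem_univ, true_and] at hw ⊢
    obtain ⟨h1, h2, h3⟩ := hw
    refine ⟨by rw [CfsgLib.Involutions.orderOf_conj, h1],
      fun h => h2 (mul_left_cancel (mul_right_cancel h)), ?_⟩
    calc g * w * g⁻¹ * (g * v * g⁻¹) = g * (w * v) * g⁻¹ := by group
      _ = g * (v * w) * g⁻¹ := by rw [h3]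
      _ = _ := by group

/-- The second alternative: more than a third of all products are of odd order. -/
theorem oddMates_large (h8 : ¬ 8 ∣ Nat.card X) (t u : X) (ht : orderOf t = 2)
    (hu : orderOf u = 2) (htu : Commute t u) (hne : t ≠ u)
    (hone : ∀ i j : X, orderOf i = 2 → orderOf j = 2 → IsConj i j)
    (hlt : 6 * Nat.card (centralizer ({t} : Set X)) ^ 3 <
      Nat.card X * Nat.card (centralizer ({t, u} : Set X)) ^ 2)
    {x : X} (hx : orderOf x = 2) : (invols X).card < 3 * (oddMates x).card := by
  haveI : Fact (Nat.Prime 2) := ⟨Nat.prime_two⟩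
  obtain ⟨g, rfl⟩ := isConj_iff.1 (hone t x ht hx)
  rw [card_oddMates_conj]
  set Ct := centralizer ({t} : Set X) with hCt
  set C := Nat.card Ct with hC
  set D := Nat.card (centralizer ({t, u} : Set X)) with hD
  have htt := CfsgLib.Involutions.mul_self_eq_one ht
  have huu := CfsgLib.Involutions.mul_self_eq_one hu
  have htc : t * u = u * t := htu.eq
  -- all involutions
  have hI : (invols X).card * C = Nat.card X := by
    have h := card_conjugates_mul (⊤ : Subgroup X) t
    rw [top_inf_eq, card_top] at h
    rw [← h]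
    congr 2
    ext w
    simp only [invols, Finset.mem_filter, Finset.mem_univ, true_and, mem_top]
    exact ⟨fun h => isConj_iff.1 (hone t w ht h),
      fun ⟨c, hc⟩ => hc ▸ (CfsgLib.Involutions.orderOf_conj c t).trans ht⟩
  -- those centralising `t`
  have horb : ∀ v : X, (Ct ⊓ centralizer ({v} : Set X) : Subgroup X) = centralizer ({t, u} : Set X) →
      (Finset.univ.filter fun w => ∃ c ∈ Ct, c * v * c⁻¹ = w).card * D = C := fun v hv => by
    have h := card_conjugates_mul Ct v
    rwa [hv] at h
  have hCu : (Ct ⊓ centralizer ({u} : Set X) : Subgroup X) = centralizer ({t, u} : Set X) := by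
    ext w
    simp only [hCt, mem_inf, mem_centralizer_iff, Set.mem_insert_iff, Set.mem_singleton_iff,
      forall_eq, forall_eq_or_imp]
  have hCv : (Ct ⊓ centralizer ({t * u} : Set X) : Subgroup X) = centralizer ({t, u} : Set X) := by
    ext w
    simp only [hCt, mem_inf, mem_centralizer_iff, Set.mem_insert_iff, Set.mem_singleton_iff,
      forall_eq, forall_eq_or_imp]
    constructor
    · rintro ⟨h1, h2⟩
      refine ⟨h1, ?_⟩
      have h3 : t * (u * w) = t * (w * u) := by
        calc t * (u * w) = t * u * w := by group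
          _ = w * (t * u) := h2
          _ = (w * t) * u := by group
          _ = t * w * u := by rw [h1]
          _ = t * (w * u) := by group
      exact mul_left_cancel h3
    · rintro ⟨h1, h2⟩
      refine ⟨h1, ?_⟩
      calc t * u * w = t * (u * w) := by group
        _ = t * (w * u) := by rw [h2]
        _ = t * w * u := by group
        _ = w * t * u := by rw [h1]
        _ = w * (t * u) := by group
  have hnear : (near t).card * D ≤ 2 * C := by
    set P1 := Finset.univ.filter fun w => ∃ c ∈ Ct, c * u * c⁻¹ = w with hP1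
    set P2 := Finset.univ.filter fun w => ∃ c ∈ Ct, c * (t * u) * c⁻¹ = w with hP2
    have hsub : near t ⊆ P1 ∪ P2 := by
      intro w hw
      simp only [near, invols, Finset.mem_filter, Finset.mem_univ, true_and] at hw
      obtain ⟨hw2, hwt, hwc⟩ := hw
      have hww := CfsgLib.Involutions.mul_self_eq_one hw2
      set tC : Ct := ⟨t, mem_centralizer_singleton_iff.2 rfl⟩
      set uC : Ct := ⟨u, mem_centralizer_singleton_iff.2 htc.symm⟩
      set wC : Ct := ⟨w, mem_centralizer_singleton_iff.2 hwc⟩
      let V : Subgroup Ct :=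
        { carrier := {v | (v : X) = 1 ∨ (v : X) = t ∨ (v : X) = u ∨ (v : X) = t * u}
          one_mem' := Or.inl rfl
          mul_mem' := by
            intro a b ha hb
            have e1 : t * (t * u) = u := by rw [← mul_assoc, htt, one_mul]
            have e2 : u * (t * u) = t := by rw [htc, ← mul_assoc, huu, one_mul]
            have e3 : t * u * t = u := by rw [htc, mul_assoc, htt, mul_one]
            have e4 : t * u * u = t := by rw [mul_assoc, huu, mul_one]
            have e5 : t * u * (t * u) = 1 := by rw [← mul_assoc, e3, huu]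
            have hb' := hb
            show ((a * b : Ct) : X) = 1 ∨ ((a * b : Ct) : X) = t ∨ ((a * b : Ct) : X) = u ∨
              ((a * b : Ct) : X) = t * u
            rcases ha with h | h | h | h <;> rcases hb' with h' | h' | h' | h' <;>
              rw [Subgroup.coe_mul, h, h'] <;>
              simp [htt, huu, htc.symm, e1, e2, e3, e4, e5]
          inv_mem' := by
            intro a ha
            rcases ha with h | h | h | h
            · exact Or.inl (by simp [h])
            · exact Or.inr (Or.inl (by simp [h, inv_eq_of_mul_eq_one_right htt]))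
            · exact Or.inr (Or.inr (Or.inl (by simp [h, inv_eq_of_mul_eq_one_right huu])))
            · refine Or.inr (Or.inr (Or.inr ?_))
              rw [Subgroup.coe_inv, h, mul_inv_rev, inv_eq_of_mul_eq_one_right htt,
                inv_eq_of_mul_eq_one_right huu, ← htc] }
      have hV4 : Nat.card V = 4 := by
        have ht1 := CfsgLib.Involutions.ne_one ht
        have hu1 := CfsgLib.Involutions.ne_one hu
        have htu1 : t * u ≠ 1 := fun h => hne (by
          rw [mul_eq_one_iff_eq_inv, inv_eq_of_mul_eq_one_right huu] at h; exact h)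
        have hset : (V : Set Ct) = (({1, tC, uC, tC * uC} : Finset Ct) : Set Ct) := by
          ext ⟨v, hv⟩
          simp only [Finset.coe_insert, Set.mem_insert_iff, Finset.coe_singleton,
            Set.mem_singleton_iff, Subtype.ext_iff]
          rfl
        rw [← SetLike.coe_sort_coe, hset, Nat.card_coe_set_eq, Set.ncard_coe_finset,
          Finset.card_insert_of_notMem, Finset.card_insert_of_notMem,
          Finset.card_insert_of_notMem, Finset.card_singleton] <;>
          simp [tC, uC, Subtype.ext_iff, hne, ht1.symm, hu1.symm, htu1.symm, ht1, hu1]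
      have hVp : IsPGroup 2 V := IsPGroup.of_card (n := 2) (by rw [hV4]; rfl)
      have hidx : ¬ 2 ∣ V.index := fun h => h8 (by
        refine dvd_trans ?_ (card_subgroup_dvd_card Ct)
        rw [← V.card_mul_index, hV4]
        exact (Nat.mul_dvd_mul_left 4 h : 4 * 2 ∣ 4 * V.index))
      have hwp : IsPGroup 2 (zpowers wC) := IsPGroup.of_card (n := 1) (by
        rw [Nat.card_zpowers, Subgroup.orderOf_mk, hw2, pow_one])
      obtain ⟨T, hT⟩ := hwp.exists_le_sylow
      obtain ⟨⟨c, hc⟩, hcT⟩ := MulAction.exists_smul_eq Ct T (hVp.toSylow hidx)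
      have hcw : (⟨c, hc⟩ : Ct) * wC * (⟨c, hc⟩ : Ct)⁻¹ ∈ (hVp.toSylow hidx : Subgroup Ct) := by
        rw [← hcT]; exact ⟨_, hT (mem_zpowers _), rfl⟩
      have hcv : c * w * c⁻¹ = 1 ∨ c * w * c⁻¹ = t ∨ c * w * c⁻¹ = u ∨ c * w * c⁻¹ = t * u := hcw
      have hct : c⁻¹ * t * c = t := by
        rw [mul_assoc, ← mem_centralizer_singleton_iff.1 hc, ← mul_assoc, inv_mul_cancel, one_mul]
      rcases hcv with h | h | h | h
      · exact absurd (conj_eq_one_iff.1 h) (CfsgLib.Involutions.ne_one hw2)
      · refine absurd ?_ hwt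
        rw [← hct, ← h]; group
      · exact Finset.mem_union_left _ (Finset.mem_filter.2 ⟨Finset.mem_univ _, c⁻¹,
          inv_mem hc, by rw [← h]; group⟩)
      · exact Finset.mem_union_right _ (Finset.mem_filter.2 ⟨Finset.mem_univ _, c⁻¹,
          inv_mem hc, by rw [← h]; group⟩)
    calc (near t).card * D ≤ (P1.card + P2.card) * D :=
          Nat.mul_le_mul_right D ((Finset.card_le_card hsub).trans (Finset.card_union_le _ _))
      _ = 2 * C := by rw [add_mul, horb u hCu, horb (t * u) hCv]; ring
  -- products of even order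
  have heven : (invols X).card ≤ (oddMates t).card + (near t).card * (near t).card := by
    have hsub : invols X ⊆ oddMates t ∪ (near t ∪
        (near t).biUnion fun w => (near w).erase t) := by
      intro y hy
      have hy2 : orderOf y = 2 := (Finset.mem_filter.1 hy).2
      by_cases hodd : Odd (orderOf (t * y))
      · exact Finset.mem_union_left _ (Finset.mem_filter.2 ⟨hy, hodd⟩)
      refine Finset.mem_union_right _ ?_
      have hev := Nat.not_odd_iff_even.1 hodd
      set w := (t * y) ^ (orderOf (t * y) / 2) with hw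
      have hw2 : orderOf w = 2 := CfsgLib.Involutions.orderOf_half hev (orderOf_pos _).ne'
      have hwt : w * t = t * w := (CfsgLib.Involutions.commute_half_left ht hy2 hev).eq
      have hwy : w * y = y * w := (CfsgLib.Involutions.commute_half_right ht hy2 hev).eq
      have hyt : y ≠ t := fun h => hodd (by rw [h, htt, orderOf_one]; exact odd_one)
      by_cases hc : y * t = t * y
      · exact Finset.mem_union_left _ (Finset.mem_filter.2 ⟨hy, hyt, hc⟩)
      refine Finset.mem_union_right _ (Finset.mem_biUnion.2 ⟨w, ?_, ?_⟩)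
      · refine Finset.mem_filter.2 ⟨Finset.mem_filter.2 ⟨Finset.mem_univ _, hw2⟩, ?_, hwt⟩
        intro h
        rw [h] at hwy
        exact hc hwy.symm
      · refine Finset.mem_erase.2 ⟨hyt, Finset.mem_filter.2 ⟨hy, ?_, hwy.symm⟩⟩
        intro h
        exact hc (by rw [h]; exact hwt)
    have hbi : ((near t).biUnion fun w => (near w).erase t).card ≤
        (near t).card * ((near t).card - 1) := by
      refine Finset.card_biUnion_le_card_mul _ _ _ fun w hw => ?_
      simp only [near, invols, Finset.mem_filter, Finset.mem_univ, true_and] at hw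
      obtain ⟨g, hg⟩ := isConj_iff.1 (hone t w ht hw.1)
      have htw : t ∈ near w :=
        Finset.mem_filter.2 ⟨Finset.mem_filter.2 ⟨Finset.mem_univ _, ht⟩, Ne.symm hw.2.1, hw.2.2.symm⟩
      rw [Finset.card_erase_of_mem htw, ← card_near_conj g t, hg]
    refine (Finset.card_le_card hsub).trans ((Finset.card_union_le _ _).trans
      (Nat.add_le_add_left ((Finset.card_union_le _ _).trans ?_) _))
    refine (Nat.add_le_add_left hbi _).trans ?_
    generalize (near t).card = m
    rcases m with _ | m
    · simp
    · simp only [Nat.add_sub_cancel]; ring_nf; omega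
  -- the arithmetic
  by_contra! hle
  generalize hi : (invols X).card = i at hI heven hle
  generalize (oddMates t).card = f at heven hle
  generalize (near t).card = m at heven hnear
  have hDpos : 0 < D := Nat.card_pos
  have hCpos : 0 < C := Nat.card_pos
  have h1 : 2 * i ≤ 3 * (m * m) := by omega
  have h2 : 2 * i * D ^ 2 ≤ 3 * (2 * C) ^ 2 := by
    calc 2 * i * D ^ 2 ≤ 3 * (m * m) * D ^ 2 := Nat.mul_le_mul_right _ h1
      _ = 3 * ((m * D) * (m * D)) := by ring
      _ ≤ 3 * ((2 * C) * (2 * C)) := by gcongr
      _ = 3 * (2 * C) ^ 2 := by ring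
  have h3 : i * D ^ 2 ≤ 6 * C ^ 2 := by
    have : 3 * (2 * C) ^ 2 = 2 * (6 * C ^ 2) := by ring
    rw [this, mul_assoc] at h2
    omega
  have h4 : i * C * D ^ 2 ≤ 6 * C ^ 3 := by
    calc i * C * D ^ 2 = i * D ^ 2 * C := by ring
      _ ≤ 6 * C ^ 2 * C := Nat.mul_le_mul_right _ h3
      _ = 6 * C ^ 3 := by ring
  rw [hI] at h4
  omega

end CfsgLib.LinearThreeFourType.BadCount
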