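import Cfsg.Agent.Lib.LinearThreeFourType.BadPairs
import Cfsg.Agent.Lib.LinearThreeFourType.BadProducts
import Cfsg.Agent.Lib.Transfer.Abelian

/-!
The centraliser of a turned involution of `B`: either it is generated by its odd core and the
normaliser of `B`, or it has few central involutions.
-/

set_option autoImplicit false
set_option linter.unusedSectionVars false

open scoped Classical commutatorElement Pointwise

namespace CfsgLib.LinearThreeFourType.BadCount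

open Subgroup Cfsg CfsgLib.AEightThreeClasses

universe u

variable {G : Type u} [Group G] [Fintype G] {F : Frame G} (P : Both F)
include P

/-- The local structure when the centre is normal in the centraliser of `b` modulo its core. -/
theorem Both.loc_of_congr {b : G} (hb : b ∈ F.B) (hbA : b ∉ F.A)
    (h : ∀ g ∈ centralizer ({b} : Set G), ∀ z ∈ F.A ⊓ F.B, z ≠ 1 →
      ∃ v ∈ F.A ⊓ F.B, g * z * g⁻¹ * v⁻¹ ∈ Oc b) :
    Loc (normalizer (F.B : Set G)) b := by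
  haveI : Fact (Nat.Prime 2) := ⟨Nat.prime_two⟩
  set C := centralizer ({b} : Set G) with hC
  have hBC : F.B ≤ C := fun x hx => mem_cent.2 (F.B_comm hx hb)
  have hZC : F.A ⊓ F.B ≤ C := inf_le_right.trans hBC
  have hOO : ∀ v ∈ C, ∀ o ∈ Oc b, v * o * v⁻¹ ∈ Oc b := fun v hv o ho =>
    (mem_normalizer_iff.1 (centralizer_le_normalizer_Oc b hv) o).1 ho
  -- every element fixes the centre up to the core
  have step1 : ∀ g ∈ C, ∃ o ∈ Oc b, ∀ z ∈ F.A ⊓ F.B, o⁻¹ * g * z * (o⁻¹ * g)⁻¹ ∈ F.A ⊓ F.B := by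
    intro g hg
    obtain ⟨z₁, hz₁, hz₁1⟩ := exists_Z_ne_one F
    obtain ⟨v₁, hv₁, hv₁O⟩ := h g hg z₁ hz₁ hz₁1
    have hsq : ∀ x ∈ F.A ⊓ F.B, ∀ k : G, k * x * k⁻¹ * (k * x * k⁻¹) = 1 := fun x hx k => by
      calc k * x * k⁻¹ * (k * x * k⁻¹) = k * (x * x) * k⁻¹ := by group
        _ = 1 := by rw [F.A_sq hx.1]; group
    obtain ⟨o₁, ho₁, ho₁e⟩ := exists_conj_of_mem_coset (odd_card_Oc b) hv₁O (F.A_sq hv₁.1)
      (by rw [inv_mul_cancel_right]; exact hsq z₁ hz₁ g)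
    rw [inv_mul_cancel_right] at ho₁e
    set g₁ := o₁⁻¹ * g with hg₁
    have hg₁C : g₁ ∈ C := mul_mem (inv_mem (Oc_le b ho₁)) hg
    have hg₁z : g₁ * z₁ * g₁⁻¹ = v₁ := by
      calc g₁ * z₁ * g₁⁻¹ = o₁⁻¹ * (g * z₁ * g⁻¹) * o₁ := by rw [hg₁]; group
        _ = v₁ := by rw [← ho₁e]; group
    obtain ⟨z₂, hz₂, hz₂1, hz₂ne⟩ : ∃ z ∈ F.A ⊓ F.B, z ≠ 1 ∧ z₁ ≠ z := by
      obtain ⟨a, -, -, y, hy, -, -, hf⟩ := P.turnA
      exact ⟨y * z₁ * y⁻¹, conj_Z hy hz₁, fun e => hz₁1 (conj_eq_one_iff.1 e),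
        fun e => hf z₁ hz₁ hz₁1 e.symm⟩
    obtain ⟨v₂, hv₂, hv₂O⟩ := h g₁ hg₁C z₂ hz₂ hz₂1
    have hL : Odd (Nat.card (Oc b ⊓ centralizer ({v₁} : Set G) : Subgroup G)) :=
      (odd_card_Oc b).of_dvd_nat (card_dvd_of_le inf_le_left)
    have hcw : g₁ * z₂ * g₁⁻¹ * v₁ = v₁ * (g₁ * z₂ * g₁⁻¹) := by
      rw [← hg₁z]
      calc g₁ * z₂ * g₁⁻¹ * (g₁ * z₁ * g₁⁻¹) = g₁ * (z₂ * z₁) * g₁⁻¹ := by group
        _ = g₁ * (z₁ * z₂) * g₁⁻¹ := by rw [F.A_comm hz₂.1 hz₁.1]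
        _ = _ := by group
    have hd : g₁ * z₂ * g₁⁻¹ * v₂⁻¹ ∈ Oc b ⊓ centralizer ({v₁} : Set G) :=
      ⟨hv₂O, (mul_mem (mem_cent.2 hcw) (inv_mem (mem_cent.2 (F.A_comm hv₂.1 hv₁.1))) :
        g₁ * z₂ * g₁⁻¹ * v₂⁻¹ ∈ centralizer ({v₁} : Set G))⟩
    obtain ⟨o₂, ho₂, ho₂e⟩ := exists_conj_of_mem_coset hL hd (F.A_sq hv₂.1)
      (by rw [inv_mul_cancel_right]; exact hsq z₂ hz₂ g₁)
    rw [inv_mul_cancel_right] at ho₂e
    refine ⟨o₁ * o₂, mul_mem ho₁ ho₂.1, fun z hz => ?_⟩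
    set k := (o₁ * o₂)⁻¹ * g with hk
    have hk1 : k * z₁ * k⁻¹ = v₁ := by
      calc k * z₁ * k⁻¹ = o₂⁻¹ * (g₁ * z₁ * g₁⁻¹) * o₂ := by rw [hk, hg₁]; group
        _ = o₂⁻¹ * (v₁ * o₂) := by rw [hg₁z]; group
        _ = v₁ := by rw [← mem_cent.1 ho₂.2]; group
    have hk2 : k * z₂ * k⁻¹ = v₂ := by
      calc k * z₂ * k⁻¹ = o₂⁻¹ * (g₁ * z₂ * g₁⁻¹) * o₂ := by rw [hk, hg₁]; group
        _ = v₂ := by rw [← ho₂e]; group
    rcases Z_cases F hz₁ hz₂ hz hz₁1 hz₂1 hz₂ne with rfl | rfl | rfl | rfl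
    · simp
    · rw [hk1]; exact hv₁
    · rw [hk2]; exact hv₂
    · rw [show k * (z₁ * z₂) * k⁻¹ = k * z₁ * k⁻¹ * (k * z₂ * k⁻¹) by group, hk1, hk2]
      exact mul_mem hv₁ hv₂
  -- the centraliser of `b` and the centre
  set H : Subgroup G := centralizer (insert b ((F.A ⊓ F.B : Subgroup G) : Set G)) with hH
  have hmH : ∀ {x}, x ∈ H ↔ x * b = b * x ∧ ∀ z ∈ F.A ⊓ F.B, x * z = z * x := by
    intro x
    rw [hH, mem_centralizer_iff]
    simp only [Set.mem_insert_iff, SetLike.mem_coe, forall_eq_or_imp]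
    exact ⟨fun h => ⟨h.1.symm, fun z hz => (h.2 z hz).symm⟩,
      fun h => ⟨h.1.symm, fun z hz => (h.2 z hz).symm⟩⟩
  have hBH : F.B ≤ H := fun x hx => hmH.2 ⟨F.B_comm hx hb, fun z hz => F.B_comm hx hz.2⟩
  set K0 : Subgroup G := (oddCore ↥H).map H.subtype with hK0
  have hK0H : K0 ≤ H := map_subtype_le _
  have hK0C : K0 ≤ C := fun x hx => mem_cent.2 (hmH.1 (hK0H hx)).1
  have hK0odd : Odd (Nat.card K0) := by
    rw [hK0, card_map_of_injective H.subtype_injective]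
    exact CfsgLib.Cores.odd_card_oddCore
  -- normalised by whatever normalises `H`
  have hK0n : ∀ k : G, k ∈ normalizer (H : Set G) → k ∈ normalizer (K0 : Set G) := by
    intro k hk
    haveI := CfsgLib.Cores.pPrimeCore_characteristic 2 ↥H
    refine CfsgLib.CoprimeAction.mem_normalizer_of_conj_mem ?_
    rintro _ ⟨x, hx, rfl⟩
    let e : H ≃* H :=
      { toFun := fun w => ⟨k * w * k⁻¹, (mem_normalizer_iff.1 hk _).1 w.2⟩
        invFun := fun w => ⟨k⁻¹ * w * k, (mem_normalizer_iff.1 hk _).2 (by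
          rw [show k * (k⁻¹ * (w : G) * k) * k⁻¹ = w by group]; exact w.2)⟩
        left_inv := fun w => Subtype.ext (by dsimp; group)
        right_inv := fun w => Subtype.ext (by dsimp; group)
        map_mul' := fun v w => Subtype.ext (by dsimp; group) }
    have hchar : (Cfsg.pPrimeCore 2 ↥H).map e.toMonoidHom = Cfsg.pPrimeCore 2 ↥H :=
      (Subgroup.characteristic_iff_map_eq.1 inferInstance) e
    exact ⟨e x, hchar.le (mem_map_of_mem _ hx), rfl⟩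
  -- and contained in the core of `C(b)`
  have hK0O : K0 ≤ Oc b := by
    set M := K0 ⊔ Oc b with hM
    have hKN : K0 ≤ normalizer (Oc b : Set G) := hK0C.trans (centralizer_le_normalizer_Oc b)
    have hMc : (M : Set G) = (K0 : Set G) * (Oc b : Set G) :=
      coe_mul_of_left_le_normalizer_right _ _ hKN
    have hmM : ∀ {x}, x ∈ M ↔ ∃ k ∈ K0, ∃ o ∈ Oc b, k * o = x := by
      intro x
      rw [← SetLike.mem_coe, hMc, Set.mem_mul]
      rfl
    have hMC : M ≤ C := sup_le hK0C (Oc_le b)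
    refine le_sup_left.trans (le_Oc hMC ?_ ?_)
    · intro g hg
      refine CfsgLib.CoprimeAction.mem_normalizer_of_conj_mem fun x hx => ?_
      obtain ⟨o₀, ho₀, hk⟩ := step1 g hg
      set g₂ := o₀⁻¹ * g with hg₂
      have hg₂C : g₂ ∈ C := mul_mem (inv_mem (Oc_le b ho₀)) hg
      have hg₂H : g₂ ∈ normalizer (H : Set G) := by
        refine CfsgLib.CoprimeAction.mem_normalizer_of_conj_mem fun w hw => ?_
        obtain ⟨h1, h2⟩ := hmH.1 hw
        refine hmH.2 ⟨mem_cent.1 (mul_mem (mul_mem hg₂C (mem_cent.2 h1)) (inv_mem hg₂C)),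
          fun z hz => ?_⟩
        obtain ⟨z', hz', rfl⟩ : ∃ z' ∈ F.A ⊓ F.B, g₂ * z' * g₂⁻¹ = z := by
          let φ : ↥(F.A ⊓ F.B) → ↥(F.A ⊓ F.B) := fun v => ⟨g₂ * v * g₂⁻¹, hk v v.2⟩
          have hinj : Function.Injective φ := fun v w e =>
            Subtype.ext (mul_left_cancel (mul_right_cancel (congrArg Subtype.val e)))
          obtain ⟨v, hv⟩ := Finite.injective_iff_surjective.1 hinj ⟨z, hz⟩
          exact ⟨v, v.2, congrArg Subtype.val hv⟩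
        calc g₂ * w * g₂⁻¹ * (g₂ * z' * g₂⁻¹) = g₂ * (w * z') * g₂⁻¹ := by group
          _ = g₂ * (z' * w) * g₂⁻¹ := by rw [h2 z' hz']
          _ = _ := by group
      obtain ⟨k, hk', o, ho, rfl⟩ := hmM.1 hx
      rw [show g * (k * o) * g⁻¹ = o₀ * (g₂ * k * g₂⁻¹) * o₀⁻¹ * (g * o * g⁻¹) by rw [hg₂]; group]
      exact mul_mem (mul_mem (mul_mem (mem_sup_right ho₀)
        (mem_sup_left ((mem_normalizer_iff.1 (hK0n g₂ hg₂H) k).1 hk')))
        (inv_mem (mem_sup_right ho₀))) (mem_sup_right (hOO g hg o ho))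
    · rw [← Nat.not_even_iff_odd]
      intro hev
      obtain ⟨f, hf⟩ := exists_prime_orderOf_dvd_card' (G := M) 2 (even_iff_two_dvd.1 hev)
      obtain ⟨k, hk', o, ho, hko⟩ := hmM.1 f.2
      have hf2 : (f : G) * f = 1 := by
        have := CfsgLib.Involutions.mul_self_eq_one hf
        exact congrArg Subtype.val this
      have h1 : (f : G) * k⁻¹ ∈ Oc b := by
        rw [← hko]; exact hOO k (hK0C hk') o ho
      have h2 := eq_one_of_div_mem_sub (Oc_le b) (centralizer_le_normalizer_Oc b) (odd_card_Oc b)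
        (hMC f.2) (hK0C hk') hf2 (odd_orderOf_of_mem hK0odd hk') h1
      exact CfsgLib.Involutions.ne_one hf (Subtype.ext h2)
  -- conclusion
  intro g hg
  obtain ⟨o₀, ho₀, hk⟩ := step1 g hg
  set g₂ := o₀⁻¹ * g with hg₂
  have hg₂C : g₂ ∈ C := mul_mem (inv_mem (Oc_le b ho₀)) hg
  -- move `B` back by an element of `H`
  have hBsyl : ∀ T : Subgroup G, IsPGroup 2 T → T ≤ C → Nat.card T ≤ 16 := by
    intro T hT hTC
    have hp : IsPGroup 2 (T ⊔ zpowers b : Subgroup G) :=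
      IsPGroup.to_sup_of_normal_left' hT
        (IsPGroup.of_card (n := 1) (by
          rw [Nat.card_zpowers, pow_one]
          exact CfsgLib.Involutions.orderOf_eq_two_iff.2 ⟨F.B_sq hb, fun e => hbA (e ▸ one_mem _)⟩))
        (zpowers_le.2 (CfsgLib.CoprimeAction.mem_normalizer_of_conj_mem fun x hx => by
          rw [← mem_cent.1 (hTC hx), mul_inv_cancel_right]; exact hx))
    obtain ⟨T', hT'⟩ := hp.exists_le_sylow
    obtain ⟨q, hq⟩ := MulAction.exists_smul_eq G T' F.S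
    have hmem : ∀ x ∈ (T ⊔ zpowers b : Subgroup G), q * x * q⁻¹ ∈ (F.S : Subgroup G) := fun x hx => by
      rw [← hq]; exact ⟨x, hT' hx, rfl⟩
    have hqb := P.clB b hb hbA q (hmem b (mem_sup_right (mem_zpowers b)))
    have hle : T.map (MulAut.conj q).toMonoidHom ≤ F.B := by
      rintro _ ⟨x, hx, rfl⟩
      refine F.cent_B _ hqb.1 hqb.2 _ (hmem x (mem_sup_left hx)) ?_
      show q * x * q⁻¹ * (q * b * q⁻¹) = q * b * q⁻¹ * (q * x * q⁻¹)
      calc q * x * q⁻¹ * (q * b * q⁻¹) = q * (x * b) * q⁻¹ := by group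
        _ = q * (b * x) * q⁻¹ := by rw [mem_cent.1 (hTC hx)]
        _ = _ := by group
    have := card_le_of_le hle
    rwa [card_map_of_injective (MulAut.conj q).injective, F.card_B] at this
  have hHC : H ≤ C := fun x hx => mem_cent.2 (hmH.1 hx).1
  have hB2 : IsPGroup 2 F.B := IsPGroup.of_card (n := 4) (by rw [F.card_B]; rfl)
  have hB'2 : IsPGroup 2 (F.B.map (MulAut.conj g₂).toMonoidHom) :=
    IsPGroup.of_card (n := 4) (by rw [card_map_of_injective (MulAut.conj g₂).injective, F.card_B]; rfl)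
  have hB'H : F.B.map (MulAut.conj g₂).toMonoidHom ≤ H := by
    rintro _ ⟨x, hx, rfl⟩
    refine hmH.2 ⟨mem_cent.1 (mul_mem (mul_mem hg₂C (hBC hx)) (inv_mem hg₂C)), fun z hz => ?_⟩
    let φ : ↥(F.A ⊓ F.B) → ↥(F.A ⊓ F.B) := fun v => ⟨g₂ * v * g₂⁻¹, hk v v.2⟩
    have hinj : Function.Injective φ := fun v w e =>
      Subtype.ext (mul_left_cancel (mul_right_cancel (congrArg Subtype.val e)))
    obtain ⟨v, hv⟩ := Finite.injective_iff_surjective.1 hinj ⟨z, hz⟩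
    have hv' : g₂ * (v : G) * g₂⁻¹ = z := congrArg Subtype.val hv
    show g₂ * x * g₂⁻¹ * z = z * (g₂ * x * g₂⁻¹)
    rw [← hv']
    calc g₂ * x * g₂⁻¹ * (g₂ * v * g₂⁻¹) = g₂ * (x * v) * g₂⁻¹ := by group
      _ = g₂ * (v * x) * g₂⁻¹ := by rw [F.B_comm hx v.2.2]
      _ = _ := by group
  have hmax : ∀ {Q : Subgroup G}, Q ≤ H → Nat.card Q = 16 → (hQ : IsPGroup 2 Q) →
      ∃ T : Sylow 2 H, (T : Subgroup H) = Q.subgroupOf H := by
    intro Q hQH hQc hQ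
    obtain ⟨T, hT⟩ := (hQ.comap_of_injective H.subtype H.subtype_injective).exists_le_sylow
    refine ⟨T, (eq_of_le_of_card_ge hT ?_).symm⟩
    rw [← Subgroup.card_map_of_injective H.subtype_injective (K := (T : Subgroup H))]
    refine le_trans (hBsyl _ (T.2.map _) ((map_subtype_le _).trans hHC)) (le_of_eq ?_)
    rw [← hQc]
    exact (Nat.card_congr (subgroupOfEquivOfLe hQH).toEquiv).symm
  obtain ⟨T₁, hT₁⟩ := hmax hBH F.card_B hB2
  obtain ⟨T₂, hT₂⟩ := hmax hB'H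
    (by rw [card_map_of_injective (MulAut.conj g₂).injective, F.card_B]) hB'2
  obtain ⟨⟨c, hc⟩, hcT⟩ := MulAction.exists_smul_eq H T₁ T₂
  have hcB : ∀ x ∈ F.B, c⁻¹ * (g₂ * x * g₂⁻¹) * c ∈ F.B := by
    intro x hx
    have h1 : (⟨g₂ * x * g₂⁻¹, hB'H ⟨x, hx, rfl⟩⟩ : H) ∈ (T₂ : Subgroup H) :=
      hT₂ ▸ (mem_subgroupOf.2 ⟨x, hx, rfl⟩)
    rw [← hcT] at h1
    obtain ⟨w, hw, hwe⟩ := h1
    have hwe' : c * (w : G) * c⁻¹ = g₂ * x * g₂⁻¹ := congrArg Subtype.val hwe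
    rw [← hwe', show c⁻¹ * (c * (w : G) * c⁻¹) * c = (w : G) by group]
    exact mem_subgroupOf.1 (hT₁ ▸ hw : w ∈ F.B.subgroupOf H)
  -- split `c` by the structure of `C(z)`
  obtain ⟨z, hz, hz1⟩ := exists_Z_ne_one F
  have hcz : c ∈ centralizer ({z} : Set G) := mem_cent.2 ((hmH.1 hc).2 z hz)
  obtain ⟨o, ho, n, hn, hcon⟩ := P.loc z hz hz1 c hcz
  have hnC : n ∈ centralizer ({z} : Set G) := by
    have := mul_mem (inv_mem (Oc_le z ho)) hcz
    rwa [hcon, inv_mul_cancel_left] at this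
  have hfix : ∀ s : G, s ∈ (F.S : Subgroup G) → c * s * c⁻¹ = s → n * s * n⁻¹ ∈ (F.S : Subgroup G) →
      n * s * n⁻¹ = s := by
    intro s hs hcs hns
    refine eq_of_mk_eq (F := F) hz hns hs ?_
    refine (mk_conj_Oc (F := F) hz ho hns (S_cent F hz hs) ?_).symm
    calc o * (n * s * n⁻¹) * o⁻¹ = c * s * c⁻¹ := by rw [hcon]; group
      _ = s := hcs
  have hnb : n * b * n⁻¹ = b := hfix b (F.B_le hb) (mul_inv_eq_of_eq_mul (hmH.1 hc).1)
    (F.B_le (conj_B hn hb))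
  have hnz : ∀ w ∈ F.A ⊓ F.B, n * w * n⁻¹ = w := fun w hw =>
    hfix w (Z_le_S F hw) (mul_inv_eq_of_eq_mul ((hmH.1 hc).2 w hw)) (Z_le_S F (conj_Z hn hw))
  have hnH : n ∈ H := hmH.2 ⟨mul_inv_eq_iff_eq_mul.1 hnb,
    fun w hw => mul_inv_eq_iff_eq_mul.1 (hnz w hw)⟩
  have hoH : o ∈ H := by
    have := mul_mem hc (inv_mem hnH)
    rwa [hcon, mul_inv_cancel_right] at this
  have hoK : o ∈ K0 := by
    have hHz : H ≤ centralizer ({z} : Set G) := fun w hw => mem_cent.2 ((hmH.1 hw).2 z hz)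
    haveI := normal_subgroupOf_of_le_normalizer (hHz.trans (centralizer_le_normalizer_Oc z))
    have h1 : (Oc z).subgroupOf H ≤ oddCore ↥H := CfsgLib.Cores.le_oddCore (by
      refine (odd_card_Oc z).of_dvd_nat ?_
      exact Subgroup.card_dvd_of_injective (H.subtype.subgroupComap (Oc z))
        (fun u v e => Subtype.ext (Subtype.ext (congrArg (fun w : ↥(Oc z) => (w : G)) e))))
    exact ⟨⟨o, hoH⟩, h1 (mem_subgroupOf.2 ho), rfl⟩
  refine ⟨o₀ * o, mul_mem ho₀ (hK0O hoK), o⁻¹ * g₂, ?_, by rw [hg₂]; group⟩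
  have hcN : c⁻¹ * g₂ ∈ normalizer (F.B : Set G) :=
    CfsgLib.CoprimeAction.mem_normalizer_of_conj_mem fun x hx => by
      rw [show c⁻¹ * g₂ * x * (c⁻¹ * g₂)⁻¹ = c⁻¹ * (g₂ * x * g₂⁻¹) * c by group]
      exact hcB x hx
  have := mul_mem hn.2 hcN
  rwa [hcon, show n * ((o * n)⁻¹ * g₂) = o⁻¹ * g₂ by group] at this

end CfsgLib.LinearThreeFourType.BadCount
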