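import Cfsg.Agent.Lib.LinearThreeFourType.Setting
import Cfsg.Agent.S0215

/-!
The centraliser of a central involution: `C(z) = O(C(z)) (N(A) ∩ N(B))`.
-/

set_option autoImplicit false
set_option linter.style.haveILetI false

namespace CfsgLib.LinearThreeFourType

open Subgroup Cfsg CfsgLib.AEightThreeClasses

universe u

variable {G : Type u} [Group G]

theorem eq_third {Z : Subgroup G} (hc : Nat.card Z = 4) {z w v : G} (hz : z ∈ Z) (hw : w ∈ Z)
    (hv : v ∈ Z) (hz1 : z ≠ 1) (hw1 : w ≠ 1) (hwz : w ≠ z) (hzw : z * w ≠ 1) (hv1 : v ≠ 1) (hvz : v ≠ z) :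
    v = w ∨ v = z * w := by
  classical
  by_contra! h
  haveI : Finite Z := Nat.finite_of_card_ne_zero (by omega)
  have n1 : z ≠ z * w := fun e => hw1 (left_eq_mul.1 e)
  have n2 : w ≠ z * w := fun e => hz1 (right_eq_mul.1 e)
  have hcard : ({1, z, w, z * w, v} : Finset G).card = 5 := by
    rw [Finset.card_insert_of_notMem (by simp [hz1.symm, hw1.symm, hzw.symm, hv1.symm]),
      Finset.card_insert_of_notMem (by simp [hwz.symm, n1, hvz.symm]),
      Finset.card_insert_of_notMem (by simp [n2, h.1.symm]),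
      Finset.card_insert_of_notMem (by simp [h.2.symm]), Finset.card_singleton]
  have hle : Nat.card ({1, z, w, z * w, v} : Finset G) ≤ Nat.card Z :=
    Nat.card_le_card_of_injective (fun x => (⟨(x : G), by
      have hx := x.2
      simp only [Finset.mem_insert, Finset.mem_singleton] at hx
      rcases hx with e | e | e | e | e <;> rw [e]
      exacts [one_mem _, hz, hw, mul_mem hz hw, hv]⟩ : Z)) (fun x y e => Subtype.ext (congrArg Subtype.val e :))
  rw [Nat.card_eq_finsetCard, hcard, hc] at hle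
  omega

namespace Frame

variable (F : Frame G)

theorem Z_sq {z : G} (hz : z ∈ F.A ⊓ F.B) : z * z = 1 := F.A_sq hz.1

theorem exists_not_mem_B [Finite G] : ∃ a ∈ F.A, a ∉ F.B := by
  by_contra! h
  have h1 : F.A ⊓ F.B = F.A := inf_eq_left.2 h
  have h2 := F.card_Z
  rw [h1, F.card_A] at h2
  omega

/-- An element of `A` outside `B` is conjugate in `S` to every element of its coset. -/
theorem exists_conj_coset [Finite G] {a z : G} (ha : a ∈ F.A) (haB : a ∉ F.B) (hz : z ∈ F.A ⊓ F.B) :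
    ∃ b ∈ F.B, b * a * b⁻¹ = a * z := by
  let φ : F.B →* ↥(F.A ⊓ F.B) :=
    { toFun := fun b => ⟨a⁻¹ * (b : G) * a * (b : G)⁻¹, by
        have h := F.commutator_mem (F.A.inv_mem ha) b.2
        rwa [inv_inv] at h⟩
      map_one' := Subtype.ext (by simp)
      map_mul' := fun b c => Subtype.ext (by
        show a⁻¹ * (b * c : G) * a * (b * c : G)⁻¹ = a⁻¹ * b * a * (b : G)⁻¹ * (a⁻¹ * c * a * (c : G)⁻¹)
        have hk : a⁻¹ * (c : G) * a * (c : G)⁻¹ ∈ F.A ⊓ F.B := by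
          have h := F.commutator_mem (F.A.inv_mem ha) c.2
          rwa [inv_inv] at h
        have hc := F.central _ hk (b : G) (F.B_le b.2)
        have hc' := F.central _ hk (a⁻¹ * (b : G) * a) (mul_mem (mul_mem (inv_mem (F.A_le ha)) (F.B_le b.2)) (F.A_le ha))
        calc a⁻¹ * (b * c : G) * a * (b * c : G)⁻¹
            = (a⁻¹ * b * a) * (a⁻¹ * c * a * (c : G)⁻¹) * (b : G)⁻¹ := by group
          _ = (a⁻¹ * c * a * (c : G)⁻¹) * ((a⁻¹ * b * a) * (b : G)⁻¹) := by rw [hc']; group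
          _ = a⁻¹ * b * a * (b : G)⁻¹ * (a⁻¹ * c * a * (c : G)⁻¹) := by
            refine (F.central _ hk _ ?_).symm
            exact mul_mem (mul_mem (mul_mem (inv_mem (F.A_le ha)) (F.B_le b.2)) (F.A_le ha)) (inv_mem (F.B_le b.2))) }
  have hker : Nat.card φ.ker ≤ 4 := by
    rw [← F.card_Z]
    refine Nat.card_le_card_of_injective (fun b => (⟨((b : F.B) : G), ?_, (b : F.B).2⟩ : ↥(F.A ⊓ F.B)))
      (fun b c h => by
        have h' := congrArg Subtype.val h
        exact Subtype.ext (Subtype.ext h'))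
    refine F.cent_A a ha haB _ (F.B_le (b : F.B).2) ?_
    have h : a⁻¹ * ((b : F.B) : G) * a * ((b : F.B) : G)⁻¹ = 1 := congrArg Subtype.val b.2
    rw [mul_inv_eq_one] at h
    calc ((b : F.B) : G) * a = a * (a⁻¹ * ((b : F.B) : G) * a) := by group
      _ = a * ((b : F.B) : G) := by rw [h]
  have hsurj : φ.range = ⊤ := by
    refine eq_top_of_card_eq _ (le_antisymm ?_ ?_)
    · exact Nat.card_le_card_of_injective _ Subtype.val_injective
    · have h := φ.ker.card_mul_index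
      rw [F.card_B, index_ker] at h
      rw [F.card_Z]
      by_contra hlt
      nlinarith
  obtain ⟨⟨b, hb⟩, he⟩ : (⟨z, hz⟩ : ↥(F.A ⊓ F.B)) ∈ φ.range := hsurj ▸ mem_top _
  refine ⟨b, hb, ?_⟩
  have h : a⁻¹ * b * a * b⁻¹ = z := congrArg Subtype.val he
  calc b * a * b⁻¹ = a * (a⁻¹ * b * a * b⁻¹) := by group
    _ = a * z := by rw [h]

/-- Elements of the Sylow normaliser of a subgroup containing `S` fix both large subgroups. -/
theorem normalizes [Finite G] {H : Subgroup G} (hS : (F.S : Subgroup G) ≤ H) {n : H}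
    (hn : n ∈ normalizer ((F.S.subtype hS : Subgroup H) : Set H)) :
    (∀ a ∈ F.A, (n : G) * a * (n : G)⁻¹ ∈ F.A) ∧ (∀ b ∈ F.B, (n : G) * b * (n : G)⁻¹ ∈ F.B) := by
  haveI : Fact (Nat.Prime 2) := ⟨Nat.prime_two⟩
  set P : Sylow 2 H := F.S.subtype hS with hP
  set N := normalizer ((P : Subgroup H) : Set H) with hN
  -- an odd power lies in `S`
  obtain ⟨k, hk⟩ : ∃ k, n ^ (2 * k + 1) ∈ (P : Subgroup H) := by
    haveI : ((P : Subgroup H).subgroupOf N).Normal :=
      Subgroup.normal_subgroupOf_iff_le_normalizer le_normalizer |>.2 le_rfl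
    have hodd : Odd ((P : Subgroup H).subgroupOf N).index := by
      rw [← Nat.not_even_iff_odd, even_iff_two_dvd]
      exact (P.subtype le_normalizer).not_dvd_index
    obtain ⟨k, hk⟩ := hodd
    refine ⟨k, ?_⟩
    have h := pow_index_mem ((P : Subgroup H).subgroupOf N) (⟨n, hn⟩ : N)
    rw [hk] at h
    exact h
  have key : ∀ E : Subgroup G, E ≤ (F.S : Subgroup G) → (∀ e ∈ E, e * e = 1) → Nat.card E = 16 →
      E.map (MulAut.conj (n : G)).toMonoidHom = F.A ∨ E.map (MulAut.conj (n : G)).toMonoidHom = F.B := by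
    intro E hES hsq hc
    refine F.elem ?_ ?_ (by rw [card_map_of_injective (MulAut.conj (n : G)).injective, hc])
    · rintro _ ⟨e, he, rfl⟩
      exact (mem_normalizer_iff.1 hn ⟨e, hS (hES he)⟩).1 (hES he)
    · rintro _ ⟨e, he, rfl⟩
      show MulAut.conj (n : G) e * MulAut.conj (n : G) e = 1
      rw [← map_mul, hsq e he, map_one]
  have hne : F.A ≠ F.B := fun h => by
    obtain ⟨a, ha, haB⟩ := F.exists_not_mem_B
    exact haB (h ▸ ha)
  have hinj := Subgroup.map_injective (f := (MulAut.conj (n : G)).toMonoidHom) (MulAut.conj (n : G)).injective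
  rcases key F.A F.A_le (fun a ha => F.A_sq ha) F.card_A with hA | hA
  · have hB := (key F.B F.B_le (fun a ha => F.B_sq ha) F.card_B).resolve_left
      fun h => hne (hinj (hA.trans h.symm))
    exact ⟨fun a ha => hA ▸ ⟨a, ha, rfl⟩, fun b hb => hB ▸ ⟨b, hb, rfl⟩⟩
  · exfalso
    have hB := (key F.B F.B_le (fun a ha => F.B_sq ha) F.card_B).resolve_right
      fun h => hne (hinj (hA.trans h.symm))
    have hmul : ∀ (x y : G) (E : Subgroup G), E.map (MulAut.conj (x * y)).toMonoidHom =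
        (E.map (MulAut.conj y).toMonoidHom).map (MulAut.conj x).toMonoidHom := fun x y E => by
      rw [Subgroup.map_map]
      congr 1
      refine MonoidHom.ext fun e => ?_
      simp [mul_assoc]
    have heven : ∀ i : ℕ, F.A.map (MulAut.conj ((n : G) ^ (2 * i))).toMonoidHom = F.A := by
      intro i
      induction i with
      | zero =>
        ext x
        simp
      | succ i ih =>
        rw [show 2 * (i + 1) = 2 * i + 1 + 1 by ring, pow_succ', pow_succ', hmul, hmul, ih, hA, hB]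
    have hodd : F.A.map (MulAut.conj ((n : G) ^ (2 * k + 1))).toMonoidHom = F.B := by
      rw [pow_succ', hmul, heven, hA]
    have hs : (n : G) ^ (2 * k + 1) ∈ normalizer (F.A : Set G) := F.norm_A hk
    refine hne (eq_of_le_of_card_ge ?_ (by rw [F.card_A, F.card_B]))
    intro a ha
    rw [← hodd]
    have h' := inv_mem hs
    refine ⟨((n : G) ^ (2 * k + 1))⁻¹ * a * (n : G) ^ (2 * k + 1), ?_, ?_⟩
    · have := (mem_normalizer_iff.1 h' a).1 ha
      rwa [inv_inv] at this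
    · show (n : G) ^ (2 * k + 1) * (((n : G) ^ (2 * k + 1))⁻¹ * a * (n : G) ^ (2 * k + 1)) * ((n : G) ^ (2 * k + 1))⁻¹ = a
      group

/-- Elements of the Sylow normaliser centralising `z` fix the centre pointwise. -/
theorem fixes [Finite G] {z : G} (hz : z ∈ F.A ⊓ F.B) (hz1 : z ≠ 1)
    (hS : (F.S : Subgroup G) ≤ centralizer ({z} : Set G)) {n : centralizer ({z} : Set G)}
    (hn : n ∈ normalizer ((F.S.subtype hS : Subgroup (centralizer ({z} : Set G))) : Set (centralizer ({z} : Set G))))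
    {w : G} (hw : w ∈ F.A ⊓ F.B) : (n : G) * w * (n : G)⁻¹ = w := by
  haveI : Fact (Nat.Prime 2) := ⟨Nat.prime_two⟩
  obtain ⟨hnA, hnB⟩ := F.normalizes hS hn
  have hnz : (n : G) * z * (n : G)⁻¹ = z := mem_cent_conj.1 n.2
  by_cases hw1 : w = 1
  · rw [hw1]; group
  by_cases hwz : w = z
  · rw [hwz, hnz]
  have hzw : z * w ≠ 1 := fun h => hwz (by
    rw [eq_inv_of_mul_eq_one_right h, inv_eq_of_mul_eq_one_left (F.Z_sq hz)])
  have hcases := eq_third F.card_Z hz hw (v := (n : G) * w * (n : G)⁻¹) ⟨hnA w hw.1, hnB w hw.2⟩ hz1 hw1 hwz hzw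
    (fun h => hw1 (conj_eq_one_iff.1 h))
    (fun h => hwz (mul_left_cancel (mul_right_cancel (h.trans hnz.symm))))
  refine hcases.resolve_right fun h => hzw ?_
  -- an odd power would move `w` as well
  set N := normalizer ((F.S.subtype hS : Subgroup (centralizer ({z} : Set G))) : Set (centralizer ({z} : Set G))) with hN
  obtain ⟨k, hk⟩ : ∃ k, n ^ (2 * k + 1) ∈ (F.S.subtype hS : Subgroup (centralizer ({z} : Set G))) := by
    set P := F.S.subtype hS
    haveI : ((P : Subgroup _).subgroupOf N).Normal :=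
      Subgroup.normal_subgroupOf_iff_le_normalizer le_normalizer |>.2 le_rfl
    have hodd : Odd ((P : Subgroup _).subgroupOf N).index := by
      rw [← Nat.not_even_iff_odd, even_iff_two_dvd]
      exact (P.subtype le_normalizer).not_dvd_index
    obtain ⟨k, hk⟩ := hodd
    refine ⟨k, ?_⟩
    have h := pow_index_mem ((P : Subgroup _).subgroupOf N) (⟨n, hn⟩ : N)
    rw [hk] at h
    exact h
  have h2 : ∀ i : ℕ, (n : G) ^ (2 * i) * w * ((n : G) ^ (2 * i))⁻¹ = w := by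
    intro i
    induction i with
    | zero => simp
    | succ i ih =>
      calc (n : G) ^ (2 * (i + 1)) * w * ((n : G) ^ (2 * (i + 1)))⁻¹
          = (n : G) * ((n : G) * ((n : G) ^ (2 * i) * w * ((n : G) ^ (2 * i))⁻¹) * (n : G)⁻¹) * (n : G)⁻¹ := by
            rw [show 2 * (i + 1) = 2 * i + 1 + 1 by ring, pow_succ', pow_succ']; group
        _ = (n : G) * (z * w) * (n : G)⁻¹ := by rw [ih, h]
        _ = ((n : G) * z * (n : G)⁻¹) * ((n : G) * w * (n : G)⁻¹) := by group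
        _ = z * (z * w) := by rw [hnz, h]
        _ = w := by rw [← mul_assoc, F.Z_sq hz, one_mul]
  have hs : (n : G) ^ (2 * k + 1) * w = w * (n : G) ^ (2 * k + 1) := F.central w hw _ hk
  have h1 : z * w = w := by
    calc z * w = (n : G) * ((n : G) ^ (2 * k) * w * ((n : G) ^ (2 * k))⁻¹) * (n : G)⁻¹ := by rw [h2, h]
      _ = (n : G) ^ (2 * k + 1) * w * ((n : G) ^ (2 * k + 1))⁻¹ := by rw [pow_succ']; group
      _ = w := by rw [hs]; group
  exact absurd (mul_eq_right.1 h1) hz1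

theorem fix_side (n : G) (hn : ∀ w ∈ F.A ⊓ F.B, n * w * n⁻¹ = w)
    (hnB : ∀ b ∈ F.B, n * b * n⁻¹ ∈ F.B) {a : G} (ha : a ∈ F.A) (haB : a ∉ F.B)
    (hfix : a⁻¹ * (n * a * n⁻¹) ∈ F.A ⊓ F.B) :
    ∀ b ∈ F.B, b⁻¹ * (n * b * n⁻¹) ∈ F.A ⊓ F.B := by
  intro b hb
  set w := a⁻¹ * (n * a * n⁻¹) with hw
  set c := n * b * n⁻¹ with hc
  have hcB : c ∈ F.B := hnB b hb
  have h1 : a * b * a⁻¹ * b⁻¹ = a * c * a⁻¹ * c⁻¹ := by
    have h := hn _ (F.commutator_mem ha hb)
    have hwc : c * w = w * c := F.central w hfix c (F.B_le hcB)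
    calc a * b * a⁻¹ * b⁻¹ = n * (a * b * a⁻¹ * b⁻¹) * n⁻¹ := h.symm
      _ = (a * w) * c * (a * w)⁻¹ * c⁻¹ := by rw [hw, hc]; group
      _ = a * (w * c) * w⁻¹ * a⁻¹ * c⁻¹ := by group
      _ = a * c * a⁻¹ * c⁻¹ := by rw [← hwc]; group
  refine ⟨?_, F.B.mul_mem (F.B.inv_mem hb) hcB⟩
  refine F.cent_A a ha haB _ (mul_mem (inv_mem (F.B_le hb)) (F.B_le hcB)) ?_
  have hab : a * (b⁻¹ * c) * a⁻¹ = b⁻¹ * c := by
    have hb2 : b⁻¹ = b := inv_eq_of_mul_eq_one_left (F.B_sq hb)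
    have hk : ∀ x, x ∈ F.B → a * x * a⁻¹ = (a * x * a⁻¹ * x⁻¹) * x := fun x _ => by group
    have hz : (a * b * a⁻¹ * b⁻¹) * (a * b * a⁻¹ * b⁻¹) = 1 := F.A_sq (F.commutator_mem ha hb).1
    have hz' := F.central _ (F.commutator_mem ha hb) b (F.B_le hb)
    rw [hb2, show a * (b * c) * a⁻¹ = (a * b * a⁻¹) * (a * c * a⁻¹) by group, hk b hb, hk c hcB, ← h1]
    calc a * b * a⁻¹ * b⁻¹ * b * (a * b * a⁻¹ * b⁻¹ * c)
        = a * b * a⁻¹ * b⁻¹ * (b * (a * b * a⁻¹ * b⁻¹)) * c := by group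
      _ = a * b * a⁻¹ * b⁻¹ * ((a * b * a⁻¹ * b⁻¹) * b) * c := by rw [hz']
      _ = b * c := by rw [← mul_assoc (a * b * a⁻¹ * b⁻¹), hz, one_mul]
  rw [mul_inv_eq_iff_eq_mul] at hab
  exact hab.symm

/-- The centraliser of an involution of the centre. -/
theorem loc_center [Finite G] : ∀ z ∈ F.A ⊓ F.B, z ≠ 1 →
    Loc (normalizer (F.A : Set G) ⊓ normalizer (F.B : Set G)) z := by
  intro z hz hz1
  classical
  haveI : Fact (Nat.Prime 2) := ⟨Nat.prime_two⟩
  set H := centralizer ({z} : Set G) with hH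
  have hSH : (F.S : Subgroup G) ≤ H := fun s hs => mem_cent.2 (F.central z hz s hs)
  set P : Sylow 2 H := F.S.subtype hSH with hP
  have hPm : ∀ {x : H}, x ∈ (P : Subgroup H) ↔ (x : G) ∈ (F.S : Subgroup G) := Iff.rfl
  have hZle : ∀ {w : G}, w ∈ F.A ⊓ F.B → w ∈ (F.S : Subgroup G) := fun h => F.A_le h.1
  -- every element of the centre is isolated
  have hiso : ∀ w : H, (w : G) ∈ F.A ⊓ F.B → ∀ h : H, h * w * h⁻¹ ∈ (P : Subgroup H) → h * w * h⁻¹ = w := by
    have burn : ∀ w : H, (w : G) ∈ F.A ⊓ F.B → ∀ h : H,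
        ((h * w * h⁻¹ : H) : G) ∈ F.A ⊓ F.B → h * w * h⁻¹ = w := by
      intro w hw h hh
      have hcen : ∀ v : H, (v : G) ∈ F.A ⊓ F.B → v ∈ centralizer ((P : Subgroup H) : Set H) := fun v hv =>
        mem_centralizer_iff.2 fun s hs => Subtype.ext (F.central _ hv s hs)
      obtain ⟨n, hn, he⟩ := P.conj_eq_normalizer_conj_of_mem_centralizer w h⁻¹ (hcen w hw)
        (by rw [inv_inv]; exact hcen _ hh)
      rw [inv_inv] at he
      rw [he]
      have h2 := F.fixes hz hz1 hSH (inv_mem hn) hw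
      refine Subtype.ext ?_
      simpa using h2
    intro w hw h hh
    have hzH : z ∈ H := mem_cent.2 rfl
    set zH : H := ⟨z, hzH⟩
    by_cases hmem : ((h * w * h⁻¹ : H) : G) ∈ F.A ⊓ F.B
    · exact burn w hw h hmem
    · exfalso
      obtain ⟨b, hbS, hb⟩ : ∃ b : H, b ∈ (P : Subgroup H) ∧ b * (h * w * h⁻¹) * b⁻¹ = h * w * h⁻¹ * zH := by
        rcases F.invol ((h * w * h⁻¹ : H) : G) hh (by
          rw [← Subgroup.coe_mul, show h * w * h⁻¹ * (h * w * h⁻¹) = h * (w * w) * h⁻¹ by group,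
            show w * w = 1 from Subtype.ext (F.Z_sq hw)]
          simp) with hm | hm
        · obtain ⟨b, hb, he⟩ := F.exists_conj_coset (z := z) hm (fun hb => hmem ⟨hm, hb⟩) hz
          exact ⟨⟨b, hSH (F.B_le hb)⟩, F.B_le hb, Subtype.ext he⟩
        · obtain ⟨b, hb, he⟩ := F.symm.exists_conj_coset (z := z) hm (fun ha => hmem ⟨ha, hm⟩) ⟨hz.2, hz.1⟩
          exact ⟨⟨b, hSH (F.A_le hb)⟩, F.A_le hb, Subtype.ext he⟩
      have hzc : zH * h⁻¹ = h⁻¹ * zH := Subtype.ext (mem_cent.1 (h⁻¹ : H).2).symm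
      have hwz : (h⁻¹ * b * h) * w * (h⁻¹ * b * h)⁻¹ = w * zH := by
        calc (h⁻¹ * b * h) * w * (h⁻¹ * b * h)⁻¹ = h⁻¹ * (b * (h * w * h⁻¹) * b⁻¹) * h := by group
          _ = w * (h⁻¹ * zH) * h := by rw [hb]; group
          _ = w * zH := by rw [← hzc]; group
      have := burn w hw (h⁻¹ * b * h) (by rw [hwz]; exact mul_mem hw hz)
      rw [hwz, mul_eq_left] at this
      exact hz1 (congrArg Subtype.val this)
  set O := oddCore H with hO
  have hOodd : Odd (Nat.card O) := CfsgLib.Cores.odd_card_oddCore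
  -- the centre is central modulo the core
  have hcent : ∀ w : H, (w : G) ∈ F.A ⊓ F.B → ∀ h : H, w * h * w⁻¹ * h⁻¹ ∈ O := by
    intro w hw h
    by_cases hw1 : w = 1
    · rw [hw1]; simp
    obtain ⟨N, hN, hodd, hc⟩ := Cfsg.Agent.S0215.result P w
      (orderOf_eq_prime (by rw [pow_two]; exact Subtype.ext (F.Z_sq hw)) hw1) (hPm.2 (hZle hw))
      (fun g hg => hiso w hw g hg)
    haveI := hN
    exact CfsgLib.Cores.le_oddCore hodd (hc h)
  set ZH : Subgroup H := (F.A ⊓ F.B).subgroupOf H with hZH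
  set M0 : Subgroup H := O ⊔ ZH with hM0
  haveI hM0n : M0.Normal := ⟨fun x hx g => by
    have hle : M0 ≤ M0.comap (MulAut.conj g).toMonoidHom := sup_le
      (fun o ho => mem_sup_left ((inferInstance : (oddCore H).Normal).conj_mem o ho g))
      (fun w hw => by
        have h1 : (w * g * w⁻¹ * g⁻¹)⁻¹ * w = g * w * g⁻¹ := by group
        show g * w * g⁻¹ ∈ M0
        rw [← h1]
        exact mul_mem (inv_mem (mem_sup_left (hcent w hw g))) (mem_sup_right hw))
    exact hle hx⟩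
  have hM0mem : ∀ {x : H}, x ∈ M0 → ∃ o ∈ O, ∃ w : H, (w : G) ∈ F.A ⊓ F.B ∧ x = o * w := fun hx => by
    obtain ⟨o, ho, w, hw, e⟩ := mem_sup_of_normal_left.1 hx
    exact ⟨o, ho, w, hw, e.symm⟩
  have hPO : ∀ {x : H}, x ∈ (P : Subgroup H) → x ∈ O → x = 1 := fun hxP hxO => by
    obtain ⟨j, hj⟩ := P.2 ⟨_, hxP⟩
    have h2 : orderOf (_ : H) ∣ 2 ^ j := orderOf_dvd_of_pow_eq_one (congrArg Subtype.val hj)
    exact orderOf_eq_one_iff.1 (Nat.eq_one_of_dvd_coprimes
      ((Nat.coprime_two_left.2 (odd_orderOf_of_mem hOodd hxO)).pow_left j) h2 dvd_rfl)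
  have hPM0 : ∀ {x : H}, x ∈ (P : Subgroup H) → x ∈ M0 → (x : G) ∈ F.A ⊓ F.B := fun {x} hxP hx => by
    obtain ⟨o, ho, w, hw, rfl⟩ := hM0mem hx
    have : o ∈ (P : Subgroup H) := ((P : Subgroup H).mul_mem_cancel_right (hPm.2 (hZle hw))).1 hxP
    rw [hPO this ho, one_mul]
    exact hw
  set f : H →* H ⧸ M0 := QuotientGroup.mk' M0 with hf
  have hfs : Function.Surjective f := QuotientGroup.mk'_surjective M0
  have hfeq : ∀ {x y : H}, f x = f y → x⁻¹ * y ∈ M0 := fun h => QuotientGroup.eq.1 h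
  let S' : Sylow 2 (H ⧸ M0) := P.mapSurjective hfs
  have hS'mem : ∀ y, y ∈ (S' : Subgroup (H ⧸ M0)) ↔ ∃ s ∈ (P : Subgroup H), f s = y := fun y => Iff.rfl
  -- decomposition of the normaliser of the image
  have hfrat : ∀ h : H, f h ∈ normalizer ((S' : Subgroup (H ⧸ M0)) : Set (H ⧸ M0)) →
      ∃ o ∈ O, ∃ n ∈ normalizer ((P : Subgroup H) : Set H), h = o * n := by
    intro h hh
    set OS : Subgroup H := O ⊔ (P : Subgroup H) with hOS
    have hZOS : M0 ≤ OS := sup_le le_sup_left fun w hw => mem_sup_right (hPm.2 (hZle hw))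
    have hhP : ((h • P : Sylow 2 H) : Subgroup H) ≤ OS := by
      rintro _ ⟨s, hs, rfl⟩
      show h * s * h⁻¹ ∈ OS
      obtain ⟨s', hs', he⟩ := (hS'mem _).1 ((mem_normalizer_iff.1 hh (f s)).1 ((hS'mem _).2 ⟨s, hs, rfl⟩))
      rw [← map_inv, ← map_mul, ← map_mul] at he
      have := mul_mem (mem_sup_right hs' : s' ∈ OS) (hZOS (hfeq he))
      rwa [mul_inv_cancel_left] at this
    obtain ⟨⟨y, hy⟩, he⟩ := MulAction.exists_smul_eq OS ((h • P).subtype hhP) (P.subtype le_sup_right)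
    rw [Sylow.smul_subtype] at he
    have he' : y • (h • P) = P := Sylow.subtype_injective he
    obtain ⟨o, ho, s, hs, rfl⟩ := mem_sup_of_normal_left.1 hy
    rw [smul_smul, Sylow.smul_eq_iff_mem_normalizer] at he'
    have h1 : s⁻¹ * o * s ∈ O := by simpa using (inferInstance : (oddCore H).Normal).conj_mem o ho s⁻¹
    refine ⟨(s⁻¹ * o * s)⁻¹, inv_mem h1, s⁻¹ * (o * s * h), mul_mem (le_normalizer (inv_mem hs)) he', ?_⟩
    group
  have hlift : ∀ y ∈ normalizer ((S' : Subgroup (H ⧸ M0)) : Set (H ⧸ M0)),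
      ∃ n ∈ normalizer ((P : Subgroup H) : Set H), f n = y := by
    intro y hy
    obtain ⟨h, rfl⟩ := hfs y
    obtain ⟨o, ho, n, hn, rfl⟩ := hfrat h hy
    exact ⟨n, hn, by
      rw [map_mul, show f o = 1 from (QuotientGroup.eq_one_iff _).2 (mem_sup_left ho), one_mul]⟩
  have hS'el : IsElementaryAbelian 2 (S' : Subgroup (H ⧸ M0)) := by
    have hexp : ∀ y ∈ (S' : Subgroup (H ⧸ M0)), y * y = 1 := by
      intro y hy
      obtain ⟨s, hs, rfl⟩ := (hS'mem y).1 hy
      rw [← map_mul]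
      refine (QuotientGroup.eq_one_iff _).2 (mem_sup_right ?_)
      show (s : G) * s ∈ F.A ⊓ F.B
      have hsS : (s : G) ∈ F.A ⊔ F.B := F.sup_eq.symm ▸ hPm.1 hs
      rw [← SetLike.mem_coe, coe_mul_of_left_le_normalizer_right F.A F.B (F.A_le.trans F.norm_B),
        Set.mem_mul] at hsS
      obtain ⟨a, ha, b, hb, e⟩ := hsS
      rw [← e]
      have h := F.commutator_mem ha hb
      have h' := F.central _ h (a * b) (mul_mem (F.A_le ha) (F.B_le hb))
      have : a * b * (a * b) = a * b * a⁻¹ * b⁻¹ := by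
        rw [inv_eq_of_mul_eq_one_left (F.A_sq ha), inv_eq_of_mul_eq_one_left (F.B_sq hb)]
        group
      rwa [this]
    refine ⟨⟨⟨fun a b => Subtype.ext ?_⟩⟩, fun x hx => by rw [pow_two]; exact hexp x hx⟩
    have ha := hexp _ a.2
    have hb := hexp _ b.2
    have hab := eq_inv_of_mul_eq_one_left (hexp _ (a * b).2)
    rw [Subgroup.coe_mul, mul_inv_rev, inv_eq_of_mul_eq_one_left ha, inv_eq_of_mul_eq_one_left hb] at hab
    rw [Subgroup.coe_mul, Subgroup.coe_mul]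
    exact hab
  have hS'c : 8 ≤ Nat.card (S' : Subgroup (H ⧸ M0)) := by
    have h1 : Nat.card (P : Subgroup H) = 64 := by
      show Nat.card ((F.S : Subgroup G).subgroupOf H) = 64
      rw [Nat.card_congr (subgroupOfEquivOfLe hSH).toEquiv, F.card_S]
    set g := (f.comp (P : Subgroup H).subtype)
    have h2 : Nat.card g.ker ≤ 4 := by
      rw [← F.card_Z]
      refine Nat.card_le_card_of_injective (fun x => (⟨((x : (P : Subgroup H)) : G),
        hPM0 (x : (P : Subgroup H)).2 ((QuotientGroup.eq_one_iff _).1 x.2)⟩ : ↥(F.A ⊓ F.B))) ?_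
      intro x y e
      exact Subtype.ext (Subtype.ext (Subtype.ext (congrArg Subtype.val e :)))
    have h3 := g.ker.card_mul_index
    rw [index_ker, h1] at h3
    have h4 : g.range = (S' : Subgroup (H ⧸ M0)) := by
      rw [MonoidHom.range_comp, Subgroup.range_subtype]; rfl
    rw [h4] at h3
    nlinarith
  -- components
  have hdec : ∀ s ∈ (P : Subgroup H), ∃ a b : H, (a : G) ∈ F.A ∧ (b : G) ∈ F.B ∧ s = a * b := by
    intro s hs
    have hsS : (s : G) ∈ F.A ⊔ F.B := F.sup_eq.symm ▸ hPm.1 hs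
    rw [← SetLike.mem_coe, coe_mul_of_left_le_normalizer_right F.A F.B (F.A_le.trans F.norm_B),
      Set.mem_mul] at hsS
    obtain ⟨a, ha, b, hb, e⟩ := hsS
    exact ⟨⟨a, hSH (F.A_le ha)⟩, ⟨b, hSH (F.symm.A_le hb)⟩, ha, hb, Subtype.ext e.symm⟩
  have hautom : ∀ s ∈ (P : Subgroup H), f s ≠ 1 → ∀ n ∈ normalizer ((P : Subgroup H) : Set H),
      f n * f s = f s * f n → f n ∈ centralizer ((S' : Subgroup (H ⧸ M0)) : Set (H ⧸ M0)) := by
    intro s hs hs1 n hn hcm
    obtain ⟨hnA, hnB⟩ := F.normalizes hSH hn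
    have hfix : ∀ w ∈ F.A ⊓ F.B, (n : G) * w * (n : G)⁻¹ = w := fun w hw => F.fixes hz hz1 hSH hn hw
    obtain ⟨a, b, ha, hb, rfl⟩ := hdec s hs
    have hmem : ((a * b)⁻¹ * (n * (a * b) * n⁻¹) : H) ∈ M0 := by
      refine hfeq ?_
      rw [map_mul f (n * (a * b)), map_mul f n, hcm, map_inv, mul_inv_cancel_right]
    have hw : (((a * b)⁻¹ * (n * (a * b) * n⁻¹) : H) : G) ∈ F.A ⊓ F.B :=
      hPM0 (mul_mem (inv_mem hs) ((mem_normalizer_iff.1 hn _).1 hs)) hmem
    set α := (a : G)⁻¹ * ((n : G) * a * (n : G)⁻¹) with hα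
    set β := (n : G) * b * (n : G)⁻¹ with hβ
    have hαA : α ∈ F.A := F.A.mul_mem (F.A.inv_mem ha) (hnA _ ha)
    have hβB : β ∈ F.B := hnB _ hb
    have hw' : (b : G)⁻¹ * α * β ∈ F.A ⊓ F.B := by
      rw [hα, hβ]
      convert hw using 1
      simp only [Subgroup.coe_mul, InvMemClass.coe_inv]
      group
    have hαZ : α ∈ F.A ⊓ F.B := by
      refine ⟨hαA, ?_⟩
      rw [show α = (b : G) * ((b : G)⁻¹ * α * β) * β⁻¹ by group]
      exact F.B.mul_mem (F.B.mul_mem hb hw'.2) (F.B.inv_mem hβB)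
    have hbeta : (b : G)⁻¹ * β ∈ F.A ⊓ F.B := by
      have h := mul_mem hw' (inv_mem hαZ)
      convert h using 1
      have hc := F.central _ hαZ ((b : G)⁻¹) (inv_mem (F.B_le hb))
      have hc2 := F.central α⁻¹ (inv_mem hαZ) β (F.B_le hβB)
      calc (b : G)⁻¹ * β = (b : G)⁻¹ * α * (α⁻¹ * β) := by group
        _ = (b : G)⁻¹ * α * β * α⁻¹ := by rw [← hc2]; group
    have hboth : (∀ x ∈ F.A, x⁻¹ * ((n : G) * x * (n : G)⁻¹) ∈ F.A ⊓ F.B) ∧
        (∀ x ∈ F.B, x⁻¹ * ((n : G) * x * (n : G)⁻¹) ∈ F.A ⊓ F.B) := by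
      have hfs' : ∀ w ∈ F.symm.A ⊓ F.symm.B, (n : G) * w * (n : G)⁻¹ = w := fun w hw => hfix w ⟨hw.2, hw.1⟩
      by_cases haB : (a : G) ∈ F.B
      · have hbA : (b : G) ∉ F.A := fun hbA => hs1 ((QuotientGroup.eq_one_iff _).2
          (mem_sup_right (show ((a * b : H) : G) ∈ F.A ⊓ F.B from mul_mem ⟨ha, haB⟩ ⟨hbA, hb⟩)))
        have hA' : ∀ x ∈ F.A, x⁻¹ * ((n : G) * x * (n : G)⁻¹) ∈ F.A ⊓ F.B := fun x hx =>
          and_comm.1 (F.symm.fix_side (n : G) hfs' hnA hb hbA ⟨hbeta.2, hbeta.1⟩ x hx)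
        obtain ⟨a', ha', haB'⟩ := F.exists_not_mem_B
        exact ⟨hA', F.fix_side (n : G) hfix hnB ha' haB' (hA' a' ha')⟩
      · have hB' := F.fix_side (n : G) hfix hnB ha haB hαZ
        obtain ⟨b', hb', hbA'⟩ := F.symm.exists_not_mem_B
        exact ⟨fun x hx => and_comm.1 (F.symm.fix_side (n : G) hfs' hnA hb' hbA'
          ⟨(hB' b' hb').2, (hB' b' hb').1⟩ x hx), hB'⟩
    refine mem_centralizer_iff.2 fun y hy => ?_
    obtain ⟨t, ht, rfl⟩ := (hS'mem y).1 hy
    obtain ⟨a', b', ha', hb', rfl⟩ := hdec t ht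
    have hcomm : ∀ x : H, (x : G) ∈ F.A ∨ (x : G) ∈ F.B → Commute (f x) (f n) := by
      intro x hx
      have h : (x⁻¹ * (n * x * n⁻¹) : H) ∈ M0 := mem_sup_right (by
        show ((x⁻¹ * (n * x * n⁻¹) : H) : G) ∈ F.A ⊓ F.B
        rcases hx with hx | hx
        · exact hboth.1 _ hx
        · exact hboth.2 _ hx)
      have h' : f x = f (n * x * n⁻¹) := QuotientGroup.eq.2 h
      rw [map_mul, map_mul, map_inv] at h'
      show f x * f n = f n * f x
      conv_lhs => rw [h', inv_mul_cancel_right]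
    rw [map_mul]
    exact ((hcomm a' (Or.inl ha')).mul_left (hcomm b' (Or.inr hb'))).eq
  have hburn : ∀ Y : Subgroup (H ⧸ M0), ∀ hY : (S' : Subgroup (H ⧸ M0)) ≤ Y,
      (∀ h ∈ Y, h ∈ normalizer ((S' : Subgroup (H ⧸ M0)) : Set (H ⧸ M0)) →
        h ∈ centralizer ((S' : Subgroup (H ⧸ M0)) : Set (H ⧸ M0))) →
      ∀ y ∈ Y, ∃ o ∈ (oddCore Y).map Y.subtype, ∃ r ∈ (S' : Subgroup (H ⧸ M0)), y = o * r := by
    intro Y hY hN y hy
    let T : Sylow 2 Y := S'.subtype hY
    have hTn : normalizer ((T : Subgroup Y) : Set Y) ≤ centralizer ((T : Subgroup Y) : Set Y) := by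
      intro h hh
      have hh' : (h : H ⧸ M0) ∈ normalizer ((S' : Subgroup (H ⧸ M0)) : Set (H ⧸ M0)) :=
        CfsgLib.CoprimeAction.mem_normalizer_of_conj_mem fun s hs =>
          (mem_normalizer_iff.1 hh ⟨s, hY hs⟩).1 hs
      refine mem_centralizer_iff.2 fun p hp => Subtype.ext ?_
      exact mem_centralizer_iff.1 (hN h h.2 hh') p hp
    have hsup := CfsgLib.NormalPComplement.pPrimeCore_sup_sylow
      (CfsgLib.Transfer.hasNormalPComplement_of_le_centralizer T hTn) T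
    have hmem : (⟨y, hy⟩ : Y) ∈ pPrimeCore 2 Y ⊔ (T : Subgroup Y) := hsup ▸ mem_top _
    obtain ⟨o, ho, r, hr, hor⟩ := mem_sup_of_normal_left.1 hmem
    exact ⟨o, ⟨o, ho, rfl⟩, r, hr, congrArg Subtype.val hor.symm⟩
  set Cn : Subgroup (H ⧸ M0) := centralizer ((S' : Subgroup (H ⧸ M0)) : Set (H ⧸ M0)) with hCn
  have hSab : ∀ a ∈ (S' : Subgroup (H ⧸ M0)), ∀ b ∈ (S' : Subgroup (H ⧸ M0)), a * b = b * a :=
    fun a ha b hb => congrArg Subtype.val (hS'el.1.is_comm.comm (⟨a, ha⟩ : (S' : Subgroup (H ⧸ M0))) ⟨b, hb⟩)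
  have hSCn : (S' : Subgroup (H ⧸ M0)) ≤ Cn := fun s hs => mem_centralizer_iff.2 fun t ht => hSab t ht s hs
  set D0 : Subgroup (H ⧸ M0) := (oddCore Cn).map Cn.subtype with hD0
  have hloc : ∀ x ∈ (S' : Subgroup (H ⧸ M0)), x ≠ 1 → ∀ g ∈ centralizer ({x} : Set (H ⧸ M0)),
      ∃ o ∈ Oc x, ∃ n ∈ normalizer ((S' : Subgroup (H ⧸ M0)) : Set (H ⧸ M0)), g = o * n := by
    intro x hx hx1 g hg
    obtain ⟨o, ho, r, hr, rfl⟩ := hburn (centralizer ({x} : Set (H ⧸ M0)))
      (fun s hs => mem_cent.2 (hSab s hs x hx))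
      (fun h hY hN => by
        obtain ⟨n, hn, rfl⟩ := hlift h hN
        obtain ⟨s, hs, rfl⟩ := (hS'mem x).1 hx
        exact hautom s hs hx1 n hn (mem_cent.1 hY)) g hg
    exact ⟨o, ho, r, le_normalizer hr, rfl⟩
  have hcl : ∃ s t : H ⧸ M0, orderOf s = 2 ∧ orderOf t = 2 ∧ ¬ IsConj s t := by
    obtain ⟨a, ha, haB⟩ := F.exists_not_mem_B
    obtain ⟨b, hb, hbA⟩ := F.symm.exists_not_mem_B
    have hord : ∀ x : H, (x : G) ∈ (F.S : Subgroup G) → (x : G) * x = 1 → (x : G) ∉ F.A ⊓ F.B →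
        orderOf (f x) = 2 := fun x hxS hxx hx =>
      orderOf_eq_prime (by rw [pow_two, ← map_mul, show x * x = 1 from Subtype.ext hxx, map_one])
        (fun h => hx (hPM0 (hPm.2 hxS) ((QuotientGroup.eq_one_iff _).1 h)))
    refine ⟨f ⟨a, hSH (F.A_le ha)⟩, f ⟨b, hSH (F.symm.A_le hb)⟩, hord _ (F.A_le ha) (F.A_sq ha) (fun h => haB h.2),
      hord _ (F.symm.A_le hb) (F.symm.A_sq hb) (fun h => hbA h.1), ?_⟩
    intro hcj
    obtain ⟨c, hc⟩ := isConj_iff.1 hcj
    haveI : IsMulCommutative (S' : Subgroup (H ⧸ M0)) := hS'el.1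
    have haS : f ⟨a, hSH (F.A_le ha)⟩ ∈ (S' : Subgroup (H ⧸ M0)) := (hS'mem _).2 ⟨_, hPm.2 (F.A_le ha), rfl⟩
    have hbS : f ⟨b, hSH (F.symm.A_le hb)⟩ ∈ (S' : Subgroup (H ⧸ M0)) := (hS'mem _).2 ⟨_, hPm.2 (F.symm.A_le hb), rfl⟩
    obtain ⟨m, hm, hme⟩ := S'.conj_eq_normalizer_conj_of_mem (f ⟨a, hSH (F.A_le ha)⟩) c⁻¹ haS
      (by rw [inv_inv, hc]; exact hbS)
    rw [inv_inv, hc] at hme
    obtain ⟨n, hn, hnm⟩ := hlift _ (inv_mem hm)
    rw [show m = (f n)⁻¹ by rw [hnm, inv_inv], inv_inv, ← map_inv, ← map_mul, ← map_mul] at hme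
    obtain ⟨hnA, -⟩ := F.normalizes hSH hn
    have h1 := hPM0 (mul_mem (inv_mem (hPm.2 (F.symm.A_le hb) : (⟨b, hSH (F.symm.A_le hb)⟩ : H) ∈ (P : Subgroup H)))
      ((mem_normalizer_iff.1 hn _).1 (hPm.2 (F.A_le ha)))) (hfeq hme)
    have h2 : b⁻¹ ∈ F.A := ((F.A).mul_mem_cancel_right (hnA a ha)).1 h1.1
    exact hbA (show b ∈ F.A by simpa using F.A.inv_mem h2)
  have hX := exists_oddCore_mul_normalizer S' hS'el hS'c ⟨le_rfl, fun _ _ _ h => h⟩ D0
    (by rw [hD0, card_map_of_injective Cn.subtype_injective]; exact CfsgLib.Cores.odd_card_oddCore)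
    (le_trans (fun n hn => by
      refine CfsgLib.CoprimeAction.mem_normalizer_of_conj_mem fun x hx => ?_
      refine mem_centralizer_iff.2 fun s hs => ?_
      have h1 := mem_centralizer_iff.1 hx (n⁻¹ * s * n) (by
        have := (mem_normalizer_iff.1 (inv_mem hn) s).1 hs
        rwa [inv_inv] at this)
      calc s * (n * x * n⁻¹) = n * ((n⁻¹ * s * n) * x) * n⁻¹ := by group
        _ = n * (x * (n⁻¹ * s * n)) * n⁻¹ := by rw [h1]
        _ = _ := by group)
      (CfsgLib.Cores.normalizer_le_normalizer_map_subtype Cn (oddCore Cn)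
        (hC := CfsgLib.Cores.pPrimeCore_characteristic 2 Cn)))
    (map_subtype_le _)
    (fun x hx => by
      obtain ⟨o, ho, r, hr, rfl⟩ := hburn Cn hSCn (fun h hh _ => hh) x hx
      exact ⟨r, hr, o, ho, (mem_centralizer_iff.1 (map_subtype_le _ ho) r hr).symm⟩)
    hloc (fun t ht ht' => absurd ht ht') hcl
  -- the quotient has no odd core
  have hcore : ∀ h : H, f h ∈ oddCore (H ⧸ M0) → h ∈ M0 := by
    intro h hh
    set L : Subgroup H := (oddCore (H ⧸ M0)).comap f with hL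
    have hLP : ∀ x : H, x ∈ L → x ∈ (P : Subgroup H) → (x : G) ∈ F.A ⊓ F.B := by
      intro x hxL hxP
      refine hPM0 hxP ((QuotientGroup.eq_one_iff _).1 ?_)
      refine eq_one_of_mem_odd CfsgLib.Cores.odd_card_oddCore ?_ hxL
      rw [← pow_two]
      exact hS'el.2 _ ((hS'mem _).2 ⟨x, hxP, rfl⟩)
    have hZL : ZH ≤ L := fun w hw => by
      show f w ∈ oddCore (H ⧸ M0)
      rw [show f w = 1 from (QuotientGroup.eq_one_iff _).2 (mem_sup_right hw)]
      exact one_mem _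
    obtain ⟨Q, hQ⟩ := ((P.2.to_le (inf_le_left : (P : Subgroup H) ⊓ L ≤ P)).comap_of_injective L.subtype
      L.subtype_injective).exists_le_sylow
    have hQeq : (Q : Subgroup L) = ((P : Subgroup H) ⊓ L).subgroupOf L := by
      obtain ⟨R, hR⟩ := CfsgLib.Alperin.exists_sylow_inf_normal P L
      have hR' : (R : Subgroup L) = ((P : Subgroup H) ⊓ L).subgroupOf L := hR
      exact (R.3 Q.2 (hR'.le.trans hQ)).trans hR'
    have hQn : normalizer ((Q : Subgroup L) : Set L) ≤ centralizer ((Q : Subgroup L) : Set L) := by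
      intro l hl
      refine mem_centralizer_iff.2 fun w hw => ?_
      have hl' := (mem_normalizer_iff.1 hl w).1 hw
      rw [SetLike.mem_coe, hQeq] at hw
      rw [hQeq] at hl'
      have hwZ := hLP (w : H) w.2 hw.1
      have h1 : ((l * w * l⁻¹ : L) : H) ∈ (P : Subgroup H) := hl'.1
      have h2 := hiso (w : H) hwZ (l : H) h1
      refine Subtype.ext ?_
      show (w : H) * l = l * w
      exact (mul_inv_eq_iff_eq_mul.1 h2).symm
    have hsup := CfsgLib.NormalPComplement.pPrimeCore_sup_sylow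
      (CfsgLib.Transfer.hasNormalPComplement_of_le_centralizer Q hQn) Q
    have hmem : (⟨h, hh⟩ : L) ∈ pPrimeCore 2 L ⊔ (Q : Subgroup L) := hsup ▸ mem_top _
    obtain ⟨o, ho, r, hr, hor⟩ := mem_sup_of_normal_left.1 hmem
    have hoO : (o : H) ∈ O := by
      have hn : (pPrimeCore 2 L).map L.subtype ≤ O := by
        haveI : L.Normal := inferInstance
        haveI : ((pPrimeCore 2 L).map L.subtype).Normal :=
          normalizer_eq_top_iff.1 (top_le_iff.1 (le_trans (normalizer_eq_top_iff.2 (inferInstance : L.Normal)).ge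
            (CfsgLib.Cores.normalizer_le_normalizer_map_subtype L (pPrimeCore 2 L)
              (hC := CfsgLib.Cores.pPrimeCore_characteristic 2 L))))
        refine CfsgLib.Cores.le_oddCore ?_
        rw [card_map_of_injective L.subtype_injective]
        exact CfsgLib.Cores.odd_card_oddCore
      exact hn ⟨o, ho, rfl⟩
    rw [hQeq] at hr
    have e : (o : H) * r = h := congrArg Subtype.val hor
    rw [← e]
    exact mul_mem (mem_sup_left hoO) (mem_sup_right (hLP r r.2 hr.1))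
  intro g hg
  obtain ⟨w, hw, m, hm, he⟩ := hX (f ⟨g, hg⟩)
  obtain ⟨v, rfl⟩ := hfs w
  rw [show f v = 1 from (QuotientGroup.eq_one_iff _).2 (hcore v hw), one_mul] at he
  obtain ⟨o, ho, n, hn, e⟩ := hfrat ⟨g, hg⟩ (he ▸ hm)
  obtain ⟨hnA, hnB⟩ := F.normalizes hSH hn
  exact ⟨(o : G), ⟨o, ho, rfl⟩, (n : G),
    ⟨CfsgLib.CoprimeAction.mem_normalizer_of_conj_mem hnA,
      CfsgLib.CoprimeAction.mem_normalizer_of_conj_mem hnB⟩, congrArg Subtype.val e⟩

end Frame

end CfsgLib.LinearThreeFourType
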