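/-
The setting of groups whose Sylow 2-subgroups have the type of those of `PSL₃(4)`: a Sylow subgroup
`S = A B` of order 64 with `A`, `B` elementary abelian of order 16 meeting in the centre.
-/
import Cfsg.Agent.Lib.AEightThreeClasses.Closed
import Mathlib.GroupTheory.Sylow

set_option autoImplicit false

namespace CfsgLib.LinearThreeFourType

open Subgroup Cfsg CfsgLib.AEightThreeClasses

universe u

variable {G : Type u} [Group G]

/-- The centraliser of `x` is generated by its odd core and its part in `N`. -/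
def Loc (N : Subgroup G) (x : G) : Prop :=
  ∀ g ∈ centralizer ({x} : Set G), ∃ o ∈ Oc x, ∃ n ∈ N, g = o * n

/-- A Sylow 2-subgroup of the type of those of `PSL₃(4)` with its two large elementary abelian
subgroups. -/
structure Frame (G : Type u) [Group G] where
  /-- the Sylow subgroup -/
  S : Sylow 2 G
  /-- the first elementary abelian subgroup of order 16 -/
  A : Subgroup G
  /-- the second one -/
  B : Subgroup G
  hA : IsElementaryAbelian 2 A
  hB : IsElementaryAbelian 2 B
  card_A : Nat.card ↥A = 16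
  card_B : Nat.card ↥B = 16
  card_Z : Nat.card ↥(A ⊓ B) = 4
  card_S : Nat.card ↥(S : Subgroup G) = 64
  sup_eq : A ⊔ B = (S : Subgroup G)
  norm_A : (S : Subgroup G) ≤ normalizer (A : Set G)
  norm_B : (S : Subgroup G) ≤ normalizer (B : Set G)
  invol : ∀ x ∈ (S : Subgroup G), x * x = 1 → x ∈ A ∨ x ∈ B
  cent_A : ∀ a ∈ A, a ∉ B → ∀ s ∈ (S : Subgroup G), s * a = a * s → s ∈ A
  cent_B : ∀ b ∈ B, b ∉ A → ∀ s ∈ (S : Subgroup G), s * b = b * s → s ∈ B
  central : ∀ z ∈ A ⊓ B, ∀ s ∈ (S : Subgroup G), s * z = z * s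

namespace Frame

/-- The centre of the Sylow subgroup. -/
def Z (F : Frame G) : Subgroup G := F.A ⊓ F.B

/-- The frame with the two subgroups exchanged. -/
def symm (F : Frame G) : Frame G where
  S := F.S
  A := F.B
  B := F.A
  hA := F.hB
  hB := F.hA
  card_A := F.card_B
  card_B := F.card_A
  card_Z := by rw [inf_comm]; exact F.card_Z
  card_S := F.card_S
  sup_eq := by rw [sup_comm]; exact F.sup_eq
  norm_A := F.norm_B
  norm_B := F.norm_A
  invol := fun x hx h => (F.invol x hx h).symm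
  cent_A := F.cent_B
  cent_B := F.cent_A
  central := fun z hz => F.central z ⟨hz.2, hz.1⟩

/-- The normaliser of `A` fixes the centre of the Sylow subgroup. -/
def Small (F : Frame G) : Prop :=
  normalizer (F.A : Set G) ≤ normalizer ((F.A ⊓ F.B : Subgroup G) : Set G)

theorem A_le (F : Frame G) : F.A ≤ (F.S : Subgroup G) := F.sup_eq ▸ le_sup_left

theorem B_le (F : Frame G) : F.B ≤ (F.S : Subgroup G) := F.sup_eq ▸ le_sup_right

theorem A_comm (F : Frame G) {a a' : G} (ha : a ∈ F.A) (ha' : a' ∈ F.A) : a * a' = a' * a :=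
  congrArg Subtype.val (F.hA.1.is_comm.comm (⟨a, ha⟩ : F.A) ⟨a', ha'⟩)

theorem B_comm (F : Frame G) {b b' : G} (hb : b ∈ F.B) (hb' : b' ∈ F.B) : b * b' = b' * b :=
  congrArg Subtype.val (F.hB.1.is_comm.comm (⟨b, hb⟩ : F.B) ⟨b', hb'⟩)

theorem A_sq (F : Frame G) {a : G} (ha : a ∈ F.A) : a * a = 1 := by
  rw [← pow_two]; exact F.hA.2 a ha

theorem B_sq (F : Frame G) {b : G} (hb : b ∈ F.B) : b * b = 1 := by
  rw [← pow_two]; exact F.hB.2 b hb

/-- An elementary abelian subgroup of order 16 of the Sylow subgroup is one of the two. -/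
theorem elem [Finite G] (F : Frame G) {E : Subgroup G} (hE : E ≤ (F.S : Subgroup G))
    (hE2 : ∀ e ∈ E, e * e = 1) (hc : Nat.card ↥E = 16) : E = F.A ∨ E = F.B := by
  have hsub : E ≤ F.A ∨ E ≤ F.B := by
    by_contra! h
    obtain ⟨x, hx, hxA⟩ := SetLike.not_le_iff_exists.1 h.1
    obtain ⟨y, hy, hyB⟩ := SetLike.not_le_iff_exists.1 h.2
    have hxB := (F.invol x (hE hx) (hE2 x hx)).resolve_left hxA
    have hyA := (F.invol y (hE hy) (hE2 y hy)).resolve_right hyB
    rcases F.invol _ (hE (mul_mem hx hy)) (hE2 _ (mul_mem hx hy)) with h' | h'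
    · exact hxA ((F.A.mul_mem_cancel_right hyA).1 h')
    · exact hyB ((F.B.mul_mem_cancel_left hxB).1 h')
  rcases hsub with h | h
  · exact Or.inl (eq_of_le_of_card_ge h (by rw [hc, F.card_A]))
  · exact Or.inr (eq_of_le_of_card_ge h (by rw [hc, F.card_B]))

/-- An element of `A` outside `B` and an element of `B` outside `A` do not commute. -/
theorem not_commute (F : Frame G) {a b : G} (ha : a ∈ F.A) (haB : a ∉ F.B) (hb : b ∈ F.B)
    (hbA : b ∉ F.A) : b * a ≠ a * b := fun h => hbA (F.cent_A a ha haB b (F.B_le hb) h)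

/-- The commutators of `A` and `B` lie in the centre. -/
theorem commutator_mem (F : Frame G) {a b : G} (ha : a ∈ F.A) (hb : b ∈ F.B) :
    a * b * a⁻¹ * b⁻¹ ∈ F.A ⊓ F.B := by
  refine ⟨?_, F.B.mul_mem ((mem_normalizer_iff.1 (F.norm_B (F.A_le ha)) b).1 hb) (F.B.inv_mem hb)⟩
  rw [show a * b * a⁻¹ * b⁻¹ = a * (b * a⁻¹ * b⁻¹) by group]
  exact F.A.mul_mem ha ((mem_normalizer_iff.1 (F.norm_A (F.B_le hb)) _).1 (F.A.inv_mem ha))

end Frame

end CfsgLib.LinearThreeFourType
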