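/-
The odd cores of the centralisers of the involutions of a frame form one odd subgroup `W`, and the
normaliser of `W` contains all involution centralisers.
-/
import Cfsg.Agent.Lib.LinearThreeFourType.Setting
import Cfsg.Agent.Lib.Involutions.StronglyEmbedded
import Cfsg.Agent.Lib.CoprimeAction.Abelian
import Cfsg.Agent.S0205
import Cfsg.Agent.S0217

set_option autoImplicit false

namespace CfsgLib.LinearThreeFourType

open Subgroup Cfsg CfsgLib.AEightThreeClasses

universe u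

namespace Frame

variable {G : Type u} [Group G] (F : Frame G)

theorem coresSqInv {a : G} (ha : a ∈ F.A) : a⁻¹ = a := inv_eq_of_mul_eq_one_left (F.A_sq ha)

theorem exists_A_notB [Finite G] : ∃ a ∈ F.A, a ∉ F.B := by
  by_contra! h
  have h1 : F.A ⊓ F.B = F.A := inf_eq_left.2 h
  have := F.card_Z
  rw [h1, F.card_A] at this
  omega

theorem exists_Z_nontriv [Finite G] : ∃ z ∈ F.A ⊓ F.B, z ≠ 1 := by
  refine (bot_or_exists_ne_one (F.A ⊓ F.B)).resolve_left fun e => ?_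
  have := F.card_Z
  rw [e, card_bot] at this
  omega

/-- The centraliser of `A` meets every Sylow subgroup in at most sixteen elements. -/
theorem card_le_of_le_centralizer [Finite G] {P : Subgroup G} (hP : IsPGroup 2 P)
    (hAP : F.A ≤ P) (hPC : P ≤ centralizer (F.A : Set G)) : Nat.card P ≤ 16 := by
  obtain ⟨R, hR⟩ := hP.exists_le_sylow
  obtain ⟨g, hg⟩ := MulAction.exists_smul_eq G R F.S
  have hin : ∀ p ∈ P, g * p * g⁻¹ ∈ (F.S : Subgroup G) := fun p hp => by
    rw [← hg, Sylow.coe_subgroup_smul]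
    exact ⟨p, hR hp, rfl⟩
  have hcard : ∀ K : Subgroup G, Nat.card (K.map (MulAut.conj g).toMonoidHom) = Nat.card K :=
    fun K => card_map_of_injective (MulAut.conj g).injective
  have hle : F.A.map (MulAut.conj g).toMonoidHom ≤ (F.S : Subgroup G) := by
    rintro _ ⟨a, ha, rfl⟩; exact hin a (hAP ha)
  have hsq : ∀ e ∈ F.A.map (MulAut.conj g).toMonoidHom, e * e = 1 := by
    rintro _ ⟨a, ha, rfl⟩
    rw [← _root_.map_mul, F.A_sq ha, _root_.map_one]
  have hcomm : ∀ p ∈ P, ∀ e ∈ F.A.map (MulAut.conj g).toMonoidHom,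
      g * p * g⁻¹ * e = e * (g * p * g⁻¹) := by
    rintro p hp _ ⟨a, ha, rfl⟩
    change (MulAut.conj g) p * (MulAut.conj g) a = (MulAut.conj g) a * (MulAut.conj g) p
    rw [← _root_.map_mul, ← _root_.map_mul, (mem_centralizer_iff.1 (hPC hp) a ha).symm]
  have key : ∀ F' : Frame G, F.A.map (MulAut.conj g).toMonoidHom = F'.A → F'.S = F.S →
      Nat.card P ≤ 16 := by
    intro F' he hS
    obtain ⟨a, ha, haB⟩ := F'.exists_A_notB
    have h : P.map (MulAut.conj g).toMonoidHom ≤ F'.A := by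
      rintro _ ⟨p, hp, rfl⟩
      exact F'.cent_A a ha haB _ (hS ▸ hin p hp) (hcomm p hp a (he ▸ ha))
    have := card_le_of_le h
    rwa [hcard, F'.card_A] at this
  rcases F.elem hle hsq ((hcard _).trans F.card_A) with e | e
  · exact key F e rfl
  · exact key F.symm e rfl

/-- The odd part of the centraliser of `A`. -/
def oddCent : Subgroup G :=
  (oddCore ↥(centralizer (F.A : Set G))).map (centralizer (F.A : Set G)).subtype

theorem oddCent_le : F.oddCent ≤ centralizer (F.A : Set G) := map_subtype_le _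

theorem odd_card_oddCent [Finite G] : Odd (Nat.card F.oddCent) := by
  rw [oddCent, card_map_of_injective (subtype_injective _)]
  exact CfsgLib.Cores.odd_card_oddCore

/-- The centraliser of `A` is the product of `A` and its odd part. -/
theorem centralizer_A_split [Finite G] :
    ∀ x ∈ centralizer (F.A : Set G), ∃ e ∈ F.A, ∃ o ∈ F.oddCent, x = e * o := by
  have := Fact.mk Nat.prime_two
  set C := centralizer (F.A : Set G) with hC
  have hAC : F.A ≤ C := fun a ha => mem_centralizer_iff.2 fun b hb => F.A_comm hb ha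
  set N := F.A.subgroupOf C with hN
  have hNcard : Nat.card N = 16 := by rw [Nat.card_congr (subgroupOfEquivOfLe hAC).toEquiv, F.card_A]
  have hNc : ∀ n ∈ N, ∀ c : C, c * n = n * c := fun n hn c =>
    Subtype.ext (mem_centralizer_iff.1 c.2 n hn).symm
  have : N.Normal := ⟨fun n hn c => by rw [hNc n hn c, mul_inv_cancel_right]; exact hn⟩
  have hNp : IsPGroup 2 N := IsPGroup.of_card (n := 4) (by rw [hNcard]; norm_num)
  obtain ⟨P, hP⟩ := hNp.exists_le_sylow
  have hPc : Nat.card (P : Subgroup C) ≤ 16 := by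
    rw [← card_map_of_injective C.subtype_injective]
    exact F.card_le_of_le_centralizer (P.isPGroup'.map _)
      (fun a ha => ⟨⟨a, hAC ha⟩, hP (show (⟨a, hAC ha⟩ : C) ∈ N from ha), rfl⟩) (map_subtype_le _)
  have hPN : (P : Subgroup C) = N :=
    (eq_of_le_of_card_ge hP (by rw [hNcard]; exact hPc)).symm
  have hind : ¬ 2 ∣ N.index := hPN ▸ P.not_dvd_index
  obtain ⟨D, hD⟩ := exists_right_complement'_of_coprime (N := N) (by
    rw [hNcard, show (16 : ℕ) = 2 ^ 4 by norm_num]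
    exact Nat.Coprime.pow_left 4 ((Nat.prime_two.coprime_iff_not_dvd).2 hind))
  have hDn : D.Normal := by
    refine ⟨fun d hd c => ?_⟩
    obtain ⟨⟨⟨n, hn⟩, ⟨d', hd'⟩⟩, he⟩ := hD.2 c
    rw [← show n * d' = c from he,
      show n * d' * d * (n * d')⁻¹ = n * (d' * d * d'⁻¹) * n⁻¹ by group,
      ← hNc n hn (d' * d * d'⁻¹), mul_inv_cancel_right]
    exact mul_mem (mul_mem hd' hd) (inv_mem hd')
  have hDo : Odd (Nat.card D) := by
    rw [← hD.symm.index_eq_card]
    exact Nat.odd_iff.2 (Nat.two_dvd_ne_zero.1 hind)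
  intro x hx
  obtain ⟨⟨⟨n, hn⟩, ⟨d, hd⟩⟩, he⟩ := hD.2 (⟨x, hx⟩ : C)
  exact ⟨n, hn, d, ⟨d, CfsgLib.Cores.le_oddCore hDo hd, rfl⟩, (congrArg Subtype.val he).symm⟩

theorem normalizer_A_le_normalizer_oddCent [Finite G] :
    normalizer (F.A : Set G) ≤ normalizer (F.oddCent : Set G) := by
  set C := centralizer (F.A : Set G) with hC
  intro n hn
  refine CfsgLib.CoprimeAction.mem_normalizer_of_conj_mem fun x hx => ?_
  obtain ⟨e, he, o, ho, h⟩ := F.centralizer_A_split (n * x * n⁻¹) (mem_centralizer_iff.2 fun a ha => by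
    have ha' : n⁻¹ * a * n ∈ F.A := by
      have := (mem_normalizer_iff.1 (inv_mem hn) a).1 ha
      rwa [inv_inv] at this
    have hc : n⁻¹ * a * n * x = x * (n⁻¹ * a * n) := mem_centralizer_iff.1 (F.oddCent_le hx) _ ha'
    calc a * (n * x * n⁻¹) = n * (n⁻¹ * a * n * x) * n⁻¹ := by group
      _ = n * (x * (n⁻¹ * a * n)) * n⁻¹ := by rw [hc]
      _ = _ := by group)
  have hodd : Odd (orderOf (n * x * n⁻¹)) := by
    rw [CfsgLib.Involutions.orderOf_conj]
    exact odd_orderOf_of_mem F.odd_card_oddCent hx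
  have he1 : e = 1 := by
    refine eq_one_of_div_mem_sub (H := C) F.oddCent_le ?_ F.odd_card_oddCent
      (mem_centralizer_iff.2 fun a ha => F.A_comm ha he) ?_ (F.A_sq he) hodd ?_
    · intro c hc
      refine CfsgLib.CoprimeAction.mem_normalizer_of_conj_mem fun y hy => ?_
      obtain ⟨y', hy', rfl⟩ := hy
      exact ⟨⟨c, hc⟩ * y' * ⟨c, hc⟩⁻¹, (inferInstance : (oddCore ↥C).Normal).conj_mem y' hy' _, rfl⟩
    · rw [h]
      exact mul_mem (mem_centralizer_iff.2 fun a ha => F.A_comm ha he) (F.oddCent_le ho)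
    · rw [h, mul_inv_rev]
      have : e * (o⁻¹ * e⁻¹) = o⁻¹ := by
        rw [← mul_assoc, (mem_centralizer_iff.1 (inv_mem (F.oddCent_le ho)) e he),
          mul_inv_cancel_right]
      rw [this]
      exact inv_mem ho
  rw [he1, one_mul] at h
  rwa [h]

theorem A_le_cent {a : G} (ha : a ∈ F.A) : F.A ≤ centralizer ({a} : Set G) := fun _ hb =>
  mem_cent.2 (F.A_comm hb ha)

/-- The odd part of the centraliser of `A` lies in the odd core of each centraliser. -/
theorem oddCent_le_Oc [Finite G]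
    (hloc : ∀ a ∈ F.A, a ≠ 1 → Loc (normalizer (F.A : Set G)) a) {b : G} (hb : b ∈ F.A)
    (hb1 : b ≠ 1) : F.oddCent ≤ Oc b := by
  have hD0b : F.oddCent ≤ centralizer ({b} : Set G) := fun d hd =>
    mem_cent.2 ((mem_centralizer_iff.1 (F.oddCent_le hd) b hb).symm)
  have h1 : Oc b ⊔ F.oddCent ≤ Oc b := by
    refine le_Oc (sup_le (Oc_le b) hD0b) ?_ ?_
    · intro g hg
      obtain ⟨o, ho, n, hn, rfl⟩ := hloc b hb hb1 g hg
      refine mul_mem (le_normalizer (mem_sup_left ho)) ?_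
      have hnb : n ∈ centralizer ({b} : Set G) := by
        have := mul_mem (inv_mem (Oc_le b ho)) hg
        rwa [inv_mul_cancel_left] at this
      refine CfsgLib.CoprimeAction.mem_normalizer_of_conj_mem fun x hx => ?_
      have hle : Oc b ⊔ F.oddCent ≤ (Oc b ⊔ F.oddCent).comap (MulAut.conj n).toMonoidHom :=
        sup_le (fun y hy => mem_sup_left
            ((mem_normalizer_iff.1 (centralizer_le_normalizer_Oc b hnb) y).1 hy))
          (fun y hy => mem_sup_right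
            ((mem_normalizer_iff.1 (F.normalizer_A_le_normalizer_oddCent hn) y).1 hy))
      exact hle hx
    · have hD0' : F.oddCent ≤ normalizer (Oc b : Set G) :=
        hD0b.trans (centralizer_le_normalizer_Oc b)
      have := CfsgLib.Cores.card_sup_dvd (F.oddCent.subgroupOf (normalizer (Oc b : Set G)))
        ((Oc b).subgroupOf (normalizer (Oc b : Set G)))
      rw [← subgroupOf_sup hD0' le_normalizer,
        Nat.card_congr (subgroupOfEquivOfLe (sup_le hD0' le_normalizer)).toEquiv,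
        Nat.card_congr (subgroupOfEquivOfLe hD0').toEquiv,
        Nat.card_congr (subgroupOfEquivOfLe (le_normalizer (H := Oc b))).toEquiv,
        sup_comm] at this
      exact (F.odd_card_oddCent.mul (odd_card_Oc b)).of_dvd_nat this
  exact le_sup_right.trans h1

/-- Balance on `A`. -/
theorem balance [Finite G]
    (hloc : ∀ a ∈ F.A, a ≠ 1 → Loc (normalizer (F.A : Set G)) a) {a b : G} (ha : a ∈ F.A)
    (hb : b ∈ F.A) (hb1 : b ≠ 1) : Oc a ⊓ centralizer ({b} : Set G) ≤ Oc b := by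
  intro d hd
  obtain ⟨hda, hdb⟩ := hd
  obtain ⟨o, ho, n, hn, rfl⟩ := hloc b hb hb1 _ hdb
  have hnb : n ∈ centralizer ({b} : Set G) := by
    have := mul_mem (inv_mem (Oc_le b ho)) hdb
    rwa [inv_mul_cancel_left] at this
  have hdo : Odd (orderOf (o * n)) := odd_orderOf_of_mem (odd_card_Oc a) hda
  have hNb := centralizer_le_normalizer_Oc (G := G) b
  have hnA : n ∈ centralizer (F.A : Set G) := by
    refine mem_centralizer_iff.2 fun e he => ?_
    set f := e * (n * e⁻¹ * n⁻¹) with hf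
    have hf' : f ∈ F.A := mul_mem he ((mem_normalizer_iff.1 hn _).1 (inv_mem he))
    set d' := e * (o * n) * e⁻¹ * (o * n)⁻¹ with hd'
    have hd'a : d' ∈ Oc a := mul_mem
      ((mem_normalizer_iff.1 (centralizer_le_normalizer_Oc a (F.A_le_cent ha he)) _).1 hda)
      (inv_mem hda)
    have hd'b : d' ∈ centralizer ({b} : Set G) :=
      mul_mem (mul_mem (mul_mem (F.A_le_cent hb he) hdb) (inv_mem (F.A_le_cent hb he))) (inv_mem hdb)
    have hrel : f * d'⁻¹ ∈ Oc b := by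
      have h1 : d' = (e * o * e⁻¹) * f * o⁻¹ := by rw [hd', hf]; group
      have h2 : f * d'⁻¹ = (f * o * f⁻¹) * (e * o * e⁻¹)⁻¹ := by rw [h1]; group
      rw [h2]
      exact mul_mem ((mem_normalizer_iff.1 (hNb (F.A_le_cent hb hf')) _).1 ho)
        (inv_mem ((mem_normalizer_iff.1 (hNb (F.A_le_cent hb he)) _).1 ho))
    have hf1 : f = 1 := eq_one_of_div_mem_sub (Oc_le b) hNb (odd_card_Oc b) (F.A_le_cent hb hf')
      hd'b (F.A_sq hf') (odd_orderOf_of_mem (odd_card_Oc a) hd'a) hrel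
    rw [hf, mul_eq_one_iff_eq_inv] at hf1
    calc e * n = (n * e⁻¹ * n⁻¹)⁻¹ * n := by rw [← hf1]
      _ = n * e := by group
  obtain ⟨e, he, o', ho', rfl⟩ := F.centralizer_A_split n hnA
  have ho'b : o' ∈ Oc b := F.oddCent_le_Oc hloc hb hb1 ho'
  have hrel : e * (o * (e * o'))⁻¹ ∈ Oc b := by
    have h : e * (o * (e * o'))⁻¹ = (e * o'⁻¹ * e⁻¹) * o⁻¹ := by group
    rw [h]
    exact mul_mem ((mem_normalizer_iff.1 (hNb (F.A_le_cent hb he)) _).1 (inv_mem ho'b)) (inv_mem ho)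
  have he1 : e = 1 := eq_one_of_div_mem_sub (Oc_le b) hNb (odd_card_Oc b) (F.A_le_cent hb he)
    hdb (F.A_sq he) hdo hrel
  rw [he1, one_mul]
  exact mul_mem ho ho'b

/-- The closure of the odd cores of the centralisers of the central involutions. -/
def W : Subgroup G := ⨆ z : {z : G // z ∈ F.A ⊓ F.B ∧ z ≠ 1}, Oc (z : G)

theorem symm_W : F.symm.W = F.W := by
  unfold W
  apply le_antisymm <;> refine iSup_le fun z => ?_
  · exact le_iSup_of_le ⟨z.1, ⟨z.2.1.2, z.2.1.1⟩, z.2.2⟩ le_rfl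
  · exact le_iSup_of_le ⟨z.1, ⟨z.2.1.2, z.2.1.1⟩, z.2.2⟩ le_rfl

theorem Oc_center_le {z : G} (hz : z ∈ F.A ⊓ F.B) (hz1 : z ≠ 1) : Oc z ≤ F.W :=
  le_iSup_of_le ⟨z, hz, hz1⟩ le_rfl

theorem Oc_le_W [Finite G]
    (hloc : ∀ a ∈ F.A, a ≠ 1 → Loc (normalizer (F.A : Set G)) a) {a : G} (ha : a ∈ F.A) :
    Oc a ≤ F.W := by
  have : IsMulCommutative ↥(F.A ⊓ F.B) :=
    ⟨⟨fun x y => Subtype.ext (F.A_comm x.2.1 y.2.1)⟩⟩
  refine CfsgLib.CoprimeAction.le_of_centralizers (A := F.A ⊓ F.B) ?_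
    ((inf_le_left.trans (F.A_le_cent ha)).trans (centralizer_le_normalizer_Oc a)) ?_
    fun z hz hz1 => (F.balance hloc ha hz.1 hz1).trans (F.Oc_center_le hz hz1)
  · intro hcyc
    obtain ⟨⟨g, hg⟩, hgen⟩ := hcyc.exists_generator
    have h2 : orderOf (⟨g, hg⟩ : ↥(F.A ⊓ F.B)) ∣ 2 :=
      orderOf_dvd_of_pow_eq_one (Subtype.ext (by rw [pow_two]; exact F.A_sq hg.1))
    rw [orderOf_eq_card_of_forall_mem_zpowers hgen, F.card_Z] at h2
    omega
  · rw [F.card_Z, show (4 : ℕ) = 2 ^ 2 by norm_num]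
    exact Nat.Coprime.pow_left 2 (Nat.coprime_two_left.2 (odd_card_Oc a))

theorem odd_card_W [Finite G]
    (hloc : ∀ a ∈ F.A, a ≠ 1 → Loc (normalizer (F.A : Set G)) a) : Odd (Nat.card F.W) := by
  have := Fact.mk Nat.prime_two
  obtain ⟨h, -⟩ := Cfsg.Agent.S0217.result (p := 2) F.A (fun a ha b hb => F.A_comm ha hb) F.hA.2
    (by rw [F.card_A]; norm_num) Oc (fun a _ _ => Oc_le a)
    (fun a _ _ => Nat.two_dvd_ne_zero.2 (Nat.odd_iff.1 (odd_card_Oc a)))
    (fun a ha _ b hb x hx =>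
      (mem_normalizer_iff.1 (centralizer_le_normalizer_Oc a (F.A_le_cent ha hb)) x).1 hx)
    (fun a _ _ => Cfsg.Agent.S0205.result (odd_card_Oc a))
    (fun a ha _ b hb hb1 => F.balance hloc ha hb hb1)
  refine Odd.of_dvd_nat (Nat.odd_iff.2 (Nat.two_dvd_ne_zero.1 h)) (card_dvd_of_le ?_)
  exact iSup_le fun z => le_iSup_of_le ⟨z.1, z.2.1.1, z.2.2⟩ le_rfl

theorem normalizer_A_le_normalizer_W [Finite G]
    (hloc : ∀ a ∈ F.A, a ≠ 1 → Loc (normalizer (F.A : Set G)) a) :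
    normalizer (F.A : Set G) ≤ normalizer (F.W : Set G) := by
  intro n hn
  refine CfsgLib.CoprimeAction.mem_normalizer_of_conj_mem fun x hx => ?_
  have hle : F.W ≤ F.W.comap (MulAut.conj n).toMonoidHom := iSup_le fun z y hy => by
    exact F.Oc_le_W hloc ((mem_normalizer_iff.1 hn _).1 z.2.1.1) (conj_mem_Oc n hy)
  exact hle hx

theorem centralizer_le_normalizer_W [Finite G]
    (hloc : ∀ a ∈ F.A, a ≠ 1 → Loc (normalizer (F.A : Set G)) a) {a : G} (ha : a ∈ F.A)
    (ha1 : a ≠ 1) : centralizer ({a} : Set G) ≤ normalizer (F.W : Set G) := by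
  intro g hg
  obtain ⟨o, ho, n, hn, rfl⟩ := hloc a ha ha1 g hg
  exact mul_mem (le_normalizer (F.Oc_le_W hloc ha ho)) (F.normalizer_A_le_normalizer_W hloc hn)

/-- Every involution of `S` is conjugate in the normaliser of `W` to a fixed central one. -/
theorem exists_conj_center [Finite G]
    (hloc : ∀ a ∈ F.A, a ≠ 1 → Loc (normalizer (F.A : Set G)) a)
    (hlocB : ∀ b ∈ F.B, b ≠ 1 → Loc (normalizer (F.B : Set G)) b)
    (hTA : ∀ a ∈ F.A, ∀ a' ∈ F.A, a ≠ 1 → a' ≠ 1 → ∃ n ∈ normalizer (F.A : Set G), n * a * n⁻¹ = a')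
    (hTB : ∀ a ∈ F.B, ∀ a' ∈ F.B, a ≠ 1 → a' ≠ 1 → ∃ n ∈ normalizer (F.B : Set G), n * a * n⁻¹ = a')
    {z : G} (hz : z ∈ F.A ⊓ F.B) (hz1 : z ≠ 1) {t : G} (ht : t ∈ (F.S : Subgroup G))
    (ht2 : orderOf t = 2) : ∃ n ∈ normalizer (F.W : Set G), n * t * n⁻¹ = z := by
  have ht1 := CfsgLib.Involutions.ne_one ht2
  rcases F.invol t ht (CfsgLib.Involutions.mul_self_eq_one ht2) with h | h
  · obtain ⟨n, hn, e⟩ := hTA t h z hz.1 ht1 hz1
    exact ⟨n, F.normalizer_A_le_normalizer_W hloc hn, e⟩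
  · obtain ⟨n, hn, e⟩ := hTB t h z hz.2 ht1 hz1
    exact ⟨n, F.symm_W ▸ F.symm.normalizer_A_le_normalizer_W hlocB hn, e⟩

/-- If the group has no odd core and `W` is nontrivial, the normaliser of `W` is strongly
embedded. -/
theorem stronglyEmbedded_normalizer_W [Finite G] (hO : oddCore G = ⊥)
    (hloc : ∀ a ∈ F.A, a ≠ 1 → Loc (normalizer (F.A : Set G)) a)
    (hlocB : ∀ b ∈ F.B, b ≠ 1 → Loc (normalizer (F.B : Set G)) b)
    (hTA : ∀ a ∈ F.A, ∀ a' ∈ F.A, a ≠ 1 → a' ≠ 1 → ∃ n ∈ normalizer (F.A : Set G), n * a * n⁻¹ = a')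
    (hTB : ∀ a ∈ F.B, ∀ a' ∈ F.B, a ≠ 1 → a' ≠ 1 → ∃ n ∈ normalizer (F.B : Set G), n * a * n⁻¹ = a')
    (hW : F.W ≠ ⊥) : IsStronglyEmbedded (normalizer (F.W : Set G)) := by
  have := Fact.mk Nat.prime_two
  set M := normalizer (F.W : Set G) with hM
  obtain ⟨z, hz, hz1⟩ := F.exists_Z_nontriv
  have hAM : F.A ≤ M :=
    le_normalizer.trans (F.normalizer_A_le_normalizer_W hloc)
  have hSM : (F.S : Subgroup G) ≤ M := F.norm_A.trans (F.normalizer_A_le_normalizer_W hloc)
  have hne : M ≠ ⊤ := fun e => hW (le_bot_iff.1 (hO ▸ (by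
    have : F.W.Normal := normalizer_eq_top_iff.1 e
    exact CfsgLib.Cores.le_oddCore (F.odd_card_W hloc))))
  have hev : Even (Nat.card M) := even_iff_two_dvd.2 (by
    refine dvd_trans ?_ (card_dvd_of_le hSM)
    rw [F.card_S]; norm_num)
  refine (CfsgLib.Involutions.isStronglyEmbedded_iff_conj hne hev).2 fun t ht ht2 g hg => ?_
  have hin : ∀ x ∈ M, orderOf x = 2 → ∃ m ∈ M, m * x * m⁻¹ = z := by
    intro x hx hx2
    have hp : IsPGroup 2 (zpowers (⟨x, hx⟩ : M)) :=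
      IsPGroup.of_card (n := 1) (by rw [Nat.card_zpowers, Subgroup.orderOf_mk, hx2, pow_one])
    obtain ⟨Q, hQ⟩ := hp.exists_le_sylow
    obtain ⟨⟨m, hmM⟩, hm⟩ := MulAction.exists_smul_eq M Q (F.S.subtype hSM)
    have hmS : m * x * m⁻¹ ∈ (F.S : Subgroup G) := by
      have : (⟨m, hmM⟩ : M) * ⟨x, hx⟩ * (⟨m, hmM⟩ : M)⁻¹ ∈ (F.S.subtype hSM : Subgroup M) := by
        rw [← hm]
        exact ⟨_, hQ (mem_zpowers _), rfl⟩
      exact this
    obtain ⟨n, hn, e⟩ := F.exists_conj_center hloc hlocB hTA hTB hz hz1 hmS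
      (by rw [CfsgLib.Involutions.orderOf_conj, hx2])
    exact ⟨n * m, mul_mem hn hmM, by rw [← e]; group⟩
  obtain ⟨n, hn, en⟩ := hin t ht ht2
  obtain ⟨n', hn', en'⟩ := hin _ hg (by rw [CfsgLib.Involutions.orderOf_conj, ht2])
  have hc : n' * g * n⁻¹ ∈ centralizer ({z} : Set G) := by
    rw [mem_cent]
    conv_lhs => rw [← en]
    conv_rhs => rw [← en']
    group
  have h := mul_mem (mul_mem (inv_mem hn') (F.centralizer_le_normalizer_W hloc hz.1 hz1 hc)) hn
  rwa [show n'⁻¹ * (n' * g * n⁻¹) * n = g by group] at h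

end Frame

end CfsgLib.LinearThreeFourType
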