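import Cfsg.Agent.Lib.LinearThreeFourType.Setting

/-!
Fusion in the two large elementary abelian subgroups: they are not conjugate, each is weakly
closed, its normaliser controls its fusion, and the normaliser either fixes the centre of the
Sylow subgroup or moves it through five lines covering the subgroup.
-/

set_option autoImplicit false

namespace CfsgLib.LinearThreeFourType

open Subgroup Cfsg CfsgLib.AEightThreeClasses
open scoped Pointwise

universe u

variable {G : Type u} [Group G] [Finite G]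

/-- Two Sylow subgroups inside a subgroup are conjugate by one of its elements. -/
theorem exists_conj_sylow {H : Subgroup G} (P Q : Sylow 2 G) (hP : (P : Subgroup G) ≤ H)
    (hQ : (Q : Subgroup G) ≤ H) :
    ∃ m ∈ H, ∀ x ∈ (P : Subgroup G), m * x * m⁻¹ ∈ (Q : Subgroup G) := by
  obtain ⟨m, hm⟩ := MulAction.exists_smul_eq ↥H (P.subtype hP) (Q.subtype hQ)
  refine ⟨m, m.2, fun x hx => ?_⟩
  have h1 : (⟨x, hP hx⟩ : H) ∈ ((P.subtype hP : Sylow 2 H) : Subgroup H) := hx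
  have h2 : m * ⟨x, hP hx⟩ * m⁻¹ ∈ ((m • P.subtype hP : Sylow 2 H) : Subgroup H) :=
    Subgroup.smul_mem_pointwise_smul _ (MulAut.conj m) _ h1
  rw [hm] at h2
  exact h2

omit [Finite G] in
/-- The index of a centraliser in a subgroup is the size of the class. -/
theorem relIndex_centralizer {H : Subgroup G} {x : G} {T : Set G}
    (hT : ∀ y, y ∈ T ↔ ∃ h ∈ H, h * x * h⁻¹ = y) :
    (H ⊓ centralizer ({x} : Set G)).relIndex H = T.ncard := by
  rw [inf_relIndex_left]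
  let act : MulAction ↥H G := MulAction.compHom G (MulAut.conj.comp H.subtype)
  have hst : MulAction.stabilizer ↥H x = (centralizer ({x} : Set G)).subgroupOf H := by
    ext h
    rw [MulAction.mem_stabilizer_iff, mem_subgroupOf, mem_cent_conj]
    rfl
  have horb : MulAction.orbit ↥H x = T := by
    ext y
    rw [hT, MulAction.mem_orbit_iff]
    exact ⟨fun ⟨h, e⟩ => ⟨h, h.2, e⟩, fun ⟨h, hh, e⟩ => ⟨⟨h, hh⟩, e⟩⟩
  rw [relIndex, ← hst, MulAction.index_stabilizer, horb]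

omit [Finite G] in
/-- An odd power of an element exchanging two points exchanges them. -/
theorem conj_pow_swap {h x y : G} (e1 : h * x * h⁻¹ = y) (e2 : h * y * h⁻¹ = x) (j : ℕ) :
    h ^ (2 * j + 1) * x * (h ^ (2 * j + 1))⁻¹ = y := by
  induction j with
  | zero => simpa using e1
  | succ j ih =>
    calc h ^ (2 * (j + 1) + 1) * x * (h ^ (2 * (j + 1) + 1))⁻¹
        = h * (h * (h ^ (2 * j + 1) * x * (h ^ (2 * j + 1))⁻¹) * h⁻¹) * h⁻¹ := by
          rw [show 2 * (j + 1) + 1 = 2 * j + 1 + 1 + 1 by omega]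
          simp only [pow_succ' h (2 * j + 1 + 1), pow_succ' h (2 * j + 1)]
          group
      _ = _ := by rw [ih, e2, e1]

namespace Frame

variable (F : Frame G)

omit [Finite G] in
theorem conj_mem_A {n a : G} (hn : n ∈ normalizer (F.A : Set G)) (ha : a ∈ F.A) :
    n * a * n⁻¹ ∈ F.A :=
  (mem_normalizer_iff.1 hn a).1 ha

/-- The points of `A` fixed by the Sylow subgroup lie in `B`. -/
theorem fixed_mem {a : G} (ha : a ∈ F.A) (h : ∀ s ∈ (F.S : Subgroup G), s * a = a * s) :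
    a ∈ F.B := by
  by_contra haB
  have h1 := card_le_of_le (K := F.A) fun s hs => F.cent_A a ha haB s hs (h s hs)
  rw [F.card_S, F.card_A] at h1
  omega

omit [Finite G] in
theorem isPGroup_A : IsPGroup 2 ↥F.A :=
  IsPGroup.of_card (n := 4) (by rw [F.card_A]; norm_num)

omit [Finite G] in
theorem isPGroup_B : IsPGroup 2 ↥F.B :=
  IsPGroup.of_card (n := 4) (by rw [F.card_B]; norm_num)

omit [Finite G] in
theorem not_le : ¬ F.A ≤ F.B := fun h => by
  have h1 := F.card_Z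
  rw [inf_eq_left.2 h, F.card_A] at h1
  omega

/-- An element normalising the Sylow subgroup has an odd power in it. -/
theorem exists_odd_pow {h : G} (hh : h ∈ normalizer ((F.S : Subgroup G) : Set G)) :
    ∃ j : ℕ, h ^ (2 * j + 1) ∈ (F.S : Subgroup G) := by
  have : Fact (Nat.Prime 2) := ⟨Nat.prime_two⟩
  obtain ⟨k, m, hm, e⟩ := Nat.exists_eq_two_pow_mul_odd (orderOf_pos h).ne'
  obtain ⟨j, rfl⟩ := hm
  refine ⟨j, ?_⟩
  have hp : IsPGroup 2 ↥(zpowers (h ^ (2 * j + 1))) := by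
    have h1 : orderOf (h ^ (2 * j + 1)) ∣ 2 ^ k := orderOf_dvd_of_pow_eq_one (by
      rw [← pow_mul, mul_comm, ← e, pow_orderOf_eq_one])
    obtain ⟨i, -, hi⟩ := (Nat.dvd_prime_pow Nat.prime_two).1 h1
    exact IsPGroup.of_card (n := i) (by rw [Nat.card_zpowers, hi])
  have h2 := hp.inf_normalizer_sylow F.S
  have h3 : h ^ (2 * j + 1) ∈ zpowers (h ^ (2 * j + 1)) ⊓ normalizer ((F.S : Subgroup G) : Set G) :=
    ⟨mem_zpowers _, pow_mem hh _⟩
  exact (h2.le h3).2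

/-- An element normalising the Sylow subgroup normalises `A`. -/
theorem normalizer_S_le {h : G} (hh : h ∈ normalizer ((F.S : Subgroup G) : Set G)) :
    h ∈ normalizer (F.A : Set G) := by
  set f := (MulAut.conj h).toMonoidHom with hf
  have hmap : ∀ E : Subgroup G, E ≤ (F.S : Subgroup G) → (∀ e ∈ E, e * e = 1) →
      Nat.card ↥E = 16 → E.map f = F.A ∨ E.map f = F.B := by
    intro E hE hE2 hc
    refine F.elem ?_ ?_ (by rw [card_map_of_injective (MulAut.conj h).injective, hc])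
    · rintro _ ⟨e, he, rfl⟩
      exact (mem_normalizer_iff.1 hh e).1 (hE he)
    · rintro _ ⟨e, he, rfl⟩
      rw [← map_mul, hE2 e he, map_one]
  rcases hmap F.A F.A_le (fun e he => F.A_sq he) F.card_A with h1 | h1
  · exact CfsgLib.CoprimeAction.mem_normalizer_of_conj_mem fun a ha => h1.le ⟨a, ha, rfl⟩
  exfalso
  have h2 : F.B.map f = F.A := by
    refine (hmap F.B F.B_le (fun e he => F.B_sq he) F.card_B).resolve_right fun h2 => ?_
    exact F.not_le (map_injective (MulAut.conj h).injective (h1.trans h2.symm)).le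
  have key : ∀ j : ℕ, F.A.map (MulAut.conj (h ^ (2 * j + 1))).toMonoidHom = F.B := by
    intro j
    induction j with
    | zero => simpa [hf] using h1
    | succ j ih =>
      have e : (MulAut.conj (h ^ (2 * (j + 1) + 1))).toMonoidHom =
          f.comp (f.comp (MulAut.conj (h ^ (2 * j + 1))).toMonoidHom) := by
        ext x
        simp only [hf, MonoidHom.coe_comp, MulEquiv.coe_toMonoidHom, Function.comp_apply,
          MulAut.conj_apply]
        rw [show 2 * (j + 1) + 1 = 2 * j + 1 + 1 + 1 by omega]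
        simp only [pow_succ' h (2 * j + 1 + 1), pow_succ' h (2 * j + 1)]
        group
      rw [e, ← map_map, ← map_map, ih, h2, h1]
  obtain ⟨j, hj⟩ := F.exists_odd_pow hh
  refine F.not_le ((?_ : F.A ≤ F.B))
  intro a ha
  have h3 := conj_mem_A F (F.norm_A (inv_mem hj)) ha
  have h4 : h ^ (2 * j + 1) * ((h ^ (2 * j + 1))⁻¹ * a * (h ^ (2 * j + 1))⁻¹⁻¹) *
      (h ^ (2 * j + 1))⁻¹ ∈ F.B := (key j).le ⟨_, h3, rfl⟩
  have e : h ^ (2 * j + 1) * ((h ^ (2 * j + 1))⁻¹ * a * (h ^ (2 * j + 1))⁻¹⁻¹) *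
      (h ^ (2 * j + 1))⁻¹ = a := by group
  rwa [e] at h4

/-- The two elementary subgroups are not conjugate. -/
theorem map_conj_ne (g : G) : F.A.map (MulAut.conj g).toMonoidHom ≠ F.B := by
  intro h
  have hg : ∀ a ∈ F.A, g * a * g⁻¹ ∈ F.B := fun a ha => h.le ⟨a, ha, rfl⟩
  have hN : ((g • F.S : Sylow 2 G) : Subgroup G) ≤ normalizer (F.B : Set G) := by
    rintro _ ⟨s, hs, rfl⟩
    refine CfsgLib.CoprimeAction.mem_normalizer_of_conj_mem fun b hb => ?_
    obtain ⟨a, ha, rfl⟩ := h.ge hb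
    have e : g * s * g⁻¹ * (g * a * g⁻¹) * (g * s * g⁻¹)⁻¹ = g * (s * a * s⁻¹) * g⁻¹ := by group
    exact (e ▸ hg _ (conj_mem_A F (F.norm_A hs) ha) :
      g * s * g⁻¹ * (g * a * g⁻¹) * (g * s * g⁻¹)⁻¹ ∈ F.B)
  obtain ⟨m, hm, hmS⟩ := exists_conj_sylow _ F.S hN F.norm_B
  have hh : m * g ∈ normalizer ((F.S : Subgroup G) : Set G) := by
    refine CfsgLib.CoprimeAction.mem_normalizer_of_conj_mem fun s hs => ?_
    have := hmS (g * s * g⁻¹) ⟨s, hs, rfl⟩
    simpa [mul_assoc] using this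
  refine F.not_le ((?_ : F.A ≤ F.B))
  intro a ha
  have h1 := F.normalizer_S_le hh
  have h2 : (m * g)⁻¹ * a * (m * g) ∈ F.A := by
    simpa using conj_mem_A F (inv_mem h1) ha
  have h3 := (mem_normalizer_iff.1 hm _).1 (hg _ h2)
  simpa [mul_assoc] using h3

/-- A conjugate of `A` inside the Sylow subgroup is `A`. -/
theorem mem_normalizer_A (g : G) (hg : ∀ a ∈ F.A, g * a * g⁻¹ ∈ (F.S : Subgroup G)) :
    g ∈ normalizer (F.A : Set G) := by
  have h := F.elem (E := F.A.map (MulAut.conj g).toMonoidHom)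
    (by rintro _ ⟨a, ha, rfl⟩; exact hg a ha)
    (by rintro _ ⟨a, ha, rfl⟩; rw [← map_mul, F.A_sq ha, map_one])
    (by rw [card_map_of_injective (MulAut.conj g).injective, F.card_A])
  rcases h with h | h
  · exact CfsgLib.CoprimeAction.mem_normalizer_of_conj_mem fun a ha => h.le ⟨a, ha, rfl⟩
  · exact absurd h (F.map_conj_ne g)

/-- A Sylow subgroup of a centraliser containing `A` moves into the Sylow subgroup by an element
of the normaliser of `A`. -/
theorem exists_normalizer_conj {P : Subgroup G} (hP : IsPGroup 2 ↥P) (hA : F.A ≤ P) :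
    ∃ x ∈ normalizer (F.A : Set G), ∀ p ∈ P, x * p * x⁻¹ ∈ (F.S : Subgroup G) := by
  obtain ⟨T, hT⟩ := hP.exists_le_sylow
  obtain ⟨x, hx⟩ := MulAction.exists_smul_eq G T F.S
  have h : ∀ p ∈ P, x * p * x⁻¹ ∈ (F.S : Subgroup G) := fun p hp => by
    rw [← hx]; exact ⟨p, hT hp, rfl⟩
  exact ⟨x, F.mem_normalizer_A x fun a ha => h a (hA ha), h⟩

/-- The normaliser of `A` controls the fusion of its elements. -/
theorem conj_in_A {a a' : G} (ha : a ∈ F.A) (ha' : a' ∈ F.A) {g : G} (h : g * a * g⁻¹ = a') :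
    ∃ n ∈ normalizer (F.A : Set G), n * a * n⁻¹ = a' := by
  set C := centralizer ({a'} : Set G)
  have hAC : F.A ≤ C := fun b hb => mem_cent.2 (F.A_comm hb ha')
  have hgC : F.A.map (MulAut.conj g).toMonoidHom ≤ C := by
    rintro _ ⟨b, hb, rfl⟩
    rw [mem_cent, ← h]
    change g * b * g⁻¹ * (g * a * g⁻¹) = g * a * g⁻¹ * (g * b * g⁻¹)
    calc g * b * g⁻¹ * (g * a * g⁻¹) = g * (b * a) * g⁻¹ := by group
      _ = g * (a * b) * g⁻¹ := by rw [F.A_comm hb ha]
      _ = _ := by group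
  obtain ⟨P, hP⟩ := (F.isPGroup_A.comap_subtype (K := C)).exists_le_sylow
  obtain ⟨Q, hQ⟩ := ((F.isPGroup_A.map (MulAut.conj g).toMonoidHom).comap_subtype
    (K := C)).exists_le_sylow
  obtain ⟨c, hc⟩ := MulAction.exists_smul_eq ↥C Q P
  have hP' : IsPGroup 2 ↥((P : Subgroup C).map C.subtype) := P.isPGroup'.map _
  obtain ⟨x, hx, hxS⟩ := F.exists_normalizer_conj hP' fun b hb => ⟨⟨b, hAC hb⟩, hP hb, rfl⟩
  have h1 : x * c * g ∈ normalizer (F.A : Set G) := by
    refine F.mem_normalizer_A _ fun b hb => ?_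
    have hb' : (⟨_, hgC ⟨b, hb, rfl⟩⟩ : C) ∈ (Q : Subgroup C) := hQ ⟨b, hb, rfl⟩
    have h2 := Subgroup.smul_mem_pointwise_smul _ (MulAut.conj c) _ hb'
    have h3 : c * ⟨_, hgC ⟨b, hb, rfl⟩⟩ * c⁻¹ ∈ (P : Subgroup C) := by
      rw [← hc]; exact h2
    have h4 := hxS _ ⟨_, h3, rfl⟩
    simpa [mul_assoc] using h4
  refine ⟨(c : G) * g, ?_, ?_⟩
  · have := mul_mem (inv_mem hx) h1
    simpa [mul_assoc] using this
  · calc (c : G) * g * a * ((c : G) * g)⁻¹ = c * (g * a * g⁻¹) * (c : G)⁻¹ := by group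
      _ = a' := by rw [h]; exact mem_cent_conj.1 c.2

/-- If the normaliser of `A` fixes the centre, `A` is a Sylow subgroup of the centraliser of each
of its elements outside `B`. -/
theorem eq_of_le_centralizer (hs : F.Small) {a : G} (ha : a ∈ F.A) (haB : a ∉ F.B)
    {P : Subgroup G} (hP : IsPGroup 2 ↥P) (hAP : F.A ≤ P)
    (hPC : P ≤ centralizer ({a} : Set G)) : P = F.A := by
  obtain ⟨x, hx, hxS⟩ := F.exists_normalizer_conj hP hAP
  have hxa : x * a * x⁻¹ ∈ F.A := conj_mem_A F hx ha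
  have hxB : x * a * x⁻¹ ∉ F.B := fun h =>
    haB ((mem_normalizer_iff.1 (hs hx) a).2 ⟨hxa, h⟩).2
  refine le_antisymm (fun p hp => ?_) hAP
  refine (mem_normalizer_iff.1 hx p).2 (F.cent_A _ hxa hxB _ (hxS p hp) ?_)
  have := mem_cent.1 (hPC hp)
  calc x * p * x⁻¹ * (x * a * x⁻¹) = x * (p * a) * x⁻¹ := by group
    _ = x * (a * p) * x⁻¹ := by rw [this]
    _ = _ := by group

/-- With the centre fixed by the normaliser, the part of `A` outside `B` is closed. -/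
theorem closed_of_small (hs : F.Small) : ∀ a ∈ F.A, a ∉ F.B → ∀ g : G,
    g * a * g⁻¹ ∈ (F.S : Subgroup G) → g * a * g⁻¹ ∈ F.A ∧ g * a * g⁻¹ ∉ F.B := by
  intro a ha haB g hg
  by_cases hA : g * a * g⁻¹ ∈ F.A
  · refine ⟨hA, fun hB => ?_⟩
    obtain ⟨n, hn, e⟩ := F.conj_in_A ha hA rfl
    exact haB ((mem_normalizer_iff.1 (hs hn) a).2 (e ▸ ⟨hA, hB⟩)).2
  exfalso
  have hB : g * a * g⁻¹ ∈ F.B :=
    (F.invol _ hg (by simp [conj_mul, F.A_sq ha])).resolve_left hA
  set C := centralizer ({g * a * g⁻¹} : Set G)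
  have hBC : F.B ≤ C := fun b hb => mem_cent.2 (F.B_comm hb hB)
  have hgC : F.A.map (MulAut.conj g).toMonoidHom ≤ C := by
    rintro _ ⟨b, hb, rfl⟩
    rw [mem_cent]
    change g * b * g⁻¹ * (g * a * g⁻¹) = g * a * g⁻¹ * (g * b * g⁻¹)
    calc g * b * g⁻¹ * (g * a * g⁻¹) = g * (b * a) * g⁻¹ := by group
      _ = g * (a * b) * g⁻¹ := by rw [F.A_comm hb ha]
      _ = _ := by group
  obtain ⟨P, hP⟩ := (F.isPGroup_B.comap_subtype (K := C)).exists_le_sylow
  obtain ⟨Q, hQ⟩ := ((F.isPGroup_A.map (MulAut.conj g).toMonoidHom).comap_subtype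
    (K := C)).exists_le_sylow
  obtain ⟨c, hc⟩ := MulAction.exists_smul_eq ↥C P Q
  have hc' : (c : G) * (g * a * g⁻¹) * (c : G)⁻¹ = g * a * g⁻¹ := mem_cent_conj.1 c.2
  set R := ((Q : Subgroup C).map C.subtype).map (MulAut.conj g⁻¹).toMonoidHom with hR
  have hR' : R = F.A := by
    refine F.eq_of_le_centralizer hs ha haB ((Q.isPGroup'.map _).map _) ?_ ?_
    · intro b hb
      exact ⟨g * b * g⁻¹, ⟨⟨_, hgC ⟨b, hb, rfl⟩⟩, hQ ⟨b, hb, rfl⟩, rfl⟩, by simp [mul_assoc]⟩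
    · rintro _ ⟨_, ⟨q, -, rfl⟩, rfl⟩
      rw [mem_cent]
      have hq := mem_cent.1 q.2
      change g⁻¹ * (q : G) * g⁻¹⁻¹ * a = a * (g⁻¹ * (q : G) * g⁻¹⁻¹)
      calc g⁻¹ * (q : G) * g⁻¹⁻¹ * a = g⁻¹ * ((q : G) * (g * a * g⁻¹)) * g := by group
        _ = g⁻¹ * (g * a * g⁻¹ * (q : G)) * g := by rw [hq]
        _ = _ := by group
  have key : ∀ b ∈ F.B, g⁻¹ * c * b * (g⁻¹ * c)⁻¹ ∈ F.A := by
    intro b hb
    have h2 := Subgroup.smul_mem_pointwise_smul _ (MulAut.conj c) _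
      (hP (show (⟨b, hBC hb⟩ : C) ∈ F.B.comap C.subtype from hb))
    have h3 : c * ⟨b, hBC hb⟩ * c⁻¹ ∈ (Q : Subgroup C) := by
      rw [← hc]; exact h2
    refine hR'.le ⟨_, ⟨_, h3, rfl⟩, ?_⟩
    simp [mul_assoc]
  exact F.symm.map_conj_ne (g⁻¹ * c) (eq_of_le_of_card_ge
    (by rintro _ ⟨b, hb, rfl⟩; exact key b hb)
    (by rw [card_map_of_injective (MulAut.conj _).injective]; exact (F.card_A.trans F.card_B.symm).le))

/-- With the centre fixed by the normaliser of `A`, the subgroup `B` is strongly closed. -/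
theorem stronglyClosed_of_small (hs : F.Small) :
    IsStronglyClosed F.B (F.S : Subgroup G) := by
  refine ⟨F.B_le, fun b hb g hg => ?_⟩
  by_contra hB
  have hA : g * b * g⁻¹ ∈ F.A :=
    (F.invol _ hg (by simp [conj_mul, F.B_sq hb])).resolve_right hB
  have h := F.closed_of_small hs _ hA hB g⁻¹ (by simpa [mul_assoc] using F.B_le hb)
  exact h.2 (by simpa [mul_assoc] using hb)

/-- An element of `A` outside `B` is conjugate under `B` to its product with a central element. -/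
theorem exists_conj_eq {a z : G} (ha : a ∈ F.A) (haB : a ∉ F.B) (hz : z ∈ F.A ⊓ F.B) :
    ∃ b ∈ F.B, b * a * b⁻¹ = z * a := by
  have hmem : ∀ b : F.B, (b : G) * a * (b : G)⁻¹ * a⁻¹ ∈ F.A ⊓ F.B := fun b => by
    simpa [mul_assoc] using inv_mem (F.commutator_mem ha b.2)
  let f : F.B →* ↥(F.A ⊓ F.B) :=
    { toFun := fun b => ⟨_, hmem b⟩
      map_one' := by simp
      map_mul' := fun b b' => Subtype.ext (by
        set c := (b' : G) * a * (b' : G)⁻¹ * a⁻¹ with hc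
        change (b : G) * b' * a * ((b : G) * b')⁻¹ * a⁻¹ = (b : G) * a * (b : G)⁻¹ * a⁻¹ * c
        have h1 : (b : G) * c = c * b := F.central c (hmem b') _ (F.B_le b.2)
        have h2 : ((b : G) * a * (b : G)⁻¹ * a⁻¹) * c = c * ((b : G) * a * (b : G)⁻¹ * a⁻¹) :=
          F.central c (hmem b') _ (F.B_le (hmem b).2)
        rw [h2]
        calc (b : G) * b' * a * ((b : G) * b')⁻¹ * a⁻¹ = (b : G) * c * a * (b : G)⁻¹ * a⁻¹ := by
              rw [hc]; group
          _ = _ := by rw [h1]; group) }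
  have hker : f.ker = (F.A ⊓ F.B).subgroupOf F.B := by
    ext b
    rw [MonoidHom.mem_ker, mem_subgroupOf]
    constructor
    · intro h
      have h' : (b : G) * a * (b : G)⁻¹ * a⁻¹ = 1 := congrArg Subtype.val h
      refine ⟨F.cent_A a ha haB _ (F.B_le b.2) ?_, b.2⟩
      rwa [mul_inv_eq_one, mul_inv_eq_iff_eq_mul] at h'
    · intro h
      refine Subtype.ext ?_
      change (b : G) * a * (b : G)⁻¹ * a⁻¹ = 1
      rw [F.A_comm h.1 ha]; group
  have hcard : Nat.card f.range = 4 := by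
    have h1 := f.ker.index_mul_card
    rw [Subgroup.index_ker, hker, Nat.card_congr (subgroupOfEquivOfLe inf_le_right).toEquiv,
      F.card_Z, F.card_B] at h1
    omega
  obtain ⟨b, hb⟩ := (Subgroup.eq_top_iff' f.range).1
    (eq_top_of_card_eq f.range (hcard.trans F.card_Z.symm)) (⟨z, hz⟩ : ↥(F.A ⊓ F.B))
  refine ⟨b, b.2, ?_⟩
  have hb' : (b : G) * a * (b : G)⁻¹ * a⁻¹ = z := congrArg Subtype.val hb
  rw [← hb']; group

/-- The centre is generated by any two of its involutions. -/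
theorem Z_four {x y w : G} (hx : x ∈ F.A ⊓ F.B) (hy : y ∈ F.A ⊓ F.B) (hw : w ∈ F.A ⊓ F.B)
    (hx1 : x ≠ 1) (hy1 : y ≠ 1) (hxy : x ≠ y) : w = 1 ∨ w = x ∨ w = y ∨ w = x * y := by
  have h1 : x * y ≠ 1 := fun h =>
    hxy (mul_right_cancel (b := y) (h.trans (F.A_sq hy.1).symm))
  have h2 : ({1, x, y, x * y} : Set G) = ((F.A ⊓ F.B : Subgroup G) : Set G) := by
    refine Set.eq_of_subset_of_ncard_le ?_ ?_
    · simp only [Set.insert_subset_iff, Set.singleton_subset_iff, SetLike.mem_coe]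
      exact ⟨one_mem _, hx, hy, mul_mem hx hy⟩
    · rw [← Nat.card_coe_set_eq]
      change Nat.card ↥(F.A ⊓ F.B) ≤ _
      have e1 : x ∉ ({y, x * y} : Set G) := by simp [hxy, hy1]
      have e2 : y ∉ ({x * y} : Set G) := by simp [hx1]
      have e3 : (1 : G) ∉ ({x, y, x * y} : Set G) := by simp [hx1.symm, hy1.symm, Ne.symm h1]
      rw [F.card_Z, Set.ncard_insert_of_notMem e3, Set.ncard_insert_of_notMem e1,
        Set.ncard_insert_of_notMem e2, Set.ncard_singleton]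
  have hw' : w ∈ ({1, x, y, x * y} : Set G) := h2 ▸ hw
  simpa using hw'

/-- The stabiliser of a central involution in the normaliser of `A` cannot exchange the two other
ones. -/
theorem no_swap {z z' k : G} (hz : z ∈ F.A ⊓ F.B) (hz1 : z ≠ 1) (hz' : z' ∈ F.A ⊓ F.B)
    (hk : k ∈ normalizer (F.A : Set G)) (hkz : k * z * k⁻¹ = z)
    (e : k * z' * k⁻¹ = z * z') : False := by
  set C := normalizer (F.A : Set G) ⊓ centralizer ({z} : Set G) ⊓ centralizer ({z'} : Set G)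
  have hSC : (F.S : Subgroup G) ≤ C := fun s hs =>
    ⟨⟨F.norm_A hs, mem_cent.2 (F.central z hz s hs)⟩, mem_cent.2 (F.central z' hz' s hs)⟩
  have hkS : ((k • F.S : Sylow 2 G) : Subgroup G) ≤ C := by
    rintro _ ⟨s, hs, rfl⟩
    have h1 : ∀ w ∈ F.A ⊓ F.B, k * s * k⁻¹ * (k * w * k⁻¹) = k * w * k⁻¹ * (k * s * k⁻¹) := by
      intro w hw
      calc k * s * k⁻¹ * (k * w * k⁻¹) = k * (s * w) * k⁻¹ := by group
        _ = k * (w * s) * k⁻¹ := by rw [F.central w hw s hs]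
        _ = _ := by group
    refine Subgroup.mem_inf.2 ⟨Subgroup.mem_inf.2 ⟨?_, mem_cent.2 ?_⟩, mem_cent.2 ?_⟩
    · exact Subgroup.mul_mem _ (Subgroup.mul_mem _ hk (F.norm_A hs)) (Subgroup.inv_mem _ hk)
    · have := h1 z hz
      rwa [hkz] at this
    · have hzz : k * (z * z') * k⁻¹ = z' := by
        calc k * (z * z') * k⁻¹ = k * z * k⁻¹ * (k * z' * k⁻¹) := by group
          _ = z' := by rw [hkz, e, ← mul_assoc, F.A_sq hz.1, one_mul]
      have := h1 _ (mul_mem hz hz')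
      rwa [hzz] at this
  obtain ⟨c, hc, hcS⟩ := exists_conj_sylow _ F.S hkS hSC
  have hh : c * k ∈ normalizer ((F.S : Subgroup G) : Set G) := by
    refine CfsgLib.CoprimeAction.mem_normalizer_of_conj_mem fun s hs => ?_
    have := hcS (k * s * k⁻¹) ⟨s, hs, rfl⟩
    simpa [mul_assoc] using this
  have c1 : c * z * c⁻¹ = z := mem_cent_conj.1 hc.1.2
  have c2 : c * z' * c⁻¹ = z' := mem_cent_conj.1 hc.2
  have e1 : c * k * z' * (c * k)⁻¹ = z * z' := by
    calc c * k * z' * (c * k)⁻¹ = c * (k * z' * k⁻¹) * c⁻¹ := by group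
      _ = c * z * c⁻¹ * (c * z' * c⁻¹) := by rw [e]; group
      _ = _ := by rw [c1, c2]
  have e2 : c * k * (z * z') * (c * k)⁻¹ = z' := by
    calc c * k * (z * z') * (c * k)⁻¹
        = c * (k * z * k⁻¹) * c⁻¹ * (c * k * z' * (c * k)⁻¹) := by group
      _ = z' := by rw [hkz, c1, e1, ← mul_assoc, F.A_sq hz.1, one_mul]
  obtain ⟨j, hj⟩ := F.exists_odd_pow hh
  have h3 := conj_pow_swap e1 e2 j
  rw [F.central z' hz' _ hj, mul_inv_cancel_right] at h3
  exact hz1 (mul_eq_right.1 h3.symm)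

/-- An element of the normaliser of `A` fixing a central involution fixes the centre pointwise. -/
theorem fix_Z {n z z' : G} (hn : n ∈ normalizer (F.A : Set G)) (hz : z ∈ F.A ⊓ F.B) (hz1 : z ≠ 1)
    (hnz : n * z * n⁻¹ = z) (hz' : z' ∈ F.A ⊓ F.B) : n * z' * n⁻¹ = z' := by
  rcases eq_or_ne z' 1 with rfl | h1
  · simp
  rcases eq_or_ne z z' with rfl | hne
  · exact hnz
  have hwA := conj_mem_A F hn hz'.1
  by_cases hwB : n * z' * n⁻¹ ∈ F.B
  · rcases F.Z_four hz hz' ⟨hwA, hwB⟩ hz1 h1 hne with h | h | h | h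
    · exact absurd (conj_eq_one_iff.1 h) h1
    · exact absurd (mul_left_cancel (mul_right_cancel (h.trans hnz.symm))) hne.symm
    · exact h
    · exact (F.no_swap hz hz1 hz' hn hnz h).elim
  exfalso
  obtain ⟨b, hb, e⟩ := F.exists_conj_eq hwA hwB hz
  have hbz : b * z * b⁻¹ = z := by
    rw [F.central z hz b (F.B_le hb), mul_inv_cancel_right]
  have hnz' : n⁻¹ * z * n = z := by
    nth_rewrite 1 [← hnz]
    group
  refine F.no_swap hz hz1 hz' (k := n⁻¹ * b * n)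
    (mul_mem (mul_mem (inv_mem hn) (F.norm_A (F.B_le hb))) hn) ?_ ?_
  · calc n⁻¹ * b * n * z * (n⁻¹ * b * n)⁻¹ = n⁻¹ * (b * (n * z * n⁻¹) * b⁻¹) * n := by group
      _ = z := by rw [hnz, hbz, hnz']
  · calc n⁻¹ * b * n * z' * (n⁻¹ * b * n)⁻¹ = n⁻¹ * (b * (n * z' * n⁻¹) * b⁻¹) * n := by group
      _ = (n⁻¹ * z * n) * z' := by rw [e]; group
      _ = _ := by rw [hnz']

/-- An element of the normaliser of `A` carrying one central involution into the centre normalises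
the centre. -/
theorem mem_normalizer_Z {n z : G} (hn : n ∈ normalizer (F.A : Set G)) (hz : z ∈ F.A ⊓ F.B)
    (hz1 : z ≠ 1) (hnz : n * z * n⁻¹ ∈ F.A ⊓ F.B) :
    n ∈ normalizer ((F.A ⊓ F.B : Subgroup G) : Set G) := by
  set w := n * z * n⁻¹ with hw
  set H := normalizer (F.A : Set G) ⊓ centralizer ({w} : Set G)
  have hSH : (F.S : Subgroup G) ≤ H := fun s hs =>
    ⟨F.norm_A hs, mem_cent.2 (F.central w hnz s hs)⟩
  have hnS : ((n • F.S : Sylow 2 G) : Subgroup G) ≤ H := by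
    rintro _ ⟨s, hs, rfl⟩
    refine Subgroup.mem_inf.2 ⟨Subgroup.mul_mem _ (Subgroup.mul_mem _ hn (F.norm_A hs))
      (Subgroup.inv_mem _ hn), mem_cent.2 ?_⟩
    change n * s * n⁻¹ * w = w * (n * s * n⁻¹)
    rw [hw]
    calc n * s * n⁻¹ * (n * z * n⁻¹) = n * (s * z) * n⁻¹ := by group
      _ = n * (z * s) * n⁻¹ := by rw [F.central z hz s hs]
      _ = _ := by group
  obtain ⟨m, hm, hmS⟩ := exists_conj_sylow _ F.S hnS hSH
  have hh : m * n ∈ normalizer ((F.S : Subgroup G) : Set G) := by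
    refine CfsgLib.CoprimeAction.mem_normalizer_of_conj_mem fun s hs => ?_
    have := hmS (n * s * n⁻¹) ⟨s, hs, rfl⟩
    simpa [mul_assoc] using this
  have hw1 : w ≠ 1 := fun h => hz1 (conj_eq_one_iff.1 h)
  refine CfsgLib.CoprimeAction.mem_normalizer_of_conj_mem fun u hu => ?_
  set v := m * n * u * (m * n)⁻¹ with hv
  have hvA : v ∈ F.A := conj_mem_A F (mul_mem hm.1 hn) hu.1
  have hvB : v ∈ F.B := by
    refine F.fixed_mem hvA fun s hs => ?_
    set s0 := (m * n)⁻¹ * s * (m * n) with hs0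
    have hs0S : s0 ∈ (F.S : Subgroup G) := by
      simpa [hs0] using (mem_normalizer_iff.1 (inv_mem hh) s).1 hs
    have h1 := F.central u hu s0 hs0S
    calc s * v = m * n * (s0 * u) * (m * n)⁻¹ := by rw [hv, hs0]; group
      _ = m * n * (u * s0) * (m * n)⁻¹ := by rw [h1]
      _ = v * s := by rw [hv, hs0]; group
  have hmw : m⁻¹ * w * m⁻¹⁻¹ = w := mem_cent_conj.1 (inv_mem hm.2)
  have h2 := F.fix_Z (inv_mem hm.1) hnz hw1 hmw ⟨hvA, hvB⟩
  have h3 : n * u * n⁻¹ = v := by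
    rw [← h2, hv]; group
  exact h3 ▸ ⟨hvA, hvB⟩

/-- A conjugate of the centre under the normaliser of `A` equals the centre or meets it
trivially. -/
theorem line_cases {n : G} (hn : n ∈ normalizer (F.A : Set G)) :
    (F.A ⊓ F.B).map (MulAut.conj n).toMonoidHom = F.A ⊓ F.B ∨
      (F.A ⊓ F.B).map (MulAut.conj n).toMonoidHom ⊓ (F.A ⊓ F.B) = ⊥ := by
  refine or_iff_not_imp_right.2 fun h => ?_
  obtain ⟨w, hw, hw1⟩ := (Subgroup.bot_or_exists_ne_one _).resolve_left h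
  obtain ⟨z, hz, rfl⟩ := hw.1
  have hz1 : z ≠ 1 := fun e => hw1 (by simp [e])
  have hN := F.mem_normalizer_Z hn hz hz1 hw.2
  refine eq_of_le_of_card_ge ?_ (by rw [card_map_of_injective (MulAut.conj n).injective])
  rintro _ ⟨x, hx, rfl⟩
  exact (mem_normalizer_iff.1 hN x).1 hx

/-- If the normaliser of `A` moves the centre, some element moves all its involutions out. -/
theorem exists_move (hs : ¬ F.Small) : ∃ n ∈ normalizer (F.A : Set G),
    ∀ u ∈ F.A ⊓ F.B, u ≠ 1 → n * u * n⁻¹ ∉ F.B := by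
  obtain ⟨n, hn, hnZ⟩ := SetLike.not_le_iff_exists.1 hs
  exact ⟨n, hn, fun u hu hu1 h => hnZ (F.mem_normalizer_Z hn hu hu1 ⟨conj_mem_A F hn hu.1, h⟩)⟩

/-- Every element of `A` is a central element times an element of a moved line. -/
theorem exists_decomp {n a : G} (hn : n ∈ normalizer (F.A : Set G))
    (hmove : ∀ u ∈ F.A ⊓ F.B, u ≠ 1 → n * u * n⁻¹ ∉ F.B) (ha : a ∈ F.A) :
    ∃ z ∈ F.A ⊓ F.B, ∃ u ∈ F.A ⊓ F.B, a = z * (n * u * n⁻¹) := by
  let f : ↥(F.A ⊓ F.B) × ↥(F.A ⊓ F.B) → ↥F.A := fun p =>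
    ⟨(p.1 : G) * (n * p.2 * n⁻¹), mul_mem p.1.2.1 (conj_mem_A F hn p.2.2.1)⟩
  have hinj : Function.Injective f := by
    rintro ⟨z, u⟩ ⟨z', u'⟩ h
    have h' : (z : G) * (n * u * n⁻¹) = (z' : G) * (n * u' * n⁻¹) := congrArg Subtype.val h
    have h2 : n * ((u : G) * (u' : G)⁻¹) * n⁻¹ = (z : G)⁻¹ * z' := by
      calc n * ((u : G) * (u' : G)⁻¹) * n⁻¹
          = (z : G)⁻¹ * ((z : G) * (n * u * n⁻¹)) * (n * (u' : G)⁻¹ * n⁻¹) := by group
        _ = _ := by rw [h']; group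
    have h3 : (u : G) = u' := mul_inv_eq_one.1 <| by
      by_contra h4
      exact hmove _ (mul_mem u.2 (inv_mem u'.2)) h4 (h2 ▸ mul_mem (inv_mem z.2.2) z'.2.2)
    rw [h3] at h'
    exact Prod.ext (Subtype.ext (mul_right_cancel h')) (Subtype.ext h3)
  obtain ⟨⟨z, u⟩, h⟩ := ((Nat.bijective_iff_injective_and_card f).2
    ⟨hinj, by rw [Nat.card_prod, F.card_Z, F.card_A]⟩).2 ⟨a, ha⟩
  exact ⟨z, z.2, u, u.2, (congrArg Subtype.val h).symm⟩

/-- Every involution of `A` is fused to a central one. -/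
theorem exists_central_conj (hs : ¬ F.Small) {a : G} (ha : a ∈ F.A) (ha1 : a ≠ 1) :
    ∃ m ∈ normalizer (F.A : Set G), ∃ u ∈ F.A ⊓ F.B, u ≠ 1 ∧ m * u * m⁻¹ = a := by
  by_cases haB : a ∈ F.B
  · exact ⟨1, one_mem _, a, ⟨ha, haB⟩, ha1, by simp⟩
  obtain ⟨n, hn, hmove⟩ := F.exists_move hs
  obtain ⟨z, hz, u, hu, rfl⟩ := F.exists_decomp hn hmove ha
  have hu1 : u ≠ 1 := fun h => haB (by simpa [h] using hz.2)
  obtain ⟨b, hb, e⟩ := F.exists_conj_eq (conj_mem_A F hn hu.1) (hmove u hu hu1) hz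
  refine ⟨b * n, mul_mem (F.norm_A (F.B_le hb)) hn, u, hu, hu1, ?_⟩
  rw [← e]; group

/-- No central involution is alone in its class under the normaliser of `A`. -/
theorem not_alone (hs : ¬ F.Small) {z : G} (hz : z ∈ F.A ⊓ F.B) (hz1 : z ≠ 1)
    (h : ∀ m ∈ normalizer (F.A : Set G), m * z * m⁻¹ ∈ F.B → m * z * m⁻¹ = z) : False := by
  obtain ⟨n, hn, hmove⟩ := F.exists_move hs
  set w := n * z * n⁻¹ with hw
  have hwA : w ∈ F.A := conj_mem_A F hn hz.1
  have hwB : w ∉ F.B := hmove z hz hz1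
  -- the orbit lies in the centre and one of its cosets
  have horb : ∀ m ∈ normalizer (F.A : Set G),
      m * z * m⁻¹ ∈ F.B ∨ w * (m * z * m⁻¹) ∈ F.B := by
    intro m hm
    refine or_iff_not_imp_left.2 fun ho => ?_
    obtain ⟨z0, hz0, u, hu, e⟩ := F.exists_decomp hn hmove (conj_mem_A F hm hz.1)
    have hu1 : u ≠ 1 := fun h' => ho (by simpa [e, h'] using hz0.2)
    obtain ⟨b, hb, e'⟩ := F.exists_conj_eq (conj_mem_A F hn hu.1) (hmove u hu hu1) hz0
    have hk : (b * n)⁻¹ * m ∈ normalizer (F.A : Set G) :=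
      mul_mem (inv_mem (mul_mem (F.norm_A (F.B_le hb)) hn)) hm
    have h2 : (b * n)⁻¹ * m * z * ((b * n)⁻¹ * m)⁻¹ = u := by
      calc (b * n)⁻¹ * m * z * ((b * n)⁻¹ * m)⁻¹ = (b * n)⁻¹ * (m * z * m⁻¹) * (b * n) := by
            group
        _ = u := by rw [e, ← e']; group
    have huz : u = z := h2 ▸ h _ hk (h2.symm ▸ hu.2)
    rw [e, huz, ← hw, ← mul_assoc, F.A_comm hwA hz0.1, mul_assoc, F.A_sq hwA, mul_one]
    exact hz0.2
  have hU : ∀ x ∈ F.A, ∀ y ∈ F.A, (x ∈ F.B ∨ w * x ∈ F.B) → (y ∈ F.B ∨ w * y ∈ F.B) →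
      (x * y ∈ F.B ∨ w * (x * y) ∈ F.B) := by
    intro x hx y hy h1 h2
    rcases h1 with h1 | h1 <;> rcases h2 with h2 | h2
    · exact Or.inl (mul_mem h1 h2)
    · right
      rw [← mul_assoc, F.A_comm hwA hx, mul_assoc]
      exact mul_mem h1 h2
    · right
      rw [← mul_assoc]
      exact mul_mem h1 h2
    · left
      have : x * y = w * x * (w * y) := by
        rw [mul_assoc w x, ← mul_assoc x w, F.A_comm hx hwA, mul_assoc w x, ← mul_assoc w w,
          F.A_sq hwA, one_mul]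
      rw [this]
      exact mul_mem h1 h2
  have hmw : ∀ z0 ∈ F.A ⊓ F.B,
      n * (z0 * w) * n⁻¹ ∈ F.B ∨ w * (n * (z0 * w) * n⁻¹) ∈ F.B := by
    intro z0 hz0
    obtain ⟨b, hb, e⟩ := F.exists_conj_eq hwA hwB hz0
    have := horb (n * b * n) (mul_mem (mul_mem hn (F.norm_A (F.B_le hb))) hn)
    rw [show n * b * n * z * (n * b * n)⁻¹ = n * (z0 * w) * n⁻¹ by rw [← e, hw]; group] at this
    exact this
  have himg : ∀ u ∈ F.A ⊓ F.B, u ≠ 1 → u = z := by
    intro u hu hu1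
    have h1 := hU _ (conj_mem_A F hn (mul_mem hu.1 hwA)) _
      (conj_mem_A F hn (mul_mem (one_mem F.A) hwA)) (hmw u hu) (hmw 1 (one_mem _))
    have e : n * (u * w) * n⁻¹ * (n * (1 * w) * n⁻¹) = n * u * n⁻¹ := by
      calc n * (u * w) * n⁻¹ * (n * (1 * w) * n⁻¹) = n * (u * (w * w)) * n⁻¹ := by group
        _ = _ := by rw [F.A_sq hwA, mul_one]
    rw [e] at h1
    have h2 := h1.resolve_left (hmove u hu hu1)
    rw [show w * (n * u * n⁻¹) = n * (z * u) * n⁻¹ by rw [hw]; group] at h2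
    by_contra hne
    refine hmove _ (mul_mem hz hu) (fun h' => hne ?_) h2
    exact mul_left_cancel (h'.trans (F.A_sq hz.1).symm)
  have h4 : F.A ⊓ F.B ≤ zpowers z := fun u hu => by
    rcases eq_or_ne u 1 with rfl | h'
    · exact one_mem _
    · exact himg u hu h' ▸ mem_zpowers z
  have h5 := card_le_of_le h4
  rw [F.card_Z, Nat.card_zpowers, orderOf_eq_prime (by rw [pow_two]; exact F.A_sq hz.1) hz1] at h5
  omega

/-- The central involutions are fused in the normaliser of `A`. -/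
theorem trans_Z (hs : ¬ F.Small) {z z' : G} (hz : z ∈ F.A ⊓ F.B) (hz' : z' ∈ F.A ⊓ F.B)
    (hz1 : z ≠ 1) (hz'1 : z' ≠ 1) :
    ∃ n ∈ normalizer (F.A : Set G), n * z * n⁻¹ = z' := by
  by_contra hno
  push Not at hno
  have hne : z ≠ z' := fun h => hno 1 (one_mem _) (by simp [h])
  by_cases h3 : ∃ n ∈ normalizer (F.A : Set G), n * z * n⁻¹ = z * z'
  · obtain ⟨n, hn, e⟩ := h3
    refine F.not_alone hs hz' hz'1 fun m hm hmB => ?_
    rcases F.Z_four hz hz' ⟨conj_mem_A F hm hz'.1, hmB⟩ hz1 hz'1 hne with h | h | h | h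
    · exact absurd (conj_eq_one_iff.1 h) hz'1
    · exact absurd (by rw [← h]; group) (hno m⁻¹ (inv_mem hm))
    · exact h
    · exfalso
      refine hno (m⁻¹ * n) (mul_mem (inv_mem hm) hn) ?_
      calc m⁻¹ * n * z * (m⁻¹ * n)⁻¹ = m⁻¹ * (n * z * n⁻¹) * m := by group
        _ = z' := by rw [e, ← h]; group
  · refine F.not_alone hs hz hz1 fun m hm hmB => ?_
    rcases F.Z_four hz hz' ⟨conj_mem_A F hm hz.1, hmB⟩ hz1 hz'1 hne with h | h | h | h
    · exact absurd (conj_eq_one_iff.1 h) hz1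
    · exact h
    · exact absurd h (hno m hm)
    · exact absurd ⟨m, hm, h⟩ h3

/-- If the normaliser of `A` moves the centre it is transitive on the involutions of `A`. -/
theorem trans_of_not_small (hs : ¬ F.Small) : ∀ a ∈ F.A, ∀ a' ∈ F.A, a ≠ 1 → a' ≠ 1 →
    ∃ n ∈ normalizer (F.A : Set G), n * a * n⁻¹ = a' := by
  intro a ha a' ha' ha1 ha'1
  obtain ⟨m, hm, u, hu, hu1, e⟩ := F.exists_central_conj hs ha ha1
  obtain ⟨m', hm', u', hu', hu'1, e'⟩ := F.exists_central_conj hs ha' ha'1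
  obtain ⟨k, hk, ek⟩ := F.trans_Z hs hu hu' hu1 hu'1
  refine ⟨m' * k * m⁻¹, mul_mem (mul_mem hm' hk) (inv_mem hm), ?_⟩
  rw [← e, ← e', ← ek]; group

/-- If the normaliser of `A` moves the centre, the centre has five conjugates under it. -/
theorem index_five (hs : ¬ F.Small) :
    (normalizer (F.A : Set G) ⊓ normalizer ((F.A ⊓ F.B : Subgroup G) : Set G)).relIndex
      (normalizer (F.A : Set G)) = 5 := by
  have : Nontrivial ↥(F.A ⊓ F.B) := Finite.one_lt_card_iff_nontrivial.1 (by rw [F.card_Z]; omega)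
  obtain ⟨⟨z, hz⟩, hz1'⟩ := exists_ne (1 : ↥(F.A ⊓ F.B))
  have hz1 : z ≠ 1 := fun h => hz1' (Subtype.ext h)
  set N := normalizer (F.A : Set G)
  set K := N ⊓ normalizer ((F.A ⊓ F.B : Subgroup G) : Set G)
  set C := N ⊓ centralizer ({z} : Set G)
  have hN : C.relIndex N = 15 := by
    rw [relIndex_centralizer (T := (F.A : Set G) \ {1}) fun y => ⟨fun ⟨hy, hy1⟩ =>
      F.trans_of_not_small hs z hz.1 y hy hz1 hy1, fun ⟨h, hh, e⟩ => e ▸
        ⟨conj_mem_A F hh hz.1, fun h' => hz1 (conj_eq_one_iff.1 h')⟩⟩,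
      Set.ncard_sdiff_singleton_of_mem (one_mem F.A), ← Nat.card_coe_set_eq]
    change Nat.card ↥F.A - 1 = 15
    rw [F.card_A]
  have hK : (K ⊓ centralizer ({z} : Set G)).relIndex K = 3 := by
    rw [relIndex_centralizer (T := ((F.A ⊓ F.B : Subgroup G) : Set G) \ {1}) fun y => ⟨fun ⟨hy, hy1⟩ => by
        obtain ⟨m, hm, e⟩ := F.trans_Z hs hz hy hz1 hy1
        exact ⟨m, ⟨hm, F.mem_normalizer_Z hm hz hz1 (e.symm ▸ hy)⟩, e⟩,
      fun ⟨h, hh, e⟩ => e ▸
        ⟨(mem_normalizer_iff.1 hh.2 z).1 hz, fun h' => hz1 (conj_eq_one_iff.1 h')⟩⟩,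
      Set.ncard_sdiff_singleton_of_mem (one_mem (F.A ⊓ F.B)), ← Nat.card_coe_set_eq]
    change Nat.card ↥(F.A ⊓ F.B) - 1 = 3
    rw [F.card_Z]
  have hCK : C ≤ K := fun x hx => ⟨hx.1, F.mem_normalizer_Z hx.1 hz hz1
    ((mem_cent_conj.1 hx.2).symm ▸ hz)⟩
  have hCK' : K ⊓ centralizer ({z} : Set G) = C :=
    le_antisymm (fun x hx => ⟨hx.1.1, hx.2⟩) fun x hx => ⟨hCK hx, hx.2⟩
  rw [hCK'] at hK
  have := relIndex_mul_relIndex C K N hCK inf_le_left
  rw [hN, hK] at this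
  omega

/-- If `A` is self-centralising, the stabiliser of the centre normalises `B`. -/
theorem le_normalizer_B (hCA : centralizer (F.A : Set G) ≤ F.A) :
    normalizer (F.A : Set G) ⊓ normalizer ((F.A ⊓ F.B : Subgroup G) : Set G) ≤
      normalizer (F.B : Set G) := by
  -- the elements acting trivially on the centre and on the quotient of `A` by it
  let K : Subgroup G :=
    { carrier := {k | k ∈ normalizer (F.A : Set G) ∧ (∀ z ∈ F.A ⊓ F.B, k * z * k⁻¹ = z) ∧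
        ∀ a ∈ F.A, k * a * k⁻¹ * a⁻¹ ∈ F.A ⊓ F.B}
      one_mem' := ⟨one_mem _, by simp, fun a ha => by simp⟩
      mul_mem' := by
        rintro k l ⟨hk, hk1, hk2⟩ ⟨hl, hl1, hl2⟩
        refine ⟨mul_mem hk hl, fun z hz => ?_, fun a ha => ?_⟩
        · calc k * l * z * (k * l)⁻¹ = k * (l * z * l⁻¹) * k⁻¹ := by group
            _ = z := by rw [hl1 z hz, hk1 z hz]
        · rw [show k * l * a * (k * l)⁻¹ * a⁻¹ =
            k * (l * a * l⁻¹) * k⁻¹ * (l * a * l⁻¹)⁻¹ * (l * a * l⁻¹ * a⁻¹) by group]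
          exact mul_mem (hk2 _ (conj_mem_A F hl ha)) (hl2 a ha)
      inv_mem' := by
        rintro k ⟨hk, hk1, hk2⟩
        refine ⟨inv_mem hk, fun z hz => ?_, fun a ha => ?_⟩
        · conv_lhs => rw [← hk1 z hz]
          group
        · have ha' := conj_mem_A F (inv_mem hk) ha
          have h := inv_mem (hk2 _ ha')
          simp only [inv_inv, mul_assoc, mul_inv_cancel, mul_one, mul_inv_cancel_left,
            mul_inv_rev] at h ⊢
          exact h }
  have hSK : (F.S : Subgroup G) ≤ K := by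
    rw [← F.sup_eq]
    refine sup_le (fun a ha => ⟨F.norm_A (F.A_le ha), fun z hz => ?_, fun x hx => ?_⟩)
      (fun b hb => ⟨F.norm_A (F.B_le hb), fun z hz => ?_, fun x hx => ?_⟩)
    · rw [F.A_comm ha hz.1, mul_inv_cancel_right]
    · rw [F.A_comm ha hx, mul_inv_cancel_right, mul_inv_cancel]; exact one_mem _
    · rw [F.central z hz b (F.B_le hb), mul_inv_cancel_right]
    · simpa [mul_assoc] using inv_mem (F.commutator_mem hx hb)
  have hK2 : IsPGroup 2 ↥K := by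
    rintro ⟨k, hk, hk1, hk2⟩
    have h2 : k * k ∈ F.A := by
      refine hCA (mem_centralizer_iff.2 fun a ha => ?_)
      set c := k * a * k⁻¹ * a⁻¹ with hc
      have e1 : k * c * k⁻¹ = c := hk1 c (hk2 a ha)
      have e2 : c * c = 1 := F.A_sq (hk2 a ha).1
      have e3 : k * k * a * (k * k)⁻¹ = a := by
        calc k * k * a * (k * k)⁻¹ = k * c * k⁻¹ * (c * a) := by rw [hc]; group
          _ = _ := by rw [e1, ← mul_assoc, e2, one_mul]
      exact (mul_inv_eq_iff_eq_mul.1 e3).symm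
    refine ⟨2, Subtype.ext ?_⟩
    change k ^ (2 ^ 2) = 1
    rw [show k ^ (2 ^ 2) = k * k * (k * k) by simp [pow_succ, mul_assoc]]
    exact F.A_sq h2
  have hKS : (F.S : Subgroup G) = K := (F.S.is_maximal' hK2 hSK).symm
  intro n ⟨hn, hnZ⟩
  have hnS : n ∈ normalizer ((F.S : Subgroup G) : Set G) := by
    refine CfsgLib.CoprimeAction.mem_normalizer_of_conj_mem fun s hs => ?_
    obtain ⟨h0, h1, h2⟩ : s ∈ K := hKS ▸ hs
    rw [hKS]
    refine ⟨mul_mem (mul_mem hn h0) (inv_mem hn), fun z hz => ?_, fun a ha => ?_⟩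
    · have hz' : n⁻¹ * z * n⁻¹⁻¹ ∈ F.A ⊓ F.B := (mem_normalizer_iff.1 (inv_mem hnZ) z).1 hz
      calc n * s * n⁻¹ * z * (n * s * n⁻¹)⁻¹ = n * (s * (n⁻¹ * z * n⁻¹⁻¹) * s⁻¹) * n⁻¹ := by
            group
        _ = z := by rw [h1 _ hz']; group
    · have ha' : n⁻¹ * a * n⁻¹⁻¹ ∈ F.A := conj_mem_A F (inv_mem hn) ha
      rw [show n * s * n⁻¹ * a * (n * s * n⁻¹)⁻¹ * a⁻¹ =
        n * (s * (n⁻¹ * a * n⁻¹⁻¹) * s⁻¹ * (n⁻¹ * a * n⁻¹⁻¹)⁻¹) * n⁻¹ by group]
      exact (mem_normalizer_iff.1 hnZ _).1 (h2 _ ha')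
  exact F.symm.normalizer_S_le hnS

end Frame

end CfsgLib.LinearThreeFourType
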