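/-
The quotient of the normaliser of `W` by `W`: the local hypotheses of the plane, and the
impossibility of an odd subgroup transitive on its involutions.
-/
import Cfsg.Agent.Lib.LinearThreeFourType.CoresBase
import Cfsg.Agent.Lib.LinearThreeFourType.Fusion

set_option autoImplicit false

namespace CfsgLib.LinearThreeFourType

open Subgroup Cfsg CfsgLib.AEightThreeClasses

universe u

/-- A group with an elementary abelian subgroup of order sixteen of index-21 normaliser has no odd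
subgroup transitive on its involutions. -/
theorem no_odd_transitive {H : Type u} [Group H] [Finite H] {A : Subgroup H}
    (hA2 : ∀ a ∈ A, a * a = 1) (h16 : Nat.card A = 16)
    (hT : ∀ a ∈ A, ∀ a' ∈ A, a ≠ 1 → a' ≠ 1 → ∃ n ∈ normalizer (A : Set H), n * a * n⁻¹ = a')
    {z : H} (hz : z ∈ A) (hz1 : z ≠ 1) (hC : centralizer ({z} : Set H) ≤ normalizer (A : Set H))
    (hself : centralizer (A : Set H) ≤ A) (h21 : (normalizer (A : Set H)).index = 21)
    (h9a : ∀ (D : Type u) [Group D] [Finite D], Odd (Nat.card D) → ∀ (X : Type u) [Finite X]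
      [MulAction D X] [FaithfulSMul D X] [MulAction.IsPretransitive D X],
      Nat.card X = 21 → ¬ 5 ∣ Nat.card D)
    (D : Subgroup H) (hD : Odd (Nat.card D))
    (hDt : ∀ x y : H, orderOf x = 2 → orderOf y = 2 → ∃ d ∈ D, d * x * d⁻¹ = y) : False := by
  set N := normalizer (A : Set H) with hN
  have hord : ∀ a ∈ A, a ≠ 1 → orderOf a = 2 := fun a ha ha1 =>
    CfsgLib.Involutions.orderOf_eq_two_iff.2 ⟨hA2 a ha, ha1⟩
  have hz2 := hord z hz hz1
  have hTI : ∀ g : H, ∀ a ∈ A, a ≠ 1 → g * a * g⁻¹ ∈ A → g ∈ N := by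
    intro g a ha ha1 hga
    obtain ⟨n, hn, e⟩ := hT z hz a ha hz1 ha1
    obtain ⟨m, hm, e'⟩ := hT _ hga z hz (fun h => ha1 (conj_eq_one_iff.1 h)) hz1
    have h : m * g * n ∈ centralizer ({z} : Set H) := by
      rw [mem_cent_conj]
      calc m * g * n * z * (m * g * n)⁻¹ = m * (g * (n * z * n⁻¹) * g⁻¹) * m⁻¹ := by group
        _ = z := by rw [e, e']
    have h' := mul_mem (mul_mem (inv_mem hm) (hC h)) (inv_mem hn)
    rwa [show m⁻¹ * (m * g * n) * n⁻¹ = g by group] at h'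
  -- the action on the cosets of the normaliser is faithful
  have hK : N.normalCore = ⊥ := by
    set K := N.normalCore with hK
    have hKN : K ≤ N := normalCore_le _
    have hKA : ∀ a ∈ A, a ∈ K → a = 1 := by
      intro a ha haK
      by_contra ha1
      have hall : ∀ g : H, g ∈ N := fun g => by
        obtain ⟨d, -, hd⟩ := hDt a (g * a * g⁻¹) (hord a ha ha1)
          (by rw [CfsgLib.Involutions.orderOf_conj]; exact hord a ha ha1)
        obtain ⟨b, hb, hb1, hbg⟩ : ∃ b ∈ A, b ≠ 1 ∧ g * b * g⁻¹ ∈ A := by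
          by_contra! hno
          -- all conjugates of `a` lie in the normal subgroup, hence normalise every conjugate
          have h1 : ∀ b ∈ A, b ≠ 1 → b ∈ K := fun b hb hb1 => by
            obtain ⟨c, -, hc⟩ := hDt a b (hord a ha ha1) (hord b hb hb1)
            exact hc ▸ (inferInstance : K.Normal).conj_mem a haK c
          have hAK : A ≤ K := fun b hb => by
            by_cases hb1 : b = 1
            · exact hb1 ▸ one_mem _
            · exact h1 b hb hb1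
          let A' : Subgroup H := A.map (MulAut.conj g).toMonoidHom
          have hA'K : A' ≤ N := by
            rintro _ ⟨b, hb, rfl⟩
            exact hKN ((inferInstance : K.Normal).conj_mem b (hAK hb) g)
          have hdisj : ∀ x ∈ A', x ∈ A → x = 1 := by
            rintro _ ⟨b, hb, rfl⟩ hx
            by_contra hne
            exact hno b hb (fun e => hne (by rw [e]; simp)) hx
          have hcomm : ∀ x ∈ A', ∀ y ∈ A, x * y = y * x := by
            intro x hx y hy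
            have hyA' : y ∈ normalizer (A' : Set H) := by
              have hy' : g⁻¹ * y * g ∈ N := hKN (by
                have := (inferInstance : K.Normal).conj_mem y (hAK hy) g⁻¹
                rwa [inv_inv] at this)
              refine CfsgLib.CoprimeAction.mem_normalizer_of_conj_mem fun w hw => ?_
              obtain ⟨b, hb, rfl⟩ := hw
              refine ⟨g⁻¹ * y * g * b * (g⁻¹ * y * g)⁻¹, (mem_normalizer_iff.1 hy' b).1 hb, ?_⟩
              change g * (g⁻¹ * y * g * b * (g⁻¹ * y * g)⁻¹) * g⁻¹ = y * (g * b * g⁻¹) * y⁻¹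
              group
            have h1 : x * y * x⁻¹ * y⁻¹ ∈ A :=
              mul_mem ((mem_normalizer_iff.1 (hA'K hx) y).1 hy) (inv_mem hy)
            have h2 : x * y * x⁻¹ * y⁻¹ ∈ A' := by
              rw [show x * y * x⁻¹ * y⁻¹ = x * (y * x⁻¹ * y⁻¹) by group]
              exact mul_mem hx ((mem_normalizer_iff.1 hyA' _).1 (inv_mem hx))
            have := hdisj _ h2 h1
            rw [mul_inv_eq_one, mul_inv_eq_iff_eq_mul] at this
            exact this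
          have hle : A' ≤ A := fun x hx => hself (mem_centralizer_iff.2 fun y hy =>
            (hcomm x hx y hy).symm)
          have : g * a * g⁻¹ ∈ A := hle ⟨a, ha, rfl⟩
          exact hno a ha ha1 this
        exact hTI g b hb hb1 hbg
      have : N = ⊤ := eq_top_iff.2 fun g _ => hall g
      rw [this, index_top] at h21
      omega
    refine eq_bot_iff.2 fun k hk => mem_bot.2 (hKA k (hself (mem_centralizer_iff.2 fun a ha => ?_)) hk)
    have h1 : k * a * k⁻¹ * a⁻¹ ∈ A :=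
      mul_mem ((mem_normalizer_iff.1 (hKN hk) a).1 ha) (inv_mem ha)
    have h2 : k * a * k⁻¹ * a⁻¹ ∈ K := by
      rw [show k * a * k⁻¹ * a⁻¹ = k * (a * k⁻¹ * a⁻¹) by group]
      exact mul_mem hk ((inferInstance : K.Normal).conj_mem _ (inv_mem hk) a)
    have h3 := hKA _ h1 h2
    rw [mul_inv_eq_one, mul_inv_eq_iff_eq_mul] at h3
    exact h3.symm
  have hfaith : FaithfulSMul D (H ⧸ N) := ⟨fun {c d} h => by
    have hcd : ((d : H)⁻¹ * c) ∈ N.normalCore := by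
      rw [N.normalCore_eq_ker, MonoidHom.mem_ker]
      refine Equiv.ext fun p => ?_
      have hp : (c : H) • p = (d : H) • p := h p
      change ((d : H)⁻¹ * c) • p = p
      rw [mul_smul, hp, inv_smul_smul]
    rw [hK, mem_bot, inv_mul_eq_one] at hcd
    exact Subtype.ext hcd.symm⟩
  have htrans : MulAction.IsPretransitive D (H ⧸ N) := ⟨fun p q => by
    induction p using QuotientGroup.induction_on with
    | H g =>
    induction q using QuotientGroup.induction_on with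
    | H k =>
    obtain ⟨d, hd, e⟩ := hDt (g * z * g⁻¹) (k * z * k⁻¹)
      (by rw [CfsgLib.Involutions.orderOf_conj, hz2]) (by rw [CfsgLib.Involutions.orderOf_conj, hz2])
    refine ⟨⟨d, hd⟩, ?_⟩
    change QuotientGroup.mk (d * g) = QuotientGroup.mk k
    rw [QuotientGroup.eq, ← inv_mem_iff, mul_inv_rev, inv_inv]
    refine hC ?_
    rw [mem_cent_conj]
    calc k⁻¹ * (d * g) * z * (k⁻¹ * (d * g))⁻¹ = k⁻¹ * (d * (g * z * g⁻¹) * d⁻¹) * k := by group
      _ = z := by rw [e]; group⟩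
  refine h9a D hD (H ⧸ N) h21 ?_
  have hcount := relIndex_centralizer (H := D ⊓ N) (x := z) (T := (A : Set H) \ {1}) (fun y => by
    constructor
    · rintro ⟨hy, hy1⟩
      obtain ⟨d, hd, e⟩ := hDt z y hz2 (hord y hy hy1)
      exact ⟨d, ⟨hd, hTI d z hz hz1 (e ▸ hy)⟩, e⟩
    · rintro ⟨d, hd, rfl⟩
      exact ⟨(mem_normalizer_iff.1 hd.2 z).1 hz, fun h => hz1 (conj_eq_one_iff.1 h)⟩)
  have h15 : ((A : Set H) \ {1}).ncard = 15 := by
    rw [Set.ncard_sdiff_singleton_of_mem A.one_mem,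
      show (A : Set H).ncard = 16 from (Nat.card_coe_set_eq _).symm.trans h16]
  have hdvd : 15 ∣ Nat.card ↥(D ⊓ N) := by
    rw [← h15, ← hcount]
    exact relIndex_dvd_card _ _
  exact (dvd_trans (show 5 ∣ 15 by norm_num) hdvd).trans (card_dvd_of_le inf_le_left)

namespace Frame

variable {G : Type u} [Group G] [Finite G] (F : Frame G)
variable {M : Subgroup G} {H : Type u} [Group H] (π : ↥M →* H) {L : Subgroup G}

omit [Finite G] in
theorem eq_of_map_eq (hker : ∀ x : M, π x = 1 ↔ (x : G) ∈ L) (hL : Odd (Nat.card L))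
    (hSM : (F.S : Subgroup G) ≤ M) {a b : G} (ha : a ∈ (F.S : Subgroup G))
    (hb : b ∈ (F.S : Subgroup G)) (h : π ⟨a, hSM ha⟩ = π ⟨b, hSM hb⟩) : a = b := by
  have hm : a * b⁻¹ ∈ L :=
    (hker (⟨a, hSM ha⟩ * ⟨b, hSM hb⟩⁻¹)).1 (by rw [_root_.map_mul, map_inv, h, mul_inv_cancel])
  have ho : Odd (orderOf (a * b⁻¹)) := odd_orderOf_of_mem hL hm
  obtain ⟨k, hk⟩ := F.S.isPGroup' ⟨a * b⁻¹, mul_mem ha (inv_mem hb)⟩
  have hk' : (a * b⁻¹) ^ 2 ^ k = 1 := congrArg Subtype.val hk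
  refine mul_inv_eq_one.1 (orderOf_eq_one_iff.1 ?_)
  exact Nat.eq_one_of_dvd_coprimes (Nat.Coprime.pow_left k (Nat.coprime_two_left.2 ho))
    (orderOf_dvd_of_pow_eq_one hk') dvd_rfl

/-- A conjugation between elements of `A` modulo `L` is realised exactly up to `L`. -/
theorem exists_lift_conj (hker : ∀ x : M, π x = 1 ↔ (x : G) ∈ L) (hL : Odd (Nat.card L))
    (hLM : L ≤ M) {a b : G} (ha : a * a = 1) (hb : b * b = 1) (haM : a ∈ M) (hbM : b ∈ M) {x : M}
    (h : π x * π ⟨a, haM⟩ * (π x)⁻¹ = π ⟨b, hbM⟩) :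
    ∃ y : M, π y = π x ∧ (y : G) * a * (y : G)⁻¹ = b := by
  have hd : (x : G) * a * (x : G)⁻¹ * b ∈ L := (hker (x * ⟨a, haM⟩ * x⁻¹ * ⟨b, hbM⟩)).1 (by
    rw [_root_.map_mul, _root_.map_mul, _root_.map_mul, map_inv, h, ← _root_.map_mul,
      show (⟨b, hbM⟩ : M) * ⟨b, hbM⟩ = 1 from Subtype.ext hb, _root_.map_one])
  obtain ⟨o, ho, e⟩ := exists_conj_of_mem_coset hL hd hb (by
    rw [show (x : G) * a * (x : G)⁻¹ * b * b = x * a * (x : G)⁻¹ by rw [mul_assoc _ b b, hb, mul_one],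
      show (x : G) * a * (x : G)⁻¹ * (x * a * (x : G)⁻¹) = x * (a * a) * (x : G)⁻¹ by group, ha,
      mul_one, mul_inv_cancel])
  refine ⟨⟨o, hLM ho⟩⁻¹ * x, ?_, ?_⟩
  · rw [_root_.map_mul, map_inv, (hker _).2 ho, inv_one, one_mul]
  · rw [mul_assoc _ b b, hb, mul_one] at e
    change o⁻¹ * (x : G) * a * (o⁻¹ * (x : G))⁻¹ = b
    calc o⁻¹ * (x : G) * a * (o⁻¹ * (x : G))⁻¹ = o⁻¹ * ((x : G) * a * (x : G)⁻¹) * o := by group
      _ = b := by rw [← e]; group

/-- The image of a subgroup of `M`. -/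
def img (E : Subgroup G) : Subgroup H := (E.subgroupOf M).map π

omit [Finite G] in
theorem mem_img {E : Subgroup G} {y : H} : y ∈ img π E ↔ ∃ (e : G) (he : e ∈ M), e ∈ E ∧ π ⟨e, he⟩ = y :=
  ⟨fun ⟨x, hx, e⟩ => ⟨x, x.2, hx, e⟩, fun ⟨e, he, hE, h⟩ => ⟨⟨e, he⟩, hE, h⟩⟩

/-- The conditions on the reduction modulo the odd subgroup. -/
structure Reduction (L : Subgroup G) : Prop where
  ker : ∀ x : M, π x = 1 ↔ (x : G) ∈ L
  surj : Function.Surjective π
  odd : Odd (Nat.card L)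
  L_le : L ≤ M
  S_le : (F.S : Subgroup G) ≤ M
  normA_le : normalizer (F.A : Set G) ≤ M
  core_le : ∀ z ∈ F.A ⊓ F.B, z ≠ 1 → Oc z ≤ L

variable {π}

theorem img_facts [Finite H] (R : F.Reduction π L)
    (hloc : ∀ a ∈ F.A, a ≠ 1 → Loc (normalizer (F.A : Set G)) a)
    (hZ : ∀ z ∈ F.A ⊓ F.B, z ≠ 1 → Loc (normalizer (F.A : Set G) ⊓ normalizer (F.B : Set G)) z)
    (hTA : ∀ a ∈ F.A, ∀ a' ∈ F.A, a ≠ 1 → a' ≠ 1 → ∃ n ∈ normalizer (F.A : Set G), n * a * n⁻¹ = a')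
    (hI5 : (normalizer (F.A : Set G) ⊓ normalizer ((F.A ⊓ F.B : Subgroup G) : Set G)).relIndex
      (normalizer (F.A : Set G)) = 5) :
    let A' := img π F.A
    let B' := img π F.B
    (∀ z ∈ A' ⊓ B', z ≠ 1 → centralizer ({z} : Set H) ≤ normalizer (A' : Set H)) ∧
    centralizer (A' : Set H) ≤ A' ∧
    (∀ a ∈ A', ∀ a' ∈ A', a ≠ 1 → a' ≠ 1 → ∃ n ∈ normalizer (A' : Set H), n * a * n⁻¹ = a') ∧
    (normalizer (A' : Set H) ⊓ normalizer ((A' ⊓ B' : Subgroup H) : Set H)).relIndex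
      (normalizer (A' : Set H)) = 5 := by
  intro A' B'
  have inj : ∀ {a b : G} (ha : a ∈ (F.S : Subgroup G)) (hb : b ∈ (F.S : Subgroup G)),
      π ⟨a, R.S_le ha⟩ = π ⟨b, R.S_le hb⟩ → a = b := fun ha hb h =>
    F.eq_of_map_eq π R.ker R.odd R.S_le ha hb h
  have hAM : ∀ {a : G}, a ∈ F.A → a ∈ M := fun ha => R.S_le (F.A_le ha)
  have memN : ∀ {n : G} (hn : n ∈ normalizer (F.A : Set G)),
      π ⟨n, R.normA_le hn⟩ ∈ normalizer (A' : Set H) := by
    intro n hn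
    refine CfsgLib.CoprimeAction.mem_normalizer_of_conj_mem fun y hy => ?_
    obtain ⟨a, haM, ha, rfl⟩ := (mem_img π).1 hy
    rw [← map_inv, ← _root_.map_mul, ← _root_.map_mul]
    exact (mem_img π).2 ⟨_, _, (mem_normalizer_iff.1 hn a).1 ha, rfl⟩
  have memZ : ∀ {y : H}, y ∈ A' ⊓ B' → ∃ (z : G) (hzZ : z ∈ F.A ⊓ F.B), π ⟨z, hAM hzZ.1⟩ = y := by
    intro y hy
    obtain ⟨a, haM, ha, e⟩ := (mem_img π).1 hy.1
    obtain ⟨b, hbM, hb, e'⟩ := (mem_img π).1 hy.2
    have : a = b := inj (F.A_le ha) (F.B_le hb) (e.trans e'.symm)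
    exact ⟨a, ⟨ha, this ▸ hb⟩, e⟩
  have fixc : ∀ {z : G} (hz : z ∈ F.A ⊓ F.B), z ≠ 1 → ∀ x : M,
      π x * π ⟨z, hAM hz.1⟩ * (π x)⁻¹ = π ⟨z, hAM hz.1⟩ →
      ∃ (n : G) (hn : n ∈ normalizer (F.A : Set G)), n * z = z * n ∧ π x = π ⟨n, R.normA_le hn⟩ := by
    intro z hz hz1 x hx
    obtain ⟨y, hy, e⟩ := exists_lift_conj π R.ker R.odd R.L_le (F.A_sq hz.1) (F.A_sq hz.1) _ _ hx
    have hyc : (y : G) ∈ centralizer ({z} : Set G) := mem_cent_conj.2 e
    obtain ⟨o, ho, n, hn, he⟩ := hZ z hz hz1 _ hyc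
    have hnc : n ∈ centralizer ({z} : Set G) := by
      have := mul_mem (inv_mem (Oc_le z ho)) hyc
      rwa [he, inv_mul_cancel_left] at this
    refine ⟨n, hn.1, mem_cent.1 hnc, ?_⟩
    rw [← hy, show y = (⟨o, R.L_le (R.core_le z hz hz1 ho)⟩ : M) * ⟨n, R.normA_le hn.1⟩ from
      Subtype.ext he, _root_.map_mul, (R.ker _).2 (R.core_le z hz hz1 ho), one_mul]
  obtain ⟨z0, hz0, hz01⟩ := F.exists_Z_nontriv
  have norm_img : ∀ {w : H}, w ∈ normalizer (A' : Set H) →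
      ∃ (n : G) (hn : n ∈ normalizer (F.A : Set G)), π ⟨n, R.normA_le hn⟩ = w := by
    intro w hw
    obtain ⟨x, rfl⟩ := R.surj w
    obtain ⟨a, haM, ha, e⟩ := (mem_img π).1
      ((mem_normalizer_iff.1 hw _).1 ((mem_img π).2 ⟨z0, hAM hz0.1, hz0.1, rfl⟩))
    have ha1 : a ≠ 1 := by
      rintro rfl
      have h1 : π ⟨z0, hAM hz0.1⟩ = 1 := by
        rw [show (⟨1, haM⟩ : M) = 1 from rfl, _root_.map_one] at e
        exact conj_eq_one_iff.1 e.symm
      exact hz01 (inj (F.A_le hz0.1) (one_mem _)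
        (h1.trans ((_root_.map_one π).symm.trans rfl)))
    obtain ⟨m, hm, em⟩ := hTA z0 hz0.1 a ha hz01 ha1
    have hfix : π (⟨m, R.normA_le hm⟩⁻¹ * x) * π ⟨z0, hAM hz0.1⟩ *
        (π (⟨m, R.normA_le hm⟩⁻¹ * x))⁻¹ = π ⟨z0, hAM hz0.1⟩ := by
      have hm' : π ⟨a, haM⟩ = π ⟨m, R.normA_le hm⟩ * π ⟨z0, hAM hz0.1⟩ * (π ⟨m, R.normA_le hm⟩)⁻¹ := by
        rw [← map_inv, ← _root_.map_mul, ← _root_.map_mul]
        exact congrArg π (Subtype.ext em.symm)
      rw [_root_.map_mul, map_inv, mul_inv_rev, inv_inv]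
      rw [show (π ⟨m, R.normA_le hm⟩)⁻¹ * π x * π ⟨z0, hAM hz0.1⟩ * ((π x)⁻¹ * π ⟨m, R.normA_le hm⟩) =
        (π ⟨m, R.normA_le hm⟩)⁻¹ * (π x * π ⟨z0, hAM hz0.1⟩ * (π x)⁻¹) * π ⟨m, R.normA_le hm⟩ by group,
        ← e, hm']
      group
    obtain ⟨n, hn, -, en⟩ := fixc hz0 hz01 _ hfix
    refine ⟨m * n, mul_mem hm hn, ?_⟩
    rw [_root_.map_mul, map_inv] at en
    rw [show (⟨m * n, R.normA_le (mul_mem hm hn)⟩ : M) = ⟨m, R.normA_le hm⟩ * ⟨n, R.normA_le hn⟩ from rfl,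
      _root_.map_mul, ← en, mul_inv_cancel_left]
  refine ⟨?_, ?_, ?_, ?_⟩
  · intro y hy hy1 g hg
    obtain ⟨z, hz, rfl⟩ := memZ hy
    have hz1 : z ≠ 1 := by rintro rfl; exact hy1 (_root_.map_one π)
    obtain ⟨x, rfl⟩ := R.surj g
    obtain ⟨n, hn, -, e⟩ := fixc hz hz1 x (mem_cent_conj.1 hg)
    exact e ▸ memN hn
  · intro g hg
    obtain ⟨x, rfl⟩ := R.surj g
    obtain ⟨n, hn, -, e⟩ := fixc hz0 hz01 x (mul_inv_eq_iff_eq_mul.2
      (mem_centralizer_iff.1 hg _ ((mem_img π).2 ⟨z0, hAM hz0.1, hz0.1, rfl⟩)).symm)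
    have hnC : n ∈ centralizer (F.A : Set G) := mem_centralizer_iff.2 fun a ha => by
      have hna := (mem_normalizer_iff.1 hn a).1 ha
      have h1 : π ⟨n * a * n⁻¹, hAM hna⟩ = π ⟨a, hAM ha⟩ := by
        rw [show (⟨n * a * n⁻¹, hAM hna⟩ : M) =
          ⟨n, R.normA_le hn⟩ * ⟨a, hAM ha⟩ * ⟨n, R.normA_le hn⟩⁻¹ from rfl, _root_.map_mul,
          _root_.map_mul, map_inv, ← e, mul_inv_eq_iff_eq_mul]
        exact (mem_centralizer_iff.1 hg _ ((mem_img π).2 ⟨a, _, ha, rfl⟩)).symm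
      exact (mul_inv_eq_iff_eq_mul.1 (inj (F.A_le hna) (F.A_le ha) h1)).symm
    obtain ⟨a, ha, o, ho, he⟩ := F.centralizer_A_split n hnC
    have hoL : o ∈ L := R.core_le z0 hz0 hz01 (F.oddCent_le_Oc hloc hz0.1 hz01 ho)
    rw [e, show (⟨n, R.normA_le hn⟩ : M) = ⟨a, hAM ha⟩ * ⟨o, R.L_le hoL⟩ from Subtype.ext he,
      _root_.map_mul, (R.ker ⟨o, R.L_le hoL⟩).2 hoL, mul_one]
    exact (mem_img π).2 ⟨a, _, ha, rfl⟩
  · intro y hy y' hy' hy1 hy'1
    obtain ⟨a, haM, ha, rfl⟩ := (mem_img π).1 hy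
    obtain ⟨b, hbM, hb, rfl⟩ := (mem_img π).1 hy'
    obtain ⟨n, hn, e⟩ := hTA a ha b hb (fun h => hy1 (by subst h; exact _root_.map_one π))
      (fun h => hy'1 (by subst h; exact _root_.map_one π))
    refine ⟨_, memN hn, ?_⟩
    rw [← map_inv, ← _root_.map_mul, ← _root_.map_mul]
    exact congrArg π (Subtype.ext e)
  · let g : ↥(normalizer (F.A : Set G)) →* H := π.comp (inclusion R.normA_le)
    have hrange : g.range = normalizer (A' : Set H) := le_antisymm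
      (by rintro _ ⟨n, rfl⟩; exact memN n.2)
      (fun w hw => by obtain ⟨n, hn, e⟩ := norm_img hw; exact ⟨⟨n, hn⟩, e⟩)
    have hcomap : (normalizer (A' : Set H) ⊓ normalizer ((A' ⊓ B' : Subgroup H) : Set H)).comap g =
        (normalizer (F.A : Set G) ⊓ normalizer ((F.A ⊓ F.B : Subgroup G) : Set G)).subgroupOf
          (normalizer (F.A : Set G)) := by
      ext ⟨n, hn⟩
      constructor
      · intro h
        refine ⟨hn, CfsgLib.CoprimeAction.mem_normalizer_of_conj_mem fun z hz => ?_⟩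
        have hzz : π ⟨z, hAM hz.1⟩ ∈ A' ⊓ B' :=
          ⟨(mem_img π).2 ⟨z, _, hz.1, rfl⟩, (mem_img π).2 ⟨z, _, hz.2, rfl⟩⟩
        obtain ⟨w, hw, ew⟩ := memZ ((mem_normalizer_iff.1 h.2 _).1 hzz)
        have hna := (mem_normalizer_iff.1 hn z).1 hz.1
        have h1 : π ⟨w, hAM hw.1⟩ = π ⟨n * z * n⁻¹, hAM hna⟩ := by
          rw [ew]
          change π ⟨n, R.normA_le hn⟩ * π ⟨z, hAM hz.1⟩ * (π ⟨n, R.normA_le hn⟩)⁻¹ = _
          rw [← map_inv, ← _root_.map_mul, ← _root_.map_mul]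
          rfl
        exact inj (F.A_le hw.1) (F.A_le hna) h1 ▸ hw
      · intro h
        refine ⟨memN hn, CfsgLib.CoprimeAction.mem_normalizer_of_conj_mem fun y hy => ?_⟩
        obtain ⟨z, hz, rfl⟩ := memZ hy
        have hnz := (mem_normalizer_iff.1 h.2 z).1 hz
        change π ⟨n, R.normA_le hn⟩ * π ⟨z, hAM hz.1⟩ * (π ⟨n, R.normA_le hn⟩)⁻¹ ∈ A' ⊓ B'
        rw [← map_inv, ← _root_.map_mul, ← _root_.map_mul]
        exact ⟨(mem_img π).2 ⟨_, _, hnz.1, rfl⟩, (mem_img π).2 ⟨_, _, hnz.2, rfl⟩⟩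
    rw [← hrange, ← index_comap, hrange, hcomap]
    exact hI5

end Frame

end CfsgLib.LinearThreeFourType
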