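/-
A transitive group of odd order on 21 points has no element of order five.
-/
import Cfsg.Agent.S0205
import Cfsg.Agent.Lib.HallClasses.PrimeGraphSolvable
import Mathlib.GroupTheory.GroupAction.Blocks

set_option autoImplicit false

open scoped Pointwise

namespace CfsgLib.LinearThreeFourType

universe u v

/-- A permutation of order dividing five normalizing a transitive abelian group of exponent `p` on
at most 21 points dividing 21 is trivial. -/
theorem perm_eq_one_of_regular {X : Type v} [Finite X] {n : ℕ} (hn : Nat.card X = n) (h21 : n ∣ 21)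
    (h1 : n ≠ 1) {E : Subgroup (Equiv.Perm X)} {p : ℕ} (hp : p.Prime)
    (hcomm : ∀ a ∈ E, ∀ b ∈ E, a * b = b * a) (hexp : ∀ a ∈ E, a ^ p = 1)
    (htr : ∀ x y : X, ∃ e ∈ E, e x = y) {σ : Equiv.Perm X} (hσ5 : σ ^ 5 = 1)
    (hσ : ∀ e ∈ E, σ * e * σ⁻¹ ∈ E) : σ = 1 := by
  have : Nonempty X := by
    by_contra h
    rw [not_nonempty_iff] at h
    rw [Nat.card_of_isEmpty] at hn
    subst hn
    norm_num at h21
  obtain ⟨x0⟩ := this
  have hbij : Function.Bijective (fun e : E => (e : Equiv.Perm X) x0) := by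
    refine ⟨fun a b hab => Subtype.ext (Equiv.ext fun y => ?_), fun y => ?_⟩
    · obtain ⟨c, hc, rfl⟩ := htr x0 y
      have ha := Equiv.ext_iff.1 (hcomm a.1 a.2 c hc) x0
      have hb := Equiv.ext_iff.1 (hcomm b.1 b.2 c hc) x0
      simp only [Equiv.Perm.mul_apply] at ha hb
      rw [ha, hb]
      exact congrArg c hab
    · obtain ⟨c, hc, h⟩ := htr x0 y
      exact ⟨⟨c, hc⟩, h⟩
  have hcard : Nat.card E = n := (Nat.card_eq_of_bijective _ hbij).trans hn
  have : Fact p.Prime := ⟨hp⟩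
  have hpg : IsPGroup p E := fun e => ⟨1, Subtype.ext (by simpa using hexp e.1 e.2)⟩
  obtain ⟨k, hk⟩ := hpg.exists_card_eq
  rw [hcard] at hk
  have hn37 : n = 3 ∨ n = 7 := by
    have hdiv : n ∈ ({1, 3, 7, 21} : Finset ℕ) := by
      have h : n ∈ Nat.divisors 21 := Nat.mem_divisors.2 ⟨h21, by norm_num⟩
      rwa [show Nat.divisors 21 = {1, 3, 7, 21} from by decide] at h
    simp only [Finset.mem_insert, Finset.mem_singleton] at hdiv
    rcases hdiv with h | rfl | rfl | rfl
    · exact absurd h h1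
    · exact Or.inl rfl
    · exact Or.inr rfl
    have e3 : 3 = p :=
      (Nat.prime_dvd_prime_iff_eq Nat.prime_three hp).1
        (Nat.prime_three.dvd_of_dvd_pow (hk ▸ by norm_num : 3 ∣ p ^ k))
    have e7 : 7 = p :=
      (Nat.prime_dvd_prime_iff_eq (by norm_num) hp).1
        ((by norm_num : Nat.Prime 7).dvd_of_dvd_pow (hk ▸ by norm_num : 7 ∣ p ^ k))
    omega
  have hnp : n.Prime := by rcases hn37 with rfl | rfl <;> norm_num
  have : Fact n.Prime := ⟨hnp⟩
  obtain ⟨e, he, hne⟩ : ∃ e ∈ E, e ≠ 1 := E.ne_bot_iff_exists_ne_one.1 (fun h => h1 (by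
    rw [← hcard, h, Subgroup.card_bot])) |>.elim fun e he => ⟨e.1, e.2, fun h => he (Subtype.ext h)⟩
  have hord : orderOf e = n := by
    have hd := orderOf_dvd_natCard (⟨e, he⟩ : E)
    rw [Subgroup.orderOf_mk, hcard] at hd
    exact (hnp.eq_one_or_self_of_dvd _ hd).resolve_left fun h => hne (orderOf_eq_one_iff.1 h)
  have hgen : Subgroup.zpowers e = E := Subgroup.eq_of_le_of_card_ge
    (Subgroup.zpowers_le.2 he) (by rw [Nat.card_zpowers, hord, hcard])
  have hmem : ∀ a ∈ E, ∃ i < n, e ^ i = a := by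
    intro a ha
    rw [← hgen] at ha
    obtain ⟨i, hi⟩ := (mem_powers_iff_mem_zpowers).2 ha
    exact ⟨i % n, Nat.mod_lt _ hnp.pos, by rw [← hord, pow_mod_orderOf]; exact hi⟩
  obtain ⟨m, hm, hme⟩ := hmem _ (hσ e he)
  have hpow : ∀ j : ℕ, σ ^ j * e * (σ ^ j)⁻¹ = e ^ (m ^ j) := by
    intro j
    induction j with
    | zero => simp
    | succ j ih =>
      rw [pow_succ', mul_inv_rev, show σ * σ ^ j * e * ((σ ^ j)⁻¹ * σ⁻¹) =
        σ * (σ ^ j * e * (σ ^ j)⁻¹) * σ⁻¹ by group, ih, ← conj_pow, ← hme, ← pow_mul,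
        ← pow_succ']
  have h5 := hpow 5
  rw [hσ5, one_mul, inv_one, mul_one] at h5
  conv_lhs at h5 => rw [← pow_one e]
  rw [pow_eq_pow_iff_modEq, hord] at h5
  have hm1 : m = 1 := by
    rcases hn37 with rfl | rfl <;> interval_cases m <;> first | rfl | (simp [Nat.ModEq] at h5)
  have hcom : ∀ a ∈ E, σ * a = a * σ := by
    intro a ha
    obtain ⟨i, -, rfl⟩ := hmem a ha
    refine (Commute.pow_right ?_ i : Commute σ (e ^ i))
    rw [hm1, pow_one] at hme
    exact (eq_mul_inv_iff_mul_eq.1 hme).symm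
  obtain ⟨c, hc, hcx⟩ := htr x0 (σ x0)
  have hσc : σ = c := by
    refine Equiv.ext fun y => ?_
    obtain ⟨d, hd, rfl⟩ := htr x0 y
    have h2 := Equiv.ext_iff.1 (hcom d hd) x0
    have h3 := Equiv.ext_iff.1 (hcomm c hc d hd) x0
    simp only [Equiv.Perm.mul_apply] at h2 h3
    rw [h2, h3, hcx]
  rw [← orderOf_eq_one_iff]
  refine Nat.dvd_one.1 ?_
  have h : Nat.gcd 5 n = 1 := by rcases hn37 with rfl | rfl <;> norm_num
  rw [← h]
  refine Nat.dvd_gcd (orderOf_dvd_of_pow_eq_one hσ5) ?_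
  rw [hσc, ← hcard, ← Subgroup.orderOf_mk c hc]
  exact orderOf_dvd_natCard _

/-- A group of odd order with a nontrivial transitive action has a normal subgroup acting
nontrivially as an abelian group of prime exponent. -/
theorem exists_elementary_perm {D : Type u} [Group D] [Finite D] (hodd : Odd (Nat.card D))
    {X : Type v} [Finite X] [MulAction D X] (hne : ∃ g : D, MulAction.toPermHom D X g ≠ 1) :
    ∃ (N : Subgroup D) (p : ℕ), p.Prime ∧ N.Normal ∧
      (∃ n ∈ N, MulAction.toPermHom D X n ≠ 1) ∧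
      (∀ a ∈ N.map (MulAction.toPermHom D X), ∀ b ∈ N.map (MulAction.toPermHom D X),
        a * b = b * a) ∧
      ∀ a ∈ N.map (MulAction.toPermHom D X), a ^ p = 1 := by
  set ρ := MulAction.toPermHom D X
  have : Group.IsSolvable ρ.range := Cfsg.Agent.S0205.result
    (hodd.of_dvd_nat (Subgroup.card_range_dvd ρ))
  obtain ⟨g, hg⟩ := hne
  have : Nontrivial ρ.range := ⟨⟨ρ g, ⟨g, rfl⟩⟩, 1, fun h => hg (congrArg Subtype.val h)⟩
  obtain ⟨p, E, hp, hEn, hE1, hEc, hEp⟩ :=
    CfsgLib.HallClasses.exists_normal_elementary (G := ρ.range)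
  refine ⟨E.comap ρ.rangeRestrict, p, hp, inferInstance, ?_, ?_, ?_⟩
  · obtain ⟨e, he⟩ := E.ne_bot_iff_exists_ne_one.1 hE1
    obtain ⟨n, hn⟩ := ρ.rangeRestrict_surjective e.1
    refine ⟨n, by rw [Subgroup.mem_comap, hn]; exact e.2, fun h => he (Subtype.ext ?_)⟩
    rw [← hn]
    exact Subtype.ext h
  · rintro _ ⟨a, ha, rfl⟩ _ ⟨b, hb, rfl⟩
    have h := hEc.is_comm.comm (⟨_, ha⟩ : E) ⟨_, hb⟩
    exact congrArg (fun z : E => ((z : ρ.range) : Equiv.Perm X)) h
  · rintro _ ⟨a, ha, rfl⟩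
    exact congrArg Subtype.val (hEp _ ha)

theorem fix_of_pow_five (n : ℕ) : ∀ (D : Type u) [Group D] [Finite D], Odd (Nat.card D) →
    ∀ (X : Type v) [Finite X] [MulAction D X], MulAction.IsPretransitive D X →
    Nat.card X = n → n ∣ 21 → ∀ g : D, g ^ 5 = 1 → ∀ x : X, g • x = x := by
  induction n using Nat.strong_induction_on with
  | _ n ih => ?_
  intro D _ _ hodd X _ _ htr hcard h21 g hg x
  set ρ := MulAction.toPermHom D X with hρ
  by_cases hg1 : ρ g = 1
  · exact Equiv.ext_iff.1 hg1 x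
  obtain ⟨N, p, hp, hN, ⟨a, haN, ha1⟩, hcomm, hexp⟩ := exists_elementary_perm hodd ⟨g, hg1⟩
  set B := MulAction.orbit N x with hBdef
  have hB : MulAction.IsBlock D B := MulAction.IsBlock.orbit_of_normal x
  have hxB : x ∈ B := MulAction.mem_orbit_self x
  have hmul := hB.ncard_block_mul_ncard_orbit_eq ⟨x, hxB⟩
  rw [hcard] at hmul
  have hn0 : 0 < n := Nat.pos_of_dvd_of_pos h21 (by norm_num)
  have hb1 : 1 < B.ncard := by
    obtain ⟨y, hy⟩ : ∃ y, a • y ≠ y := by
      by_contra! h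
      exact ha1 (Equiv.ext h)
    obtain ⟨c, rfl⟩ := htr.exists_smul_eq x y
    refine (Set.one_lt_ncard (Set.toFinite B)).2 ⟨x, hxB, (c⁻¹ * a * c) • x,
      ⟨⟨_, ?_⟩, rfl⟩, fun h => hy ?_⟩
    · simpa using hN.conj_mem a haN c⁻¹
    · have h' := congrArg (c • ·) h
      simpa [mul_smul] using h'.symm
  rcases Nat.lt_or_ge B.ncard n with hlt | hge
  · have hm : (MulAction.orbit D B).ncard < n := by
      have : 0 < (MulAction.orbit D B).ncard :=
        (Set.ncard_pos (Set.toFinite _)).2 ⟨B, MulAction.mem_orbit_self B⟩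
      nlinarith
    have hgB : g • B = B := congrArg Subtype.val (ih _ hm D hodd (MulAction.orbit D B)
      inferInstance (Nat.card_coe_set_eq _) ((Dvd.intro_left _ hmul).trans h21) g hg
      ⟨B, MulAction.mem_orbit_self B⟩)
    let act : MulAction (MulAction.stabilizer D B) B :=
      { smul := fun h b => ⟨(h : D) • (b : X), by
          have h1 : (h : D) • (b : X) ∈ (h : D) • B := Set.smul_mem_smul_set b.2
          rwa [MulAction.mem_stabilizer_iff.1 h.2] at h1⟩
        one_smul := fun b => Subtype.ext (one_smul D (b : X))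
        mul_smul := fun h k b => Subtype.ext (mul_smul (h : D) (k : D) (b : X)) }
    have htrB : MulAction.IsPretransitive (MulAction.stabilizer D B) B := by
      refine ⟨fun y z => ?_⟩
      obtain ⟨c, hc⟩ : ∃ c : N, c • (y : X) = z := by
        obtain ⟨c1, hc1⟩ := y.2
        obtain ⟨c2, hc2⟩ := z.2
        refine ⟨c2 * c1⁻¹, ?_⟩
        rw [mul_smul, ← hc1, inv_smul_smul]
        exact hc2
      refine ⟨⟨c.1, MulAction.mem_stabilizer_iff.2 ?_⟩, Subtype.ext hc⟩
      refine ((MulAction.isBlock_iff_smul_eq_or_disjoint.1 hB c.1).resolve_right ?_)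
      exact Set.not_disjoint_iff.2 ⟨z, hc ▸ Set.smul_mem_smul_set y.2, z.2⟩
    exact congrArg Subtype.val (ih _ hlt (MulAction.stabilizer D B)
      (hodd.of_dvd_nat (Subgroup.card_subgroup_dvd_card _)) B htrB (Nat.card_coe_set_eq B)
      ((Dvd.intro _ hmul).trans h21) ⟨g, hgB⟩ (Subtype.ext hg) ⟨x, hxB⟩)
  · exfalso
    have hBu : B = Set.univ := Set.eq_univ_of_forall fun y => by
      have h := Set.eq_of_subset_of_ncard_le (Set.subset_univ B)
        (by rw [Set.ncard_univ, hcard]; exact hge)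
      rw [h]; trivial
    refine hg1 (perm_eq_one_of_regular hcard h21 (by
      have := Set.ncard_le_card (s := B)
      omega) hp hcomm hexp ?_ (by rw [← map_pow, hg, map_one]) ?_)
    · intro y z
      obtain ⟨c1, hc1⟩ : y ∈ B := hBu ▸ Set.mem_univ y
      obtain ⟨c2, hc2⟩ : z ∈ B := hBu ▸ Set.mem_univ z
      refine ⟨ρ (c2 * c1⁻¹ : N), Subgroup.mem_map_of_mem _ (c2 * c1⁻¹ : N).2, ?_⟩
      show (c2 * c1⁻¹) • y = z
      rw [mul_smul, ← hc1, inv_smul_smul]
      exact hc2
    · rintro _ ⟨c, hc, rfl⟩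
      exact ⟨g * c * g⁻¹, hN.conj_mem c hc g, by rw [map_mul, map_mul, map_inv]⟩

/-- A faithful transitive group of odd order on 21 points has order prime to five. -/
theorem five_not_dvd_of_transitive_twentyOne {D : Type u} [Group D] [Finite D]
    (hodd : Odd (Nat.card D)) {X : Type v} [Finite X] [MulAction D X] [FaithfulSMul D X]
    [MulAction.IsPretransitive D X] (hX : Nat.card X = 21) : ¬ 5 ∣ Nat.card D := by
  intro h
  have : Fact (Nat.Prime 5) := ⟨by norm_num⟩
  obtain ⟨g, hg⟩ := exists_prime_orderOf_dvd_card' 5 h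
  have hfix := fix_of_pow_five 21 D hodd X inferInstance hX dvd_rfl g (hg ▸ pow_orderOf_eq_one g)
  have h1 : g = 1 := eq_of_smul_eq_smul (α := X) fun x => by rw [hfix x, one_smul]
  rw [h1, orderOf_one] at hg
  omega

end CfsgLib.LinearThreeFourType
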