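/-
Consequences of trivial cores when neither automiser fixes the centre: one class of involutions,
self-centralising elementary abelian subgroups, no subgroup of index two.
-/
import Cfsg.Agent.Lib.LinearThreeFourType.Setting
import Cfsg.Agent.Lib.Involutions.Isolated
import Mathlib.GroupTheory.Transfer

set_option linter.style.haveILetI false

set_option autoImplicit false

namespace CfsgLib.LinearThreeFourType

open Subgroup Cfsg CfsgLib.AEightThreeClasses

universe u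

variable {G : Type u} [Group G]

theorem Loc.mono {N N' : Subgroup G} {x : G} (h : Loc N x) (hle : N ≤ N') : Loc N' x := fun g hg =>
  let ⟨o, ho, n, hn, e⟩ := h g hg
  ⟨o, ho, n, hle hn, e⟩

variable [Finite G]

theorem Loc.conj {N : Subgroup G} {x n : G} (h : Loc N x) (hn : n ∈ N) : Loc N (n * x * n⁻¹) := by
  intro g hg
  have hg' : n⁻¹ * g * n ∈ centralizer ({x} : Set G) := by
    rw [mem_cent] at hg ⊢
    calc n⁻¹ * g * n * x = n⁻¹ * (g * (n * x * n⁻¹)) * n := by group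
      _ = n⁻¹ * (n * x * n⁻¹ * g) * n := by rw [hg]
      _ = _ := by group
  obtain ⟨o, ho, m, hm, he⟩ := h _ hg'
  refine ⟨n * o * n⁻¹, conj_mem_Oc n ho, n * m * n⁻¹, mul_mem (mul_mem hn hm) (inv_mem hn), ?_⟩
  rw [show n * o * n⁻¹ * (n * m * n⁻¹) = n * (o * m) * n⁻¹ by group, ← he]
  group

namespace Frame

variable (F : Frame G)

omit [Finite G] in
theorem exists_mem_Z : ∃ z ∈ F.A ⊓ F.B, z ≠ 1 := by
  have h : F.A ⊓ F.B ≠ ⊥ := fun e => by
    have := F.card_Z
    rw [e, card_bot] at this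
    omega
  obtain ⟨⟨z, hz⟩, hz1⟩ := ne_bot_iff_exists_ne_one.1 h
  exact ⟨z, hz, fun e => hz1 (Subtype.ext e)⟩

/-- If `A` carries one orbit and the central elements are local, every element of `A` is local. -/
theorem loc_of_trans (hZ : ∀ z ∈ F.A ⊓ F.B, z ≠ 1 → Loc (normalizer (F.A : Set G)) z)
    (hT : ∀ a ∈ F.A, ∀ a' ∈ F.A, a ≠ 1 → a' ≠ 1 →
      ∃ n ∈ normalizer (F.A : Set G), n * a * n⁻¹ = a') :
    ∀ a ∈ F.A, a ≠ 1 → Loc (normalizer (F.A : Set G)) a := by
  intro a ha ha1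
  obtain ⟨z, hz, hz1⟩ := F.exists_mem_Z
  obtain ⟨n, hn, rfl⟩ := hT z hz.1 a ha hz1 ha1
  exact (hZ z hz hz1).conj hn

/-- One class of involutions. -/
theorem isConj_of_trans
    (hTA : ∀ a ∈ F.A, ∀ a' ∈ F.A, a ≠ 1 → a' ≠ 1 →
      ∃ n ∈ normalizer (F.A : Set G), n * a * n⁻¹ = a')
    (hTB : ∀ a ∈ F.B, ∀ a' ∈ F.B, a ≠ 1 → a' ≠ 1 →
      ∃ n ∈ normalizer (F.B : Set G), n * a * n⁻¹ = a') :
    ∀ x y : G, orderOf x = 2 → orderOf y = 2 → IsConj x y := by
  obtain ⟨z, hz, hz1⟩ := F.exists_mem_Z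
  have key : ∀ x : G, orderOf x = 2 → IsConj z x := by
    intro x hx
    obtain ⟨g, hg⟩ := CfsgLib.Involutions.exists_conj_mem_of_involution F.S hx
    have ho : orderOf (g * x * g⁻¹) = 2 := by rw [CfsgLib.Involutions.orderOf_conj, hx]
    have h1 : g * x * g⁻¹ ≠ 1 := CfsgLib.Involutions.ne_one ho
    refine IsConj.trans ?_ (isConj_iff.2 ⟨g, rfl⟩ : IsConj x (g * x * g⁻¹)).symm
    rcases F.invol _ hg (CfsgLib.Involutions.mul_self_eq_one ho) with h | h
    · obtain ⟨n, -, hn⟩ := hTA z hz.1 _ h hz1 h1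
      exact isConj_iff.2 ⟨n, hn⟩
    · obtain ⟨n, -, hn⟩ := hTB z hz.2 _ h hz1 h1
      exact isConj_iff.2 ⟨n, hn⟩
  exact fun x y hx hy => (key x hx).symm.trans (key y hy)

/-- With one class of involutions there is no subgroup of index two. -/
theorem index_ne_two (F : Frame G) (hone : ∀ x y : G, orderOf x = 2 → orderOf y = 2 → IsConj x y)
    (H : Subgroup G) : H.index ≠ 2 := by
  intro hH
  haveI := normal_of_index_eq_two hH
  -- `H` contains an involution, hence all of them, hence `S`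
  have hZH : ∀ z ∈ F.A, z ∈ H := by
    have hex : ∃ a ∈ F.A, a ≠ 1 ∧ a ∈ H := by
      obtain ⟨a, ha, a', ha', hne, ha1, ha1'⟩ : ∃ a ∈ F.A, ∃ a' ∈ F.A, a ≠ a' ∧ a ≠ 1 ∧ a' ≠ 1 := by
        haveI := Fintype.ofFinite F.A
        have h16 : 2 < Fintype.card F.A := by rw [← Nat.card_eq_fintype_card, F.card_A]; norm_num
        obtain ⟨x, y, w, hxy, hxw, hyw⟩ := Fintype.two_lt_card_iff.1 h16
        have e : ∀ u v : F.A, u ≠ v → (u : G) ≠ v := fun u v h e => h (Subtype.ext e)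
        by_cases hx : (x : G) = 1
        · exact ⟨y, y.2, w, w.2, e _ _ hyw, fun h => e _ _ hxy (hx.trans h.symm),
            fun h => e _ _ hxw (hx.trans h.symm)⟩
        by_cases hy : (y : G) = 1
        · exact ⟨x, x.2, w, w.2, e _ _ hxw, hx, fun h => e _ _ hyw (hy.trans h.symm)⟩
        exact ⟨x, x.2, y, y.2, e _ _ hxy, hx, hy⟩
      by_cases h1 : a ∈ H
      · exact ⟨a, ha, ha1, h1⟩
      by_cases h2 : a' ∈ H
      · exact ⟨a', ha', ha1', h2⟩
      refine ⟨a * a', mul_mem ha ha', fun e => hne ?_, ?_⟩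
      · rw [eq_inv_of_mul_eq_one_left e, inv_eq_of_mul_eq_one_right (F.A_sq ha')]
      · rw [mul_mem_iff_of_index_two hH]
        exact iff_of_false h1 h2
    obtain ⟨a, ha, ha1, haH⟩ := hex
    intro z hz
    by_cases hz1 : z = 1
    · exact hz1 ▸ H.one_mem
    obtain ⟨g, hg⟩ := isConj_iff.1 (hone a z
      (CfsgLib.Involutions.orderOf_eq_two_iff.2 ⟨F.A_sq ha, ha1⟩)
      (CfsgLib.Involutions.orderOf_eq_two_iff.2 ⟨F.A_sq hz, hz1⟩))
    exact hg ▸ (inferInstance : H.Normal).conj_mem a haH g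
  have hBH : ∀ b ∈ F.B, b ∈ H := by
    obtain ⟨z, hz, hz1⟩ := F.exists_mem_Z
    intro b hb
    by_cases hb1 : b = 1
    · exact hb1 ▸ H.one_mem
    obtain ⟨g, hg⟩ := isConj_iff.1 (hone z b
      (CfsgLib.Involutions.orderOf_eq_two_iff.2 ⟨F.A_sq hz.1, hz1⟩)
      (CfsgLib.Involutions.orderOf_eq_two_iff.2 ⟨F.B_sq hb, hb1⟩))
    exact hg ▸ (inferInstance : H.Normal).conj_mem z (hZH z hz.1) g
  have hSH : (F.S : Subgroup G) ≤ H := F.sup_eq ▸ sup_le hZH hBH
  haveI : Fact (Nat.Prime 2) := ⟨Nat.prime_two⟩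
  refine F.S.not_dvd_index ?_
  rw [← relIndex_mul_index hSH, hH]
  exact dvd_mul_left 2 _

/-- With trivial cores of the central involutions, `A` is self-centralising. -/
theorem centralizer_A_le
    (hcent : ∀ z ∈ F.A ⊓ F.B, z ≠ 1 → centralizer ({z} : Set G) ≤
      normalizer (F.A : Set G) ⊓ normalizer (F.B : Set G))
    (hcore : ∀ z ∈ F.A ⊓ F.B, z ≠ 1 → Oc z = ⊥) : centralizer (F.A : Set G) ≤ F.A := by
  haveI : Fact (Nat.Prime 2) := ⟨Nat.prime_two⟩
  obtain ⟨z, hz, hz1⟩ := F.exists_mem_Z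
  set C := centralizer ({z} : Set G) with hC
  have hSC : (F.S : Subgroup G) ≤ C := fun s hs => mem_cent.2 (F.central z hz s hs)
  have hCS : C ≤ normalizer ((F.S : Subgroup G) : Set G) := fun c hc => by
    refine CfsgLib.CoprimeAction.mem_normalizer_of_conj_mem fun s hs => ?_
    rw [← F.sup_eq] at hs ⊢
    have hle : F.A ⊔ F.B ≤ (F.A ⊔ F.B).comap (MulAut.conj c).toMonoidHom :=
      sup_le (fun a ha => mem_sup_left ((mem_normalizer_iff.1 (hcent z hz hz1 hc).1 a).1 ha))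
        (fun b hb => mem_sup_right ((mem_normalizer_iff.1 (hcent z hz hz1 hc).2 b).1 hb))
    exact hle hs
  set Cc := centralizer (F.A : Set G) with hCc
  have hCcC : Cc ≤ C := fun c hc => mem_cent.2 (mem_centralizer_iff.1 hc z hz.1).symm
  have hn : C ≤ normalizer (Cc : Set G) := fun c hc => by
    refine CfsgLib.CoprimeAction.mem_normalizer_of_conj_mem fun x hx => ?_
    refine mem_centralizer_iff.2 fun a ha => ?_
    have h := mem_centralizer_iff.1 hx _ ((mem_normalizer_iff''.1 (hcent z hz hz1 hc).1 a).1 ha)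
    calc a * (c * x * c⁻¹) = c * ((c⁻¹ * a * c) * x) * c⁻¹ := by group
      _ = c * (x * (c⁻¹ * a * c)) * c⁻¹ := by rw [h]
      _ = c * x * c⁻¹ * a := by group
  have hAC : F.A ≤ Cc := fun a ha => mem_centralizer_iff.2 fun a' ha' => F.A_comm ha' ha
  -- the odd core is trivial
  have hO : oddCore ↥Cc = ⊥ := by
    have hle : (oddCore ↥Cc).map Cc.subtype ≤ Oc z := by
      refine le_Oc ((map_subtype_le _).trans hCcC) (hn.trans ?_) ?_
      · exact CfsgLib.Cores.normalizer_le_normalizer_map_subtype _ _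
      · rw [card_map_of_injective Cc.subtype_injective]; exact CfsgLib.Cores.odd_card_oddCore
    rw [hcore z hz hz1, le_bot_iff, map_eq_bot_iff_of_injective _ Cc.subtype_injective] at hle
    exact hle
  -- a Sylow subgroup is `A`, central
  obtain ⟨R⟩ : Nonempty (Sylow 2 ↥Cc) := inferInstance
  obtain ⟨a₀, ha₀, ha₀B⟩ : ∃ a ∈ F.A, a ∉ F.B := by
    by_contra! h
    have := card_le_of_le (le_inf le_rfl h : F.A ≤ F.A ⊓ F.B)
    rw [F.card_A, F.card_Z] at this
    omega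
  have hRA : ∀ x : ↥Cc, x ∈ (R : Subgroup ↥Cc) → (x : G) ∈ F.A := by
    intro x hx
    have hp : IsPGroup 2 ↥((R : Subgroup ↥Cc).map Cc.subtype ⊔ (F.S : Subgroup G)) :=
      (R.2.map Cc.subtype).to_sup_of_normal_right' F.S.2 (by
        rintro _ ⟨y, -, rfl⟩
        exact hCS (hCcC y.2))
    obtain ⟨S', hS'⟩ := hp.exists_le_sylow
    have he : (F.S : Subgroup G) = S' := eq_of_le_of_card_ge (le_sup_right.trans hS')
      (le_of_eq (Nat.card_congr (S'.equiv F.S).toEquiv))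
    have hxS : (x : G) ∈ (F.S : Subgroup G) := by
      rw [he]; exact hS' (mem_sup_left ⟨x, hx, rfl⟩)
    exact F.cent_A a₀ ha₀ ha₀B _ hxS (mem_centralizer_iff.1 x.2 a₀ ha₀).symm
  have hR : normalizer ((R : Subgroup ↥Cc) : Set ↥Cc) ≤ centralizer ((R : Subgroup ↥Cc) : Set ↥Cc) :=
    fun n _ => mem_centralizer_iff.2 fun x hx =>
      Subtype.ext (mem_centralizer_iff.1 n.2 _ (hRA x hx))
  have hcomp := MonoidHom.ker_transferSylow_isComplement' R hR
  set K := (MonoidHom.transferSylow R hR).ker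
  have hK : K ≤ oddCore ↥Cc := by
    refine CfsgLib.Cores.le_oddCore ?_
    rw [← Nat.not_even_iff_odd, even_iff_two_dvd]
    exact MonoidHom.not_dvd_card_ker_transferSylow R hR
  rw [hO, le_bot_iff] at hK
  intro c hc
  have hc' : (⟨c, hc⟩ : ↥Cc) ∈ (R : Subgroup ↥Cc) := by
    have h1 := hcomp.sup_eq_top
    rw [hK, bot_sup_eq] at h1
    rw [h1]; exact mem_top _
  exact hRA _ hc'

end Frame

end CfsgLib.LinearThreeFourType
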