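/-
The projective plane of order four when both automisers are transitive and the centralisers of the
central involutions are local.
-/
import Cfsg.Agent.Lib.LinearThreeFourType.Global
import Cfsg.Agent.Lib.TwoFusion.StrongEmbed
import Cfsg.Agent.Lib.ExtraspecialLarge.Hyperoval
import Cfsg.Prelude.Def_Sporadic_a

set_option autoImplicit false
set_option linter.style.haveILetI false

namespace CfsgLib.LinearThreeFourType

open Subgroup Cfsg CfsgLib.AEightThreeClasses CfsgLib.Involutions CfsgLib.ExtraspecialLarge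
open scoped Pointwise

universe u

variable {G : Type u} [Group G]

/-- The local hypotheses giving a plane. -/
structure PlaneHyp (F : Frame G) : Prop where
  /-- centralisers of central involutions normalise both subgroups -/
  cent : ∀ z ∈ F.A ⊓ F.B, z ≠ 1 → centralizer ({z} : Set G) ≤
    normalizer (F.A : Set G) ⊓ normalizer (F.B : Set G)
  /-- `A` is self-centralising -/
  selfA : centralizer (F.A : Set G) ≤ F.A
  /-- `B` is self-centralising -/
  selfB : centralizer (F.B : Set G) ≤ F.B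
  /-- one orbit on `A` -/
  transA : ∀ a ∈ F.A, ∀ a' ∈ F.A, a ≠ 1 → a' ≠ 1 →
    ∃ n ∈ normalizer (F.A : Set G), n * a * n⁻¹ = a'
  /-- one orbit on `B` -/
  transB : ∀ a ∈ F.B, ∀ a' ∈ F.B, a ≠ 1 → a' ≠ 1 →
    ∃ n ∈ normalizer (F.B : Set G), n * a * n⁻¹ = a'
  /-- five images of the centre in `A` -/
  fiveA : (normalizer (F.A : Set G) ⊓ normalizer ((F.A ⊓ F.B : Subgroup G) : Set G)).relIndex
    (normalizer (F.A : Set G)) = 5
  /-- five images of the centre in `B` -/
  fiveB : (normalizer (F.B : Set G) ⊓ normalizer ((F.A ⊓ F.B : Subgroup G) : Set G)).relIndex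
    (normalizer (F.B : Set G)) = 5
  /-- the part of `N(A)` normalising the centre normalises `B` -/
  normA : normalizer (F.A : Set G) ⊓ normalizer ((F.A ⊓ F.B : Subgroup G) : Set G) ≤
    normalizer (F.B : Set G)
  /-- the part of `N(B)` normalising the centre normalises `A` -/
  normB : normalizer (F.B : Set G) ⊓ normalizer ((F.A ⊓ F.B : Subgroup G) : Set G) ≤
    normalizer (F.A : Set G)

theorem PlaneHyp.symm {F : Frame G} (h : PlaneHyp F) : PlaneHyp F.symm := by
  refine ⟨fun z hz hz1 => le_of_le_of_eq (h.cent z ⟨hz.2, hz.1⟩ hz1) (inf_comm _ _), h.selfB,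
    h.selfA, h.transB, h.transA, ?_, ?_, ?_, ?_⟩
  · show (normalizer (F.B : Set G) ⊓ normalizer ((F.B ⊓ F.A : Subgroup G) : Set G)).relIndex _ = 5
    rw [inf_comm F.B F.A]; exact h.fiveB
  · show (normalizer (F.A : Set G) ⊓ normalizer ((F.B ⊓ F.A : Subgroup G) : Set G)).relIndex _ = 5
    rw [inf_comm F.B F.A]; exact h.fiveA
  · show normalizer (F.B : Set G) ⊓ normalizer ((F.B ⊓ F.A : Subgroup G) : Set G) ≤ _
    rw [inf_comm F.B F.A]; exact h.normB
  · show normalizer (F.A : Set G) ⊓ normalizer ((F.B ⊓ F.A : Subgroup G) : Set G) ≤ _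
    rw [inf_comm F.B F.A]; exact h.normA

namespace Plane

/-- The conjugate of `V` belonging to a coset of its normaliser. -/
noncomputable def pt (V : Subgroup G) (p : G ⧸ normalizer (V : Set G)) : Subgroup G :=
  V.map (MulAut.conj p.out).toMonoidHom

theorem mem_map_conj {V : Subgroup G} {g x : G} :
    x ∈ V.map (MulAut.conj g).toMonoidHom ↔ g⁻¹ * x * g ∈ V :=
  ⟨fun ⟨y, hy, e⟩ => by rw [← e]; simpa [mul_assoc] using hy,
    fun h => ⟨_, h, by simp [mul_assoc]⟩⟩

theorem mem_pt_mk {V : Subgroup G} {g z : G} :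
    z ∈ pt V (QuotientGroup.mk g) ↔ g⁻¹ * z * g ∈ V := by
  rw [pt, mem_map_conj]
  set o := (QuotientGroup.mk g : G ⧸ normalizer (V : Set G)).out
  have ho : o⁻¹ * g ∈ normalizer (V : Set G) :=
    QuotientGroup.eq.1 (QuotientGroup.out_eq' _)
  rw [(mem_normalizer_iff''.1 ho (o⁻¹ * z * o))]
  simp [mul_assoc]

theorem mem_pt_smul {V : Subgroup G} {p : G ⧸ normalizer (V : Set G)} (g : G) {z : G} :
    g * z * g⁻¹ ∈ pt V (g • p) ↔ z ∈ pt V p := by
  obtain ⟨a, rfl⟩ := QuotientGroup.mk_surjective p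
  rw [show g • (QuotientGroup.mk a : G ⧸ normalizer (V : Set G)) = QuotientGroup.mk (g * a) from rfl,
    mem_pt_mk, mem_pt_mk]
  simp [mul_assoc]

theorem pt_base (V : Subgroup G) : pt V (QuotientGroup.mk 1) = V := by
  ext z; rw [mem_pt_mk]; simp

theorem smul_base_eq_iff {V : Subgroup G} {g : G} :
    (QuotientGroup.mk g : G ⧸ normalizer (V : Set G)) = QuotientGroup.mk 1 ↔
      g ∈ normalizer (V : Set G) := by
  rw [QuotientGroup.eq, mul_one, inv_mem_iff]

theorem smul_mk_eq_iff {H : Subgroup G} {g a : G} :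
    g • (QuotientGroup.mk a : G ⧸ H) = QuotientGroup.mk a ↔ a⁻¹ * g * a ∈ H := by
  rw [eq_comm, MulAction.Quotient.smul_mk, QuotientGroup.eq]
  simp [mul_assoc]

/-- Incidence. -/
def Inc (F : Frame G) (p : G ⧸ normalizer (F.A : Set G)) (l : G ⧸ normalizer (F.B : Set G)) :
    Prop :=
  ∃ z : G, z ≠ 1 ∧ z ∈ pt F.A p ∧ z ∈ pt F.B l

theorem Inc.swap {F : Frame G} {p : G ⧸ normalizer (F.A : Set G)}
    {l : G ⧸ normalizer (F.B : Set G)} (h : Inc F p l) : Inc F.symm l p :=
  let ⟨z, h1, h2, h3⟩ := h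
  ⟨z, h1, h3, h2⟩

theorem inc_swap_iff {F : Frame G} {p : G ⧸ normalizer (F.A : Set G)}
    {l : G ⧸ normalizer (F.B : Set G)} : Inc F.symm l p ↔ Inc F p l :=
  ⟨fun ⟨z, h1, h2, h3⟩ => ⟨z, h1, h3, h2⟩, Inc.swap⟩

theorem inc_smul {F : Frame G} {p : G ⧸ normalizer (F.A : Set G)}
    {l : G ⧸ normalizer (F.B : Set G)} (g : G) (h : Inc F p l) : Inc F (g • p) (g • l) := by
  obtain ⟨z, hz, h1, h2⟩ := h
  exact ⟨g * z * g⁻¹, fun e => hz (conj_eq_one_iff.1 e), (mem_pt_smul g).2 h1, (mem_pt_smul g).2 h2⟩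

theorem inc_smul_iff {F : Frame G} {p : G ⧸ normalizer (F.A : Set G)}
    {l : G ⧸ normalizer (F.B : Set G)} (g : G) : Inc F (g • p) (g • l) ↔ Inc F p l :=
  ⟨fun h => by simpa using inc_smul g⁻¹ h, inc_smul g⟩

theorem sq_of_mem_pt {F : Frame G} {p : G ⧸ normalizer (F.A : Set G)} {z : G}
    (h : z ∈ pt F.A p) : z * z = 1 := by
  obtain ⟨a, ha, rfl⟩ := h
  rw [← map_mul, F.A_sq ha, map_one]

theorem A_le_normalizer (F : Frame G) : F.A ≤ normalizer (F.A : Set G) := le_normalizer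

/-! ### Arithmetic of small permutation groups -/

theorem card_perm_ne_fifteen {α : Type*} [Finite α] (hα : Nat.card α = 5)
    (Y : Subgroup (Equiv.Perm α)) : Nat.card Y ≠ 15 := by
  intro h15
  haveI : Fact (Nat.Prime 3) := ⟨Nat.prime_three⟩
  haveI : Fact (Nat.Prime 5) := ⟨Nat.prime_five⟩
  obtain ⟨x, hx⟩ := exists_prime_orderOf_dvd_card' (G := Y) 5 (by omega)
  obtain ⟨y, hy⟩ := exists_prime_orderOf_dvd_card' (G := Y) 3 (by omega)
  have hnormal : ∀ (p : ℕ) [Fact p.Prime] (w : Y), orderOf w = p →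
      (∀ d, d ∣ 15 / p → d ≡ 1 [MOD p] → d = 1) → p ∣ 15 → ¬ p ∣ 15 / p →
      (zpowers w).Normal := by
    intro p hp w hw hd hp15 hndvd
    let P : Sylow p Y := Sylow.ofCard (zpowers w) (by
      rw [Nat.card_zpowers, hw, h15]
      obtain ⟨c, hc⟩ := hp15
      have hc' : 15 / p = c := by rw [hc, Nat.mul_div_cancel_left _ hp.out.pos]
      have hc0 : c ≠ 0 := by rintro rfl; simp at hc
      rw [hc, Nat.factorization_mul hp.out.ne_zero hc0, Finsupp.add_apply,
        hp.out.factorization_self, Nat.factorization_eq_zero_of_not_dvd (hc' ▸ hndvd), add_zero,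
        pow_one])
    have h1 : Nat.card (Sylow p Y) = 1 := by
      refine hd _ ?_ (card_sylow_modEq_one p Y)
      have h2 := P.card_dvd_index
      have h3 := (P : Subgroup Y).index_mul_card
      rw [show Nat.card (P : Subgroup Y) = p from (Nat.card_zpowers w).trans hw, h15] at h3
      rwa [← h3, Nat.mul_div_cancel _ hp.out.pos]
    have : Subsingleton (Sylow p Y) := (Nat.card_eq_one_iff_unique.1 h1).1
    exact Sylow.normal_of_subsingleton P
  have h5 : (zpowers x).Normal := hnormal 5 x hx (fun d hd h1 => by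
    have := Nat.le_of_dvd (by norm_num) hd
    interval_cases d <;> first | rfl | (exfalso; revert h1; decide))
    (by norm_num) (by norm_num)
  have h3 : (zpowers y).Normal := hnormal 3 y hy (fun d hd h1 => by
    have := Nat.le_of_dvd (by norm_num) hd
    interval_cases d <;> first | rfl | (exfalso; revert h1; decide) | (exfalso; norm_num at hd))
    (by norm_num) (by norm_num)
  have hc : Commute x y := by
    refine commute_of_normal_of_disjoint _ _ h5 h3 ?_ x y (mem_zpowers x) (mem_zpowers y)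
    refine disjoint_of_coprime_natCard ?_
    rw [Nat.card_zpowers, Nat.card_zpowers, hx, hy]; norm_num
  obtain ⟨σ, hσ⟩ : ∃ σ : Equiv.Perm α, σ = (x : Equiv.Perm α) := ⟨_, rfl⟩
  obtain ⟨τ, hτ⟩ : ∃ τ : Equiv.Perm α, τ = (y : Equiv.Perm α) := ⟨_, rfl⟩
  have hσo : orderOf σ = 5 := by rw [hσ, orderOf_coe, hx]
  have hτo : orderOf τ = 3 := by rw [hτ, orderOf_coe, hy]
  have hp5 : IsPGroup 5 ↥(zpowers σ) :=
    IsPGroup.of_card (n := 1) (by rw [Nat.card_zpowers, hσo, pow_one])
  have hp3 : IsPGroup 3 ↥(zpowers τ) :=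
    IsPGroup.of_card (n := 1) (by rw [Nat.card_zpowers, hτo, pow_one])
  -- a point fixed by `τ`
  obtain ⟨a, ha⟩ : ∃ a : α, τ a = a := by
    have h := hp3.card_modEq_card_fixedPoints α
    rw [hα] at h
    have hne : Nonempty (MulAction.fixedPoints (zpowers τ) α) := by
      by_contra he
      rw [not_nonempty_iff] at he
      rw [Nat.card_of_isEmpty] at h
      revert h; decide
    obtain ⟨⟨a, ha⟩⟩ := hne
    exact ⟨a, ha ⟨τ, mem_zpowers τ⟩⟩
  -- `σ` fixes nothing, so one orbit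
  have horb : (MulAction.orbit (zpowers σ) a).ncard = 5 := by
    have hdvd : (MulAction.orbit (zpowers σ) a).ncard ∣ 5 := by
      rw [← MulAction.index_stabilizer, ← hσo, ← Nat.card_zpowers]
      exact index_dvd_card _
    rcases (Nat.dvd_prime Nat.prime_five).1 hdvd with h | h
    · exfalso
      have h1 := hp5.card_modEq_card_fixedPoints α
      rw [hα] at h1
      have hle : Nat.card (MulAction.fixedPoints (zpowers σ) α) ≤ 5 :=
        hα ▸ Nat.card_le_card_of_injective _ Subtype.val_injective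
      have hpos : 0 < Nat.card (MulAction.fixedPoints (zpowers σ) α) := by
        haveI : Nonempty (MulAction.fixedPoints (zpowers σ) α) := ⟨⟨a, fun s => by
          obtain ⟨b, hb⟩ := Set.ncard_eq_one.1 h
          have h2 : s • a ∈ MulAction.orbit (zpowers σ) a := MulAction.mem_orbit a s
          have h3 := MulAction.mem_orbit_self (M := zpowers σ) a
          rw [hb, Set.mem_singleton_iff] at h2 h3
          exact h2.trans h3.symm⟩⟩
        exact Nat.card_pos
      have h5' : Nat.card (MulAction.fixedPoints (zpowers σ) α) = 5 := by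
        rw [Nat.ModEq] at h1; omega
      have hall : ∀ b : α, σ b = b := by
        intro b
        have : MulAction.fixedPoints (zpowers σ) α = Set.univ :=
          Set.eq_of_subset_of_ncard_le (Set.subset_univ _)
            (by rw [Set.ncard_univ, hα, ← Nat.card_coe_set_eq, h5'])
        exact (this.ge (Set.mem_univ b)) ⟨σ, mem_zpowers σ⟩
      have : σ = 1 := Equiv.ext hall
      rw [this, orderOf_one] at hσo
      omega
    · exact h
  have hall : ∀ b : α, τ b = b := by
    intro b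
    have : MulAction.orbit (zpowers σ) a = Set.univ :=
      Set.eq_of_subset_of_ncard_le (Set.subset_univ _) (by rw [Set.ncard_univ, hα, horb])
    obtain ⟨⟨_, i, rfl⟩, rfl⟩ := this.ge (Set.mem_univ b)
    have hcστ : Commute τ (σ ^ i) := by
      rw [hσ, hτ]; exact ((hc.map Y.subtype).symm).zpow_right i
    show τ ((σ ^ i) a) = (σ ^ i) a
    rw [← Equiv.Perm.mul_apply, hcστ.eq, Equiv.Perm.mul_apply, ha]
  have : τ = 1 := Equiv.ext hall
  rw [this, orderOf_one] at hτo
  omega

/-- A map fixing one of three independent subgroups of order four pointwise and normalising the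
other two fixes all of them pointwise. -/
theorem fix_of_fix {V Zi Zj Zm : Subgroup G} (hV : Nat.card V = 16)
    (hi : Zi ≤ V) (hj : Zj ≤ V) (hm : Zm ≤ V)
    (ci : Nat.card Zi = 4) (cj : Nat.card Zj = 4) (cm : Nat.card Zm = 4)
    (hij : Zi ⊓ Zj = ⊥) (him : Zi ⊓ Zm = ⊥) (hjm : Zj ⊓ Zm = ⊥) (d : G)
    (hfix : ∀ a ∈ Zi, d * a * d⁻¹ = a) (hdj : ∀ a ∈ Zj, d * a * d⁻¹ ∈ Zj)
    (hdm : ∀ a ∈ Zm, d * a * d⁻¹ ∈ Zm) : ∀ a ∈ V, d * a * d⁻¹ = a := by
  haveI : Finite V := Nat.finite_of_card_ne_zero (by omega)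
  haveI : Finite Zi := Nat.finite_of_card_ne_zero (by omega)
  haveI : Finite Zj := Nat.finite_of_card_ne_zero (by omega)
  haveI : Finite Zm := Nat.finite_of_card_ne_zero (by omega)
  let f : Zi × Zj → V := fun x => ⟨x.1 * x.2, mul_mem (hi x.1.2) (hj x.2.2)⟩
  have hf : Function.Injective f := by
    rintro ⟨a, b⟩ ⟨a', b'⟩ e
    have e1 : (a : G) * b = a' * b' := congrArg Subtype.val e
    have e2 : (a' : G)⁻¹ * a = b' * (b : G)⁻¹ := by
      rw [eq_mul_inv_iff_mul_eq, mul_assoc, e1, inv_mul_cancel_left]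
    have h1 : (a' : G)⁻¹ * a ∈ Zi ⊓ Zj := mem_inf.2
      ⟨mul_mem (inv_mem a'.2) a.2, e2 ▸ mul_mem b'.2 (inv_mem b.2)⟩
    rw [hij, mem_bot] at h1
    obtain rfl : a' = a := Subtype.ext (inv_mul_eq_one.1 h1)
    exact Prod.ext rfl (Subtype.ext (mul_left_cancel e1))
  have hfs : Function.Surjective f :=
    (hf.bijective_of_nat_card_le (by rw [Nat.card_prod, ci, cj, hV])).2
  -- the projection of `Zm` to `Zj`
  choose g hg using fun a : Zm => hfs ⟨a, hm a.2⟩
  have hga : ∀ a : Zm, ((g a).1 : G) * (g a).2 = a := fun a => congrArg Subtype.val (hg a)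
  have hgj : Function.Injective fun a => (g a).2 := by
    intro a b e
    have e1 : ((g a).2 : G) = (g b).2 := congrArg Subtype.val e
    have h1 : (a : G) * (b : G)⁻¹ ∈ Zi ⊓ Zm := by
      refine mem_inf.2 ⟨?_, mul_mem a.2 (inv_mem b.2)⟩
      rw [← hga a, ← hga b, e1, show ((g a).1 : G) * (g b).2 * (((g b).1 : G) * (g b).2)⁻¹
        = (g a).1 * ((g b).1 : G)⁻¹ by group]
      exact mul_mem (g a).1.2 (inv_mem (g b).1.2)
    rw [him, mem_bot] at h1
    exact Subtype.ext (mul_inv_eq_one.1 h1)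
  have hgs : Function.Surjective fun a => (g a).2 :=
    (hgj.bijective_of_nat_card_le (by rw [cj, cm])).2
  have hfj : ∀ b ∈ Zj, d * b * d⁻¹ = b := by
    intro b hb
    obtain ⟨a, ha⟩ := hgs ⟨b, hb⟩
    have hb' : ((g a).2 : G) = b := congrArg Subtype.val ha
    have e := hga a
    rw [hb'] at e
    have h1 : b⁻¹ * (d * b * d⁻¹) ∈ Zj ⊓ Zm := by
      refine mem_inf.2 ⟨mul_mem (inv_mem hb) (hdj b hb), ?_⟩
      have h2 : (a : G)⁻¹ * (d * a * d⁻¹) = b⁻¹ * (d * b * d⁻¹) := by
        rw [← e]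
        calc (((g a).1 : G) * b)⁻¹ * (d * ((g a).1 * b) * d⁻¹)
            = b⁻¹ * ((g a).1 : G)⁻¹ * (d * (g a).1 * d⁻¹) * (d * b * d⁻¹) := by group
          _ = b⁻¹ * (d * b * d⁻¹) := by rw [hfix _ (g a).1.2]; group
      exact h2 ▸ mul_mem (inv_mem a.2) (hdm a a.2)
    rw [hjm, mem_bot] at h1
    exact (inv_mul_eq_one.1 h1).symm
  intro a ha
  obtain ⟨⟨x, y⟩, hxy⟩ := hfs ⟨a, ha⟩
  have e : (x : G) * y = a := congrArg Subtype.val hxy
  rw [← e, show d * ((x : G) * y) * d⁻¹ = (d * x * d⁻¹) * (d * y * d⁻¹) by group,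
    hfix _ x.2, hfj _ y.2]

variable [Finite G] {F : Frame G}

theorem map_conj_A_ne (F : Frame G) (g : G) :
    F.A.map (MulAut.conj g).toMonoidHom ≠ F.B := by
  intro e
  haveI : Fact (Nat.Prime 2) := ⟨Nat.prime_two⟩
  have hne : F.A ≠ F.B := fun e => by
    have := F.card_Z
    rw [← e, inf_idem, F.card_A] at this
    omega
  have hgS : ((g • F.S : Sylow 2 G) : Subgroup G) ≤ normalizer (F.B : Set G) := by
    rw [Sylow.coe_subgroup_smul]
    rintro _ ⟨s, hs, rfl⟩
    show g * s * g⁻¹ ∈ normalizer (F.B : Set G)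
    refine CfsgLib.CoprimeAction.mem_normalizer_of_conj_mem fun b hb => ?_
    rw [← e, mem_map_conj] at hb ⊢
    have := (mem_normalizer_iff.1 (F.norm_A hs) _).1 hb
    simpa [mul_assoc] using this
  obtain ⟨m, hm⟩ := MulAction.exists_smul_eq (normalizer (F.B : Set G)) ((g • F.S).subtype hgS)
    (F.S.subtype F.norm_B)
  rw [Sylow.smul_subtype] at hm
  have hm' : ((m : G) * g) • F.S = F.S := by
    rw [mul_smul]; exact Sylow.subtype_injective hm
  set h := (m : G) * g with hh
  have hhN : h ∈ normalizer ((F.S : Subgroup G) : Set G) := Sylow.smul_eq_iff_mem_normalizer.1 hm'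
  have hhA : F.A.map (MulAut.conj h).toMonoidHom = F.B := by
    refine eq_of_le_of_card_ge ?_ (by
      rw [F.card_B, card_map_of_injective (MulAut.conj h).injective, F.card_A])
    rintro _ ⟨a, ha, rfl⟩
    have h1 : g * a * g⁻¹ ∈ F.B := e ▸ ⟨a, ha, rfl⟩
    have := (mem_normalizer_iff.1 m.2 _).1 h1
    simpa [hh, mul_assoc] using this
  have hhB : F.B.map (MulAut.conj h).toMonoidHom = F.A := by
    refine (F.elem (E := F.B.map (MulAut.conj h).toMonoidHom) ?_ ?_ ?_).resolve_right ?_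
    · rintro _ ⟨b, hb, rfl⟩
      exact (mem_normalizer_iff.1 hhN b).1 (F.B_le hb)
    · rintro _ ⟨b, hb, rfl⟩
      rw [← map_mul, F.B_sq hb, map_one]
    · rw [card_map_of_injective (MulAut.conj h).injective, F.card_B]
    · intro e2
      exact hne (map_injective (f := (MulAut.conj h).toMonoidHom) (MulAut.conj h).injective
        (hhA.trans e2.symm))
  have hh2 : h ^ 2 ∈ normalizer (F.A : Set G) := by
    refine CfsgLib.CoprimeAction.mem_normalizer_of_conj_mem fun a ha => ?_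
    have h1 : h * a * h⁻¹ ∈ F.B := hhA ▸ ⟨a, ha, rfl⟩
    have h2 : h * (h * a * h⁻¹) * h⁻¹ ∈ F.A := hhB ▸ ⟨_, h1, rfl⟩
    simpa [pow_two, mul_assoc] using h2
  obtain ⟨k, m', hm'o, hkm⟩ := Nat.exists_eq_two_pow_mul_odd (orderOf_pos h).ne'
  have hT : h ^ m' ∈ (F.S : Subgroup G) := by
    have hp : IsPGroup 2 ↥(zpowers (h ^ m')) := by
      refine IsPGroup.of_card (n := k) ?_
      rw [Nat.card_zpowers, orderOf_pow' _ (fun e => Nat.not_odd_zero (e ▸ hm'o)), hkm,
        Nat.gcd_mul_left_left,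
        Nat.mul_div_cancel _ (Nat.pos_of_ne_zero fun e => Nat.not_odd_zero (e ▸ hm'o))]
    have h1 := F.S.3 (hp.to_sup_of_normal_right' F.S.2
      (zpowers_le.2 (pow_mem hhN m'))) le_sup_right
    exact h1 ▸ mem_sup_left (mem_zpowers _)
  obtain ⟨j, rfl⟩ := hm'o
  rw [pow_succ, pow_mul] at hT
  have h1 : h ∈ normalizer (F.A : Set G) := by
    simpa using mul_mem (inv_mem (pow_mem hh2 j)) (F.norm_A hT)
  refine hne (Eq.trans ?_ hhA)
  refine (eq_of_le_of_card_ge ?_ (by rw [card_map_of_injective (MulAut.conj h).injective])).symm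
  rintro _ ⟨a, ha, rfl⟩
  exact (mem_normalizer_iff.1 h1 a).1 ha

/-- A conjugate of `A` in the normaliser of `A` is `A`. -/
theorem mem_normalizer_of_le {g : G}
    (hg : F.A.map (MulAut.conj g).toMonoidHom ≤ normalizer (F.A : Set G)) :
    g ∈ normalizer (F.A : Set G) := by
  haveI : Fact (Nat.Prime 2) := ⟨Nat.prime_two⟩
  have hpA : IsPGroup 2 F.A := IsPGroup.of_card (n := 4) (by rw [F.card_A]; norm_num)
  obtain ⟨T, hT⟩ :=
    (hpA.to_sup_of_normal_left' (hpA.map (MulAut.conj g).toMonoidHom) hg).exists_le_sylow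
  obtain ⟨c, rfl⟩ := MulAction.exists_smul_eq G F.S T
  rw [Sylow.coe_subgroup_smul] at hT
  have hin : ∀ x ∈ F.A ⊔ F.A.map (MulAut.conj g).toMonoidHom, c⁻¹ * x * c ∈ (F.S : Subgroup G) :=
    fun x hx => mem_map_conj.1 (hT hx)
  have key : ∀ e : G, F.A.map (MulAut.conj e).toMonoidHom ≤
      F.A ⊔ F.A.map (MulAut.conj g).toMonoidHom → c⁻¹ * e ∈ normalizer (F.A : Set G) := by
    intro e he
    have h1 := F.elem (E := F.A.map (MulAut.conj (c⁻¹ * e)).toMonoidHom) (by
      rintro _ ⟨a, ha, rfl⟩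
      have := hin _ (he ⟨a, ha, rfl⟩)
      simpa [mul_assoc] using this) (by
      rintro _ ⟨a, ha, rfl⟩
      rw [← map_mul, F.A_sq ha, map_one])
      (by rw [card_map_of_injective (MulAut.conj _).injective, F.card_A])
    refine CfsgLib.CoprimeAction.mem_normalizer_of_conj_mem fun a ha => ?_
    rw [← (h1.resolve_right (map_conj_A_ne F _))]
    exact ⟨a, ha, rfl⟩
  have h1 := key 1 (by
    rintro _ ⟨a, ha, rfl⟩
    simpa using mem_sup_left (T := F.A.map (MulAut.conj g).toMonoidHom) ha)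
  have h2 := key g le_sup_right
  simpa [mul_assoc] using mul_mem (inv_mem h1) h2

variable (h : PlaneHyp F)

include h

theorem mem_normalizer_of_mem {z g : G} (hz : z ∈ F.A) (hz1 : z ≠ 1) (hg : g⁻¹ * z * g ∈ F.A) :
    g ∈ normalizer (F.A : Set G) := by
  obtain ⟨z₀, hz₀, hz₀1⟩ := F.exists_mem_Z
  obtain ⟨n, hn, hnz⟩ := h.transA z hz z₀ hz₀.1 hz1 hz₀1
  have h1 : n * g ∈ normalizer (F.A : Set G) := by
    refine mem_normalizer_of_le ?_
    rintro _ ⟨a, ha, rfl⟩
    refine (h.cent z₀ hz₀ hz₀1 ?_).1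
    rw [mem_cent, ← hnz]
    show n * g * a * (n * g)⁻¹ * (n * z * n⁻¹) = n * z * n⁻¹ * (n * g * a * (n * g)⁻¹)
    calc n * g * a * (n * g)⁻¹ * (n * z * n⁻¹)
        = n * g * (a * (g⁻¹ * z * g)) * (n * g)⁻¹ := by group
      _ = n * g * ((g⁻¹ * z * g) * a) * (n * g)⁻¹ := by rw [F.A_comm ha hg]
      _ = _ := by group
  simpa using mul_mem (inv_mem hn) h1

/-- An involution has one point. -/
theorem pt_unique {z : G} (hz : z ≠ 1) {p q : G ⧸ normalizer (F.A : Set G)}
    (hp : z ∈ pt F.A p) (hq : z ∈ pt F.A q) : p = q := by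
  obtain ⟨a, rfl⟩ := QuotientGroup.mk_surjective p
  obtain ⟨b, rfl⟩ := QuotientGroup.mk_surjective q
  rw [mem_pt_mk] at hp hq
  refine QuotientGroup.eq.2 (mem_normalizer_of_mem h hp (fun e => hz ?_) ?_)
  · calc z = a * (a⁻¹ * z * a) * a⁻¹ := by group
      _ = 1 := by rw [e]; group
  · simpa [mul_assoc] using hq

theorem exists_pt {z : G} (hz : orderOf z = 2) :
    ∃ p : G ⧸ normalizer (F.A : Set G), z ∈ pt F.A p := by
  obtain ⟨g, hg⟩ := exists_conj_mem_of_involution F.S hz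
  have h1 : g * z * g⁻¹ ≠ 1 := fun e => ne_one hz (conj_eq_one_iff.1 e)
  have h2 : g * z * g⁻¹ * (g * z * g⁻¹) = 1 :=
    mul_self_eq_one (by rw [orderOf_conj, hz])
  rcases F.invol _ hg h2 with hA | hB
  · exact ⟨QuotientGroup.mk g⁻¹, by rw [mem_pt_mk]; simpa using hA⟩
  · obtain ⟨z₀, hz₀, hz₀1⟩ := F.exists_mem_Z
    obtain ⟨n, -, hn⟩ := h.transB _ hB z₀ hz₀.2 h1 hz₀1
    refine ⟨QuotientGroup.mk (n * g)⁻¹, ?_⟩
    rw [mem_pt_mk, inv_inv, show n * g * z * (n * g)⁻¹ = n * (g * z * g⁻¹) * n⁻¹ by group, hn]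
    exact hz₀.1

theorem exists_pt' {z : G} (hz : orderOf z = 2) :
    ∃ l : G ⧸ normalizer (F.B : Set G), z ∈ pt F.B l :=
  exists_pt (F := F.symm) h.symm hz

theorem inc_base {l : G ⧸ normalizer (F.B : Set G)} :
    Inc F (QuotientGroup.mk 1) l ↔
      ∃ n ∈ normalizer (F.A : Set G), l = QuotientGroup.mk n := by
  obtain ⟨z₀, hz₀, hz₀1⟩ := F.exists_mem_Z
  constructor
  · rintro ⟨w, hw1, hwA, hwl⟩
    rw [pt_base] at hwA
    obtain ⟨n, hn, hnw⟩ := h.transA w hwA z₀ hz₀.1 hw1 hz₀1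
    refine ⟨n⁻¹, inv_mem hn, ?_⟩
    have h1 : z₀ ∈ pt F.B (n • l) := hnw ▸ (mem_pt_smul n).2 hwl
    have h2 : z₀ ∈ pt F.B (QuotientGroup.mk 1) := by rw [pt_base]; exact hz₀.2
    have h3 := pt_unique (F := F.symm) h.symm hz₀1 h1 h2
    rw [← inv_smul_smul n l]
    exact (congrArg (n⁻¹ • ·) h3).trans (by
      show (QuotientGroup.mk (n⁻¹ * 1) : G ⧸ normalizer (F.B : Set G)) = _
      rw [mul_one])
  · rintro ⟨n, hn, rfl⟩
    refine ⟨n * z₀ * n⁻¹, fun e => hz₀1 (conj_eq_one_iff.1 e), ?_, ?_⟩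
    · rw [pt_base]; exact (mem_normalizer_iff.1 hn z₀).1 hz₀.1
    · rw [mem_pt_mk]; simpa [mul_assoc] using hz₀.2

theorem inc_flag {p : G ⧸ normalizer (F.A : Set G)} {l : G ⧸ normalizer (F.B : Set G)}
    (hpl : Inc F p l) : ∃ c : G, p = QuotientGroup.mk c ∧ l = QuotientGroup.mk c := by
  obtain ⟨g, rfl⟩ := QuotientGroup.mk_surjective p
  have h1 := inc_smul g⁻¹ hpl
  rw [show g⁻¹ • (QuotientGroup.mk g : G ⧸ normalizer (F.A : Set G)) = QuotientGroup.mk 1 from by
    show (QuotientGroup.mk (g⁻¹ * g) : G ⧸ normalizer (F.A : Set G)) = _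
    rw [inv_mul_cancel], inc_base h] at h1
  obtain ⟨n, hn, hln⟩ := h1
  refine ⟨g * n, QuotientGroup.eq.2 (by simpa using hn), ?_⟩
  rw [eq_inv_smul_iff.1 hln.symm |>.symm]
  rfl

theorem card_meet {p : G ⧸ normalizer (F.A : Set G)} {l : G ⧸ normalizer (F.B : Set G)}
    (hpl : Inc F p l) : Nat.card ↥(pt F.A p ⊓ pt F.B l) = 4 := by
  obtain ⟨c, rfl, rfl⟩ := inc_flag h hpl
  have e : pt F.A (QuotientGroup.mk c) ⊓ pt F.B (QuotientGroup.mk c) =
      (F.A ⊓ F.B).map (MulAut.conj c).toMonoidHom := by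
    ext z; rw [mem_inf, mem_pt_mk, mem_pt_mk, mem_map_conj, mem_inf]
  rw [e, card_map_of_injective (MulAut.conj c).injective, F.card_Z]

theorem meet_inf {l l' : G ⧸ normalizer (F.B : Set G)} (hll : l ≠ l')
    (p : G ⧸ normalizer (F.A : Set G)) :
    (pt F.A p ⊓ pt F.B l) ⊓ (pt F.A p ⊓ pt F.B l') = ⊥ := by
  rw [eq_bot_iff_forall]
  intro z hz
  by_contra hz1
  exact hll (pt_unique (F := F.symm) h.symm hz1 hz.1.2 hz.2.2)

/-- An involution of the point `p` fixes exactly the lines through `p`. -/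
theorem fixed_iff {z : G} (hz1 : z ≠ 1) {p : G ⧸ normalizer (F.A : Set G)} (hp : z ∈ pt F.A p)
    (l : G ⧸ normalizer (F.B : Set G)) : z • l = l ↔ Inc F p l := by
  obtain ⟨g, rfl⟩ := QuotientGroup.mk_surjective p
  rw [mem_pt_mk] at hp
  suffices key : ∀ w ∈ F.A, w ≠ 1 → ∀ m : G ⧸ normalizer (F.B : Set G),
      (w • m = m ↔ Inc F (QuotientGroup.mk 1) m) by
    have hw1 : g⁻¹ * z * g ≠ 1 := fun e => hz1 (by
      calc z = g * (g⁻¹ * z * g) * g⁻¹ := by group
        _ = 1 := by rw [e]; group)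
    have h1 := key _ hp hw1 (g⁻¹ • l)
    rw [smul_smul, show g⁻¹ * z * g * g⁻¹ = g⁻¹ * z by group, ← smul_smul, smul_left_cancel_iff,
      ← inc_smul_iff g, smul_inv_smul] at h1
    rw [h1, show g • (QuotientGroup.mk 1 : G ⧸ normalizer (F.A : Set G)) = QuotientGroup.mk g from by
      show (QuotientGroup.mk (g * 1) : G ⧸ normalizer (F.A : Set G)) = _
      rw [mul_one]]
  intro w hw hw1 m
  haveI : Fact (Nat.Prime 2) := ⟨Nat.prime_two⟩
  constructor
  · intro hfix
    obtain ⟨b, rfl⟩ := QuotientGroup.mk_surjective m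
    rw [smul_mk_eq_iff] at hfix
    have hy : orderOf (⟨_, hfix⟩ : normalizer (F.B : Set G)) = 2 := by
      rw [← orderOf_coe]
      show orderOf (b⁻¹ * w * b) = 2
      have := orderOf_conj b⁻¹ w
      rw [inv_inv] at this
      rw [this]
      exact orderOf_eq_two_iff.2 ⟨F.A_sq hw, hw1⟩
    obtain ⟨⟨n, hn⟩, hnS⟩ := exists_conj_mem_of_involution (F.S.subtype F.norm_B) hy
    have hnS' : n * (b⁻¹ * w * b) * n⁻¹ ∈ (F.S : Subgroup G) := hnS
    have h2 : n * (b⁻¹ * w * b) * n⁻¹ * (n * (b⁻¹ * w * b) * n⁻¹) = 1 := by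
      calc _ = n * b⁻¹ * (w * w) * (b * n⁻¹) := by group
        _ = 1 := by rw [F.A_sq hw]; group
    rcases F.invol _ hnS' h2 with hA | hB
    · rw [inc_base h]
      refine ⟨b * n⁻¹, mem_normalizer_of_mem h hw hw1 ?_, ?_⟩
      · simpa [mul_assoc] using hA
      · exact QuotientGroup.eq.2 (by simpa using inv_mem hn)
    · refine ⟨w, hw1, by rw [pt_base]; exact hw, ?_⟩
      rw [mem_pt_mk]
      exact (mem_normalizer_iff.1 hn _).2 hB
  · intro hinc
    obtain ⟨n, hn, rfl⟩ := (inc_base h).1 hinc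
    rw [smul_mk_eq_iff]
    exact F.norm_B (F.A_le ((mem_normalizer_iff''.1 hn w).1 hw))

/-- An involution of the line `l` fixes exactly the points of `l`. -/
theorem fixed_iff' {z : G} (hz1 : z ≠ 1) {l : G ⧸ normalizer (F.B : Set G)} (hl : z ∈ pt F.B l)
    (p : G ⧸ normalizer (F.A : Set G)) : z • p = p ↔ Inc F p l :=
  (fixed_iff (F := F.symm) h.symm hz1 hl p).trans inc_swap_iff

/-- Five lines through a point. -/
theorem card_pencil (p : G ⧸ normalizer (F.A : Set G)) :
    Nat.card {l : G ⧸ normalizer (F.B : Set G) // Inc F p l} = 5 := by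
  obtain ⟨g, rfl⟩ := QuotientGroup.mk_surjective p
  set NA := normalizer (F.A : Set G) with hNA
  set NB := normalizer (F.B : Set G) with hNB
  have hbase : Nat.card {l : G ⧸ NB // Inc F (QuotientGroup.mk 1) l} = 5 := by
    let f : NA ⧸ (NA ⊓ NB).subgroupOf NA → {l : G ⧸ NB // Inc F (QuotientGroup.mk 1) l} :=
      Quotient.lift (fun m => ⟨QuotientGroup.mk (m : G), (inc_base h).2 ⟨m, m.2, rfl⟩⟩)
        fun a b hab => Subtype.ext (QuotientGroup.eq.2 ((QuotientGroup.leftRel_apply).1 hab).2)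
    have hf : Function.Bijective f := by
      refine ⟨fun a b => ?_, fun ⟨l, hl⟩ => ?_⟩
      · refine Quotient.inductionOn₂ a b fun a b e =>
          Quotient.sound ((QuotientGroup.leftRel_apply).2 ?_)
        exact ⟨(a⁻¹ * b).2, QuotientGroup.eq.1 (congrArg Subtype.val e)⟩
      · obtain ⟨n, hn, rfl⟩ := (inc_base h).1 hl
        exact ⟨QuotientGroup.mk ⟨n, hn⟩, rfl⟩
    rw [← Nat.card_eq_of_bijective f hf]
    have e : NA ⊓ NB = NA ⊓ normalizer ((F.A ⊓ F.B : Subgroup G) : Set G) :=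
      le_antisymm (le_inf inf_le_left inf_normalizer_le_normalizer_inf)
        (le_inf inf_le_left h.normA)
    show ((NA ⊓ NB).subgroupOf NA).index = 5
    rw [e]
    exact h.fiveA
  rw [← hbase]
  refine (Nat.card_congr ((MulAction.toPerm g : Equiv.Perm (G ⧸ NB)).subtypeEquiv fun l => ?_)).symm
  rw [MulAction.toPerm_apply, show (QuotientGroup.mk g : G ⧸ NA) = g • QuotientGroup.mk 1 from by
    show _ = (QuotientGroup.mk (g * 1) : G ⧸ NA)
    rw [mul_one], inc_smul_iff]

/-- Two lines share at most one point. -/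
theorem line_unique {p q : G ⧸ normalizer (F.A : Set G)} (hpq : p ≠ q)
    {l l' : G ⧸ normalizer (F.B : Set G)} (hpl : Inc F p l) (hql : Inc F q l) (hpl' : Inc F p l')
    (hql' : Inc F q l') : l = l' := by
  obtain ⟨g, hg⟩ := MulAction.exists_smul_eq G p (QuotientGroup.mk 1 : G ⧸ normalizer (F.A : Set G))
  suffices key : ∀ {q : G ⧸ normalizer (F.A : Set G)}, q ≠ QuotientGroup.mk 1 →
      ∀ {l l' : G ⧸ normalizer (F.B : Set G)},
      Inc F (QuotientGroup.mk 1) l → Inc F q l → Inc F (QuotientGroup.mk 1) l' →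
      Inc F q l' → l = l' by
    refine smul_left_cancel g (key (q := g • q) ?_ ?_ (inc_smul g hql) ?_ (inc_smul g hql'))
    · exact fun e => hpq (smul_left_cancel g (hg.trans e.symm))
    · exact hg ▸ inc_smul g hpl
    · exact hg ▸ inc_smul g hpl'
  clear hpq hpl hql hpl' hql' hg g p q l l'
  intro q hq l l' hpl hql hpl' hql'
  by_contra hne
  set Zl := pt F.A (QuotientGroup.mk 1) ⊓ pt F.B l with hZl
  set Zl' := pt F.A (QuotientGroup.mk 1) ⊓ pt F.B l' with hZl'
  let f : Zl × Zl' → F.A := fun x => ⟨x.1 * x.2, mul_mem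
    (pt_base F.A ▸ x.1.2.1) (pt_base F.A ▸ x.2.2.1)⟩
  have hf : Function.Injective f := by
    rintro ⟨a, b⟩ ⟨a', b'⟩ e
    have e1 : (a : G) * b = a' * b' := congrArg Subtype.val e
    have e2 : (a' : G)⁻¹ * a = b' * (b : G)⁻¹ := by
      rw [eq_mul_inv_iff_mul_eq, mul_assoc, e1, inv_mul_cancel_left]
    have h1 : (a' : G)⁻¹ * a ∈ Zl ⊓ Zl' := mem_inf.2
      ⟨mul_mem (inv_mem a'.2) a.2, e2 ▸ mul_mem b'.2 (inv_mem b.2)⟩
    rw [show Zl ⊓ Zl' = ⊥ from meet_inf h hne _, mem_bot] at h1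
    obtain rfl : a' = a := Subtype.ext (inv_mul_eq_one.1 h1)
    exact Prod.ext rfl (Subtype.ext (mul_left_cancel e1))
  have hfs : Function.Surjective f := (hf.bijective_of_nat_card_le (by
    rw [Nat.card_prod, card_meet h hpl, card_meet h hpl', F.card_A])).2
  have hAq : ∀ a ∈ F.A, a • q = q := by
    intro a ha
    obtain ⟨⟨x, y⟩, hxy⟩ := hfs ⟨a, ha⟩
    have e : (x : G) * y = a := congrArg Subtype.val hxy
    have fx : ∀ {m} {t : G}, Inc F q m → t ∈ pt F.B m → t • q = q := fun {m t} hm ht => by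
      by_cases ht1 : t = 1
      · rw [ht1, one_smul]
      · exact (fixed_iff' h ht1 ht q).2 hm
    rw [← e, mul_smul, fx hql' y.2.2, fx hql x.2.2]
  obtain ⟨b, rfl⟩ := QuotientGroup.mk_surjective q
  refine hq (smul_base_eq_iff.2 ?_)
  rw [← inv_mem_iff]
  refine mem_normalizer_of_le ?_
  rintro _ ⟨a, ha, rfl⟩
  simpa [mul_assoc] using smul_mk_eq_iff.1 (hAq a ha)

/-- An element fixing three lines through the base point, and the centre of one pointwise, lies in
`A` modulo nothing. -/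
theorem mem_A_of_fix {d : G} (hd : d ∈ normalizer (F.A : Set G))
    {l₁ l₂ l₃ : G ⧸ normalizer (F.B : Set G)} (i₁ : Inc F (QuotientGroup.mk 1) l₁)
    (i₂ : Inc F (QuotientGroup.mk 1) l₂) (i₃ : Inc F (QuotientGroup.mk 1) l₃)
    (h₁₂ : l₁ ≠ l₂) (h₁₃ : l₁ ≠ l₃) (h₂₃ : l₂ ≠ l₃)
    (hfix : ∀ a ∈ pt F.A (QuotientGroup.mk 1) ⊓ pt F.B l₁, d * a * d⁻¹ = a)
    (f₂ : d • l₂ = l₂) (f₃ : d • l₃ = l₃) : d ∈ F.A := by
  have hb : d • (QuotientGroup.mk 1 : G ⧸ normalizer (F.A : Set G)) = QuotientGroup.mk 1 := by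
    rw [smul_mk_eq_iff]; simpa using hd
  have hA : ∀ l, pt F.A (QuotientGroup.mk 1) ⊓ pt F.B l ≤ F.A := fun l z hz =>
    (pt_base F.A ▸ hz.1)
  have hfix' := fix_of_fix (V := F.A) F.card_A (hA l₁) (hA l₂)
    (hA l₃) (card_meet h i₁) (card_meet h i₂) (card_meet h i₃) (meet_inf h h₁₂ _) (meet_inf h h₁₃ _)
    (meet_inf h h₂₃ _) d hfix ?_ ?_
  · exact h.selfA (mem_centralizer_iff.2 fun a ha => (mul_inv_eq_iff_eq_mul.1 (hfix' a ha)).symm)
  all_goals
    intro a ha
    have h1 := (mem_pt_smul d).2 ha.1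
    have h2 := (mem_pt_smul d).2 ha.2
    rw [hb] at h1
    first | rw [f₂] at h2 | rw [f₃] at h2
    exact ⟨h1, h2⟩

theorem exists_two_other (l : G ⧸ normalizer (F.B : Set G)) :
    ∃ l₂ l₃, Inc F (QuotientGroup.mk 1) l₂ ∧ Inc F (QuotientGroup.mk 1) l₃ ∧
      l ≠ l₂ ∧ l ≠ l₃ ∧ l₂ ≠ l₃ := by
  classical
  letI := Fintype.ofFinite (G ⧸ normalizer (F.B : Set G))
  set s := (Finset.univ.filter fun m => Inc F (QuotientGroup.mk 1) m).erase l
  have hc : 1 < s.card := by
    have h5 := card_pencil h (QuotientGroup.mk 1)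
    rw [Nat.card_eq_fintype_card, Fintype.card_subtype] at h5
    have : (Finset.univ.filter fun m => Inc F (QuotientGroup.mk 1) m).card - 1 ≤ s.card :=
      Finset.pred_card_le_card_erase
    omega
  obtain ⟨a, ha, b, hb, hab⟩ := Finset.one_lt_card.1 hc
  simp only [s, Finset.mem_erase, Finset.mem_filter, Finset.mem_univ, true_and] at ha hb
  exact ⟨a, b, ha.2, hb.2, Ne.symm ha.1, Ne.symm hb.1, hab⟩

/-- An odd subgroup of `N(A)` has order at most fifteen, and if fifteen its elements of order three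
fix all lines through the base point. -/
theorem card_odd_le {X : Subgroup G} (hX : X ≤ normalizer (F.A : Set G))
    (hodd : Odd (Nat.card X)) :
    Nat.card X ≤ 15 ∧ (Nat.card X = 15 → ∀ k ∈ X, k ^ 3 = 1 →
      ∀ l, Inc F (QuotientGroup.mk 1) l → k • l = l) := by
  classical
  have hb : ∀ x ∈ X, x • (QuotientGroup.mk 1 : G ⧸ normalizer (F.A : Set G)) = QuotientGroup.mk 1 :=
    fun x hx => by rw [smul_mk_eq_iff]; simpa using hX hx
  let L := {l : G ⧸ normalizer (F.B : Set G) // Inc F (QuotientGroup.mk 1) l}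
  letI : MulAction X L :=
    { smul := fun x l => ⟨(x : G) • (l : G ⧸ normalizer (F.B : Set G)), by simpa only [hb x x.2] using inc_smul (x : G) l.2⟩
      one_smul := fun l => Subtype.ext (one_smul G (l : G ⧸ normalizer (F.B : Set G)))
      mul_smul := fun x y l => Subtype.ext (mul_smul (x : G) y (l : G ⧸ normalizer (F.B : Set G))) }
  let ψ := MulAction.toPermHom X L
  have hL : Nat.card L = 5 := card_pencil h _
  have hcard : Nat.card ψ.ker * Nat.card ψ.range = Nat.card X := by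
    rw [← index_ker, card_mul_index]
  have hRodd : Odd (Nat.card ψ.range) := hodd.of_dvd_nat ⟨_, by rw [← hcard, mul_comm]⟩
  have hR : Nat.card ψ.range ≤ 5 := by
    have h120 : Nat.card ψ.range ∣ 120 := by
      have := card_subgroup_dvd_card ψ.range
      rwa [Nat.card_perm, hL, show Nat.factorial 5 = 120 from rfl] at this
    have hmem : Nat.card ψ.range ∈ Nat.divisors 120 := Nat.mem_divisors.2 ⟨h120, by norm_num⟩
    rw [show Nat.divisors 120 = {1, 2, 3, 4, 5, 6, 8, 10, 12, 15, 20, 24, 30, 40, 60, 120} by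
      decide] at hmem
    simp only [Finset.mem_insert, Finset.mem_singleton] at hmem
    have h15 := card_perm_ne_fifteen hL ψ.range
    obtain ⟨j, hj⟩ := hRodd
    omega
  have hK : Nat.card ψ.ker ≤ 3 := by
    obtain ⟨⟨l₁, i₁⟩⟩ : Nonempty L := (Nat.card_pos_iff.1 (by omega : 0 < Nat.card L)).1
    set Z₁ := pt F.A (QuotientGroup.mk 1) ⊓ pt F.B l₁ with hZ₁
    have hker : ∀ x : ψ.ker, ∀ m, Inc F (QuotientGroup.mk 1) m → ((x : X) : G) • m = m := by
      intro x m hm
      have := congrFun (congrArg DFunLike.coe (MonoidHom.mem_ker.1 x.2)) (⟨m, hm⟩ : L)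
      exact congrArg Subtype.val this
    have hmap : ∀ x : ψ.ker, ∀ a ∈ Z₁, ((x : X) : G) * a * ((x : X) : G)⁻¹ ∈ Z₁ := by
      intro x a ha
      have h1 := (mem_pt_smul ((x : X) : G)).2 ha.1
      have h2 := (mem_pt_smul ((x : X) : G)).2 ha.2
      rw [hb _ (x : X).2] at h1
      rw [hker x _ i₁] at h2
      exact ⟨h1, h2⟩
    letI : MulAction ψ.ker Z₁ :=
      { smul := fun x a => ⟨_, hmap x a a.2⟩
        one_smul := fun a => Subtype.ext (by
          show ((((1 : ψ.ker) : X)) : G) * (a : G) * ((((1 : ψ.ker) : X)) : G)⁻¹ = a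
          simp)
        mul_smul := fun x y a => Subtype.ext (by
          show ((((x * y : ψ.ker) : X)) : G) * (a : G) * ((((x * y : ψ.ker) : X)) : G)⁻¹ =
            (((x : X)) : G) * ((((y : X)) : G) * a * (((y : X)) : G)⁻¹) * (((x : X)) : G)⁻¹
          simp [mul_assoc]) }
    let χ := MulAction.toPermHom ψ.ker Z₁
    have hχ : Function.Injective χ := by
      rw [injective_iff_map_eq_one]
      intro x hx
      obtain ⟨l₂, l₃, i₂, i₃, h₁₂, h₁₃, h₂₃⟩ := exists_two_other h l₁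
      have hxA : ((x : X) : G) ∈ F.A := mem_A_of_fix h (hX (x : X).2) i₁ i₂ i₃ h₁₂ h₁₃ h₂₃
        (fun a ha => congrArg Subtype.val (congrFun (congrArg DFunLike.coe hx) (⟨a, ha⟩ : Z₁)))
        (hker x _ i₂) (hker x _ i₃)
      refine Subtype.ext (Subtype.ext ?_)
      exact eq_one_of_mem_odd hodd (F.A_sq hxA) (x : X).2
    have hKodd : Odd (Nat.card ψ.ker) := hodd.of_dvd_nat ⟨_, hcard.symm⟩
    have h24 : Nat.card ψ.ker ∣ 24 := by
      have h1 := card_dvd_of_injective χ hχ
      rwa [Nat.card_perm, show Nat.card Z₁ = 4 from card_meet h i₁] at h1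
    have hmem : Nat.card ψ.ker ∈ Nat.divisors 24 := Nat.mem_divisors.2 ⟨h24, by norm_num⟩
    rw [show Nat.divisors 24 = {1, 2, 3, 4, 6, 8, 12, 24} by decide] at hmem
    simp only [Finset.mem_insert, Finset.mem_singleton] at hmem
    obtain ⟨j, hj⟩ := hKodd
    omega
  refine ⟨hcard ▸ (Nat.mul_le_mul hK hR), fun h15 k hk hk3 l hl => ?_⟩
  have hR5 : Nat.card ψ.range = 5 := by
    rw [h15] at hcard
    nlinarith
  have h1 : orderOf (ψ.rangeRestrict ⟨k, hk⟩) ∣ 5 := hR5 ▸ orderOf_dvd_natCard _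
  have h2 : orderOf (ψ.rangeRestrict ⟨k, hk⟩) ∣ 3 := orderOf_dvd_of_pow_eq_one (by
    rw [← map_pow, show (⟨k, hk⟩ : X) ^ 3 = 1 from Subtype.ext hk3, map_one])
  have h3 := orderOf_eq_one_iff.1 (Nat.eq_one_of_dvd_coprimes (by norm_num) h1 h2)
  have h4 : ψ ⟨k, hk⟩ = 1 := congrArg Subtype.val h3
  exact congrArg Subtype.val (congrFun (congrArg DFunLike.coe h4) (⟨l, hl⟩ : L))

/-! ### An element of order three acting as a scalar -/

/-- An element of order three fixing all lines through the base point centralises no involution of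
`A`. -/
theorem scalar_free {k : G} (hk : k ∈ normalizer (F.A : Set G)) (hko : orderOf k = 3)
    (hkl : ∀ l, Inc F (QuotientGroup.mk 1) l → k • l = l) {a : G} (ha : a ∈ F.A) (ha1 : a ≠ 1) :
    k * a * k⁻¹ ≠ a := by
  intro hfix
  haveI : Fact (Nat.Prime 3) := ⟨Nat.prime_three⟩
  obtain ⟨l, hl⟩ := exists_pt' h (orderOf_eq_two_iff.2 ⟨F.A_sq ha, ha1⟩)
  have hla : a ∈ pt F.B l := hl
  have i₁ : Inc F (QuotientGroup.mk 1) l := ⟨a, ha1, by rw [pt_base]; exact ha, hla⟩
  set Z := pt F.A (QuotientGroup.mk 1) ⊓ pt F.B l with hZ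
  have hbk : k • (QuotientGroup.mk 1 : G ⧸ normalizer (F.A : Set G)) = QuotientGroup.mk 1 := by
    rw [smul_mk_eq_iff]; simpa using hk
  have hmap : ∀ j : zpowers k, ∀ z ∈ Z, (j : G) * z * (j : G)⁻¹ ∈ Z := by
    rintro ⟨_, i, rfl⟩ z hz
    have h1 := (mem_pt_smul (k ^ i)).2 hz.1
    have h2 := (mem_pt_smul (k ^ i)).2 hz.2
    rw [show (k ^ i) • (QuotientGroup.mk 1 : G ⧸ normalizer (F.A : Set G)) = QuotientGroup.mk 1 from by
      rw [smul_mk_eq_iff]; simpa using zpow_mem hk i] at h1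
    rw [show (k ^ i) • l = l from
      (zpowers_le.2 (hkl l i₁) : zpowers k ≤ MulAction.stabilizer G l) ⟨i, rfl⟩] at h2
    exact ⟨h1, h2⟩
  letI : MulAction (zpowers k) Z :=
    { smul := fun j z => ⟨_, hmap j z z.2⟩
      one_smul := fun z => Subtype.ext (by
        show ((1 : zpowers k) : G) * (z : G) * ((1 : zpowers k) : G)⁻¹ = z
        simp)
      mul_smul := fun x y z => Subtype.ext (by
        show ((x * y : zpowers k) : G) * (z : G) * ((x * y : zpowers k) : G)⁻¹ =
          (x : G) * ((y : G) * z * (y : G)⁻¹) * (x : G)⁻¹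
        simp [mul_assoc]) }
  have hp : IsPGroup 3 ↥(zpowers k) :=
    IsPGroup.of_card (n := 1) (by rw [Nat.card_zpowers, hko, pow_one])
  have hmod := hp.card_modEq_card_fixedPoints Z
  rw [show Nat.card Z = 4 from card_meet h i₁] at hmod
  have hle : Nat.card (MulAction.fixedPoints (zpowers k) Z) ≤ 4 := by
    rw [← show Nat.card Z = 4 from card_meet h i₁]
    exact Nat.card_le_card_of_injective _ Subtype.val_injective
  have hfixed : ∀ (z : Z), k * z * k⁻¹ = z → z ∈ MulAction.fixedPoints (zpowers k) Z := by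
    intro z hz
    rw [MulAction.mem_fixedPoints]
    rintro ⟨_, i, rfl⟩
    refine Subtype.ext ?_
    show k ^ i * (z : G) * (k ^ i)⁻¹ = z
    have hc : Commute k (z : G) := mul_inv_eq_iff_eq_mul.1 hz
    rw [(hc.zpow_left i).eq, mul_inv_cancel_right]
  have h2le : 2 ≤ Nat.card (MulAction.fixedPoints (zpowers k) Z) := by
    refine le_trans (by simp) (Nat.card_le_card_of_injective (α := Fin 2)
      ![⟨⟨1, one_mem _⟩, hfixed _ (by simp)⟩, ⟨⟨a, by rw [pt_base]; exact ha, hla⟩, hfixed _ hfix⟩]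
      ?_)
    intro i j e
    fin_cases i <;> fin_cases j <;> simp [Subtype.ext_iff] at e ⊢ <;>
      first | exact ha1 e | exact ha1 e.symm
  have h4 : Nat.card (MulAction.fixedPoints (zpowers k) Z) = 4 := by
    rw [Nat.ModEq] at hmod; omega
  have hall : ∀ z ∈ Z, k * z * k⁻¹ = z := by
    intro z hz
    have : MulAction.fixedPoints (zpowers k) Z = Set.univ :=
      Set.eq_of_subset_of_ncard_le (Set.subset_univ _)
        (by rw [Set.ncard_univ, ← Nat.card_coe_set_eq, h4, show Nat.card Z = 4 from card_meet h i₁])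
    exact congrArg Subtype.val ((this.ge (Set.mem_univ (⟨z, hz⟩ : Z))) ⟨k, mem_zpowers k⟩)
  obtain ⟨l₂, l₃, i₂, i₃, h₁₂, h₁₃, h₂₃⟩ := exists_two_other h l
  have hkA := mem_A_of_fix h hk i₁ i₂ i₃ h₁₂ h₁₃ h₂₃ hall (hkl _ i₂) (hkl _ i₃)
  have := orderOf_dvd_of_pow_eq_one (show k ^ 2 = 1 by rw [pow_two]; exact F.A_sq hkA)
  rw [hko] at this
  omega

/-- An element of order three fixing all lines through the base point commutes with three
involutions on every line through it. -/
theorem exists_three {k : G} (hk : k ∈ normalizer (F.A : Set G)) (hko : orderOf k = 3)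
    (hkl : ∀ l, Inc F (QuotientGroup.mk 1) l → k • l = l) {l : G ⧸ normalizer (F.B : Set G)}
    (hl : Inc F (QuotientGroup.mk 1) l) :
    3 ≤ Nat.card {t : G // t ∈ normalizer (F.A : Set G) ∧ orderOf t = 2 ∧ Commute t k ∧
      t ∈ pt F.B l} := by
  haveI : Fact (Nat.Prime 3) := ⟨Nat.prime_three⟩
  set N := normalizer (F.A : Set G) with hN
  have hbk : k • (QuotientGroup.mk 1 : G ⧸ N) = QuotientGroup.mk 1 := by
    rw [smul_mk_eq_iff]; simpa using hk
  obtain ⟨c, hc1, hc2⟩ := inc_flag h hl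
  have hcN : c ∈ N := smul_base_eq_iff.1 hc1.symm
  have hBN : pt F.B l ≤ N := by
    intro t ht
    rw [hc2, mem_pt_mk] at ht
    have h1 := mul_mem (mul_mem hcN (F.norm_A (F.B_le ht))) (inv_mem hcN)
    simpa [mul_assoc] using h1
  have hsq : ∀ t ∈ pt F.B l, t * t = 1 := fun t ht => sq_of_mem_pt (F := F.symm) ht
  have hcomm : ∀ s ∈ pt F.B l, ∀ t ∈ pt F.B l, s * t = t * s := by
    rintro _ ⟨s, hs, rfl⟩ _ ⟨t, ht, rfl⟩
    rw [← map_mul, ← map_mul, F.B_comm hs ht]
  set Z := pt F.A (QuotientGroup.mk 1) ⊓ pt F.B l with hZ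
  have hZ4 : Nat.card Z = 4 := card_meet h hl
  -- modulo the centre of the line `k` is central
  have hcoset : ∀ t ∈ pt F.B l, t⁻¹ * (k⁻¹ * t * k) ∈ Z := by
    intro t ht
    obtain ⟨l₂, l₃, i₂, i₃, h₁₂, h₁₃, h₂₃⟩ := exists_two_other h l
    have htN := hBN ht
    have hbt : t • (QuotientGroup.mk 1 : G ⧸ N) = QuotientGroup.mk 1 := by
      rw [smul_mk_eq_iff]; simpa using htN
    have hconj : ∀ m, Inc F (QuotientGroup.mk 1) m → (t⁻¹ * k⁻¹ * t * k) • m = m := by
      intro m hm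
      have hm' : Inc F (QuotientGroup.mk 1) (t • m) := by
        have h1 := inc_smul t hm
        rwa [hbt] at h1
      rw [mul_smul, hkl m hm, mul_smul, mul_smul, inv_smul_eq_iff.2 (hkl _ hm').symm, inv_smul_smul]
    have hkl' : k⁻¹ * t * k ∈ pt F.B l := by
      have h1 := (mem_pt_smul k⁻¹).2 ht
      rw [inv_smul_eq_iff.2 (hkl l hl).symm, inv_inv] at h1
      exact h1
    have hfix : ∀ a ∈ Z, t⁻¹ * k⁻¹ * t * k * a * (t⁻¹ * k⁻¹ * t * k)⁻¹ = a := by
      intro a ha
      have e1 : Commute (t⁻¹ * (k⁻¹ * t * k)) a :=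
        hcomm _ (mul_mem (inv_mem ht) hkl') _ ha.2
      rw [show t⁻¹ * k⁻¹ * t * k = t⁻¹ * (k⁻¹ * t * k) by group, e1.eq, mul_inv_cancel_right]
    have hdA := mem_A_of_fix h (mul_mem (mul_mem (mul_mem (inv_mem htN) (inv_mem hk)) htN) hk)
      hl i₂ i₃ h₁₂ h₁₃ h₂₃ hfix (hconj _ i₂) (hconj _ i₃)
    rw [show t⁻¹ * (k⁻¹ * t * k) = t⁻¹ * k⁻¹ * t * k by group]
    refine mem_inf.2 ⟨by rw [pt_base]; exact hdA, ?_⟩
    rw [show t⁻¹ * k⁻¹ * t * k = t⁻¹ * (k⁻¹ * t * k) by group]
    exact mul_mem (inv_mem ht) hkl'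
  -- the fixed subgroup
  have hklz : ∀ j ∈ zpowers k, j • l = l := fun j hj =>
    (zpowers_le.2 (hkl l hl) : zpowers k ≤ MulAction.stabilizer G l) hj
  have hfixk : ∀ (x : G), k * x * k⁻¹ = x → ∀ j ∈ zpowers k, j * x * j⁻¹ = x := by
    rintro x hx _ ⟨i, rfl⟩
    have hc : Commute k x := mul_inv_eq_iff_eq_mul.1 hx
    show k ^ i * x * (k ^ i)⁻¹ = x
    rw [(hc.zpow_left i).eq, mul_inv_cancel_right]
  have hp : IsPGroup 3 ↥(zpowers k) :=
    IsPGroup.of_card (n := 1) (by rw [Nat.card_zpowers, hko, pow_one])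
  -- some fixed element outside `A`
  obtain ⟨t₀, ht₀, ht₀A⟩ : ∃ t ∈ pt F.B l, t ∉ F.A := by
    by_contra! hcon
    have h1 : pt F.B l ≤ Z := fun t ht => ⟨by rw [pt_base]; exact hcon t ht, ht⟩
    have h2 := card_le_of_le h1
    rw [hZ4, pt, card_map_of_injective (MulAut.conj _).injective, F.card_B] at h2
    omega
  let Ct : Set G := {y | t₀⁻¹ * y ∈ Z}
  have hCt : Nat.card Ct = 4 := by
    rw [← hZ4]
    exact Nat.card_congr ⟨fun y => ⟨_, y.2⟩, fun z => ⟨t₀ * z, by simp [Ct]⟩,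
      fun y => Subtype.ext (by simp), fun z => Subtype.ext (by simp)⟩
  have hCtl : ∀ y ∈ Ct, y ∈ pt F.B l := fun y hy => by
    simpa using mul_mem ht₀ (show t₀⁻¹ * y ∈ pt F.B l from hy.2)
  have hinv : ∀ j : zpowers k, ∀ y ∈ Ct, (j : G) * y * (j : G)⁻¹ ∈ Ct := by
    suffices h0 : ∀ n : ℕ, ∀ y ∈ Ct, k⁻¹ ^ n * y * (k⁻¹ ^ n)⁻¹ ∈ Ct by
      rintro ⟨j, hj⟩ y hy
      have hj' : j ∈ zpowers k⁻¹ := by rwa [zpowers_inv]
      obtain ⟨n, rfl⟩ :=
        (mem_powers_iff_mem_zpowers (x := k⁻¹) (y := j)).2 hj'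
      exact h0 n y hy
    intro n
    induction n with
    | zero => intro y hy; simpa using hy
    | succ n ih =>
      intro y hy
      have h1 := ih y hy
      set w := k⁻¹ ^ n * y * (k⁻¹ ^ n)⁻¹
      have h2 : w⁻¹ * (k⁻¹ * w * k) ∈ Z := hcoset w (hCtl w h1)
      have h3 : t₀⁻¹ * (k⁻¹ * w * k) ∈ Z := by
        simpa [mul_assoc] using mul_mem (show t₀⁻¹ * w ∈ Z from h1) h2
      show t₀⁻¹ * (k⁻¹ ^ (n + 1) * y * (k⁻¹ ^ (n + 1))⁻¹) ∈ Z
      rwa [show k⁻¹ ^ (n + 1) * y * (k⁻¹ ^ (n + 1))⁻¹ = k⁻¹ * w * k by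
        rw [pow_succ']; simp [w, mul_assoc]]
  obtain ⟨t, htCt, htk⟩ : ∃ t ∈ Ct, k * t * k⁻¹ = t := by
    letI : MulAction (zpowers k) Ct :=
      { smul := fun j y => ⟨_, hinv j y y.2⟩
        one_smul := fun y => Subtype.ext (by
          show ((1 : zpowers k) : G) * (y : G) * ((1 : zpowers k) : G)⁻¹ = y
          simp)
        mul_smul := fun x y z => Subtype.ext (by
          show ((x * y : zpowers k) : G) * (z : G) * ((x * y : zpowers k) : G)⁻¹ =
            (x : G) * ((y : G) * z * (y : G)⁻¹) * (x : G)⁻¹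
          simp [mul_assoc]) }
    have hmod := hp.card_modEq_card_fixedPoints Ct
    rw [hCt] at hmod
    have hne : Nonempty (MulAction.fixedPoints (zpowers k) Ct) := by
      by_contra he
      rw [not_nonempty_iff] at he
      rw [Nat.card_of_isEmpty] at hmod
      revert hmod; decide
    obtain ⟨⟨⟨y, hy⟩, hfy⟩⟩ := hne
    exact ⟨y, hy, congrArg Subtype.val (hfy ⟨k, mem_zpowers k⟩)⟩
  have htl := hCtl t htCt
  have htA : t ∉ F.A := fun hA => ht₀A (by
    have h1 : t₀⁻¹ * t ∈ F.A := by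
      have := htCt.1; rwa [pt_base] at this
    simpa using mul_mem hA (inv_mem h1))
  have ht1 : t ≠ 1 := fun e => htA (e ▸ one_mem _)
  -- the fixed subgroup has order at least four
  letI : MulAction (zpowers k) (pt F.B l) :=
    { smul := fun j y => ⟨(j : G) * y * (j : G)⁻¹, by
        have := (mem_pt_smul (j : G)).2 y.2
        rwa [hklz _ j.2] at this⟩
      one_smul := fun y => Subtype.ext (by
        show ((1 : zpowers k) : G) * (y : G) * ((1 : zpowers k) : G)⁻¹ = y
        simp)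
      mul_smul := fun x y z => Subtype.ext (by
        show ((x * y : zpowers k) : G) * (z : G) * ((x * y : zpowers k) : G)⁻¹ =
          (x : G) * ((y : G) * z * (y : G)⁻¹) * (x : G)⁻¹
        simp [mul_assoc]) }
  have hmod := hp.card_modEq_card_fixedPoints (pt F.B l)
  rw [show Nat.card (pt F.B l) = 16 from
    (card_map_of_injective (MulAut.conj _).injective).trans F.card_B] at hmod
  have h2le : 2 ≤ Nat.card (MulAction.fixedPoints (zpowers k) ↥(pt F.B l)) := by
    refine le_trans (by simp) (Nat.card_le_card_of_injective (α := Fin 2)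
      ![⟨⟨1, one_mem _⟩, fun j => Subtype.ext (by
          show (j : G) * 1 * (j : G)⁻¹ = 1
          simp)⟩,
        ⟨⟨t, htl⟩, fun j => Subtype.ext (hfixk t htk j j.2)⟩] ?_)
    intro i j e
    fin_cases i <;> fin_cases j <;> simp [Subtype.ext_iff] at e ⊢ <;>
      first | exact ht1 e | exact ht1 e.symm
  have h4le : 4 ≤ Nat.card (MulAction.fixedPoints (zpowers k) ↥(pt F.B l)) := by
    rw [Nat.ModEq] at hmod; omega
  classical
  letI := Fintype.ofFinite (MulAction.fixedPoints (zpowers k) ↥(pt F.B l))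
  let one' : MulAction.fixedPoints (zpowers k) ↥(pt F.B l) :=
    ⟨⟨1, one_mem _⟩, fun j => Subtype.ext (by
      show (j : G) * 1 * (j : G)⁻¹ = 1
      simp)⟩
  have h3 : 3 ≤ Nat.card {y : MulAction.fixedPoints (zpowers k) ↥(pt F.B l) // y ≠ one'} := by
    rw [Nat.card_eq_fintype_card] at h4le
    rw [Nat.card_eq_fintype_card, Fintype.card_subtype_compl, Fintype.card_subtype_eq]
    omega
  refine h3.trans (Nat.card_le_card_of_injective
    (fun y => ⟨((y.1 : ↥(pt F.B l)) : G), hBN (y.1 : ↥(pt F.B l)).2,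
      orderOf_eq_two_iff.2 ⟨hsq _ (y.1 : ↥(pt F.B l)).2, fun e => y.2 (Subtype.ext (Subtype.ext e))⟩,
      ((mul_inv_eq_iff_eq_mul.1 (congrArg Subtype.val (y.1.2 ⟨k, mem_zpowers k⟩))).symm :),
      (y.1 : ↥(pt F.B l)).2⟩) ?_)
  intro x y e
  exact Subtype.ext (Subtype.ext (Subtype.ext (congrArg Subtype.val e :)))

/-- An involution of `N(A)` commuting with `k` fixes no other point of the orbit of `C(k)`. -/
theorem two_fixed {k : G} (hk : k ∈ normalizer (F.A : Set G)) (hko : orderOf k = 3)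
    (hkl : ∀ l, Inc F (QuotientGroup.mk 1) l → k • l = l) {t g : G} (hgk : Commute g k)
    (ht : orderOf t = 2) (htk : Commute t k) (htN : t ∈ normalizer (F.A : Set G))
    (htg : g⁻¹ * t * g ∈ normalizer (F.A : Set G)) : g ∈ normalizer (F.A : Set G) := by
  by_contra hg
  set b : G ⧸ normalizer (F.A : Set G) := QuotientGroup.mk 1 with hb
  set q : G ⧸ normalizer (F.A : Set G) := QuotientGroup.mk g with hq
  have hqb : q ≠ b := fun e => hg (smul_base_eq_iff.1 e)
  have ht1 := ne_one ht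
  obtain ⟨l, hl⟩ := exists_pt' h ht
  have htl : t ∈ pt F.B l := hl
  have htb : t • b = b := by rw [hb, smul_mk_eq_iff]; simpa using htN
  have htq : t • q = q := by rw [hq, smul_mk_eq_iff]; exact htg
  have ibl := (fixed_iff' h ht1 htl b).1 htb
  have iql := (fixed_iff' h ht1 htl q).1 htq
  obtain ⟨r, hr⟩ := exists_pt h ht
  have irl : Inc F r l := ⟨t, ht1, hr, htl⟩
  have hcfree : ∀ a ∈ F.A, a ≠ 1 → ¬ Commute k a := fun a ha ha1 hc =>
    scalar_free h hk hko hkl ha ha1 (by rw [hc.eq, mul_inv_cancel_right])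
  have hrb : b ≠ r := fun e => by
    rw [← e, hb, pt_base] at hr
    exact hcfree t hr ht1 htk.symm
  have hrq : q ≠ r := fun e => by
    rw [← e, hq, mem_pt_mk] at hr
    refine hcfree _ hr (fun e1 => ht1 ?_) ?_
    · calc t = g * (g⁻¹ * t * g) * g⁻¹ := by group
        _ = 1 := by rw [e1]; group
    exact (hgk.inv_left.mul_left htk |>.mul_left hgk).symm
  have hkb : k • b = b := by rw [hb, smul_mk_eq_iff]; simpa using hk
  have hkq : k • q = q := by
    rw [hq, smul_mk_eq_iff, mul_assoc, ← hgk.eq, inv_mul_cancel_left]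
    exact hk
  have hkt : k * t * k⁻¹ = t := by rw [← htk.eq, mul_inv_cancel_right]
  have hkr : k • r = r := by
    have h1 := (mem_pt_smul k).2 hr
    rw [hkt] at h1
    exact pt_unique h ht1 h1 hr
  have hkll : k • l = l := hkl l ibl
  have hinv : ∀ p : G ⧸ normalizer (F.A : Set G), k • p = p →
      ∀ a ∈ pt F.A p ⊓ pt F.B l, k * a * k⁻¹ ∈ pt F.A p ⊓ pt F.B l := by
    intro p hp a ha
    have h1 := (mem_pt_smul k).2 ha.1
    have h2 := (mem_pt_smul k).2 ha.2
    rw [hp] at h1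
    rw [hkll] at h2
    exact ⟨h1, h2⟩
  have hdis : ∀ p p' : G ⧸ normalizer (F.A : Set G), p ≠ p' →
      (pt F.A p ⊓ pt F.B l) ⊓ (pt F.A p' ⊓ pt F.B l) = ⊥ := by
    intro p p' hpp
    rw [eq_bot_iff_forall]
    intro z hz
    by_contra hz1
    exact hpp (pt_unique h hz1 hz.1.1 hz.2.1)
  -- the centre of `r` is fixed pointwise
  set Zr := pt F.A r ⊓ pt F.B l with hZr
  have hfixr : ∀ a ∈ Zr, k * a * k⁻¹ = a := by
    haveI : Fact (Nat.Prime 3) := ⟨Nat.prime_three⟩
    have hzp : ∀ j ∈ zpowers k, j • r = r ∧ j • l = l := fun j hj =>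
      ⟨(zpowers_le.2 hkr : zpowers k ≤ MulAction.stabilizer G r) hj,
        (zpowers_le.2 hkll : zpowers k ≤ MulAction.stabilizer G l) hj⟩
    letI : MulAction (zpowers k) Zr :=
      { smul := fun j y => ⟨(j : G) * y * (j : G)⁻¹, by
          have h1 := (mem_pt_smul (j : G)).2 y.2.1
          have h2 := (mem_pt_smul (j : G)).2 y.2.2
          rw [(hzp _ j.2).1] at h1
          rw [(hzp _ j.2).2] at h2
          exact ⟨h1, h2⟩⟩
        one_smul := fun y => Subtype.ext (by
          show ((1 : zpowers k) : G) * (y : G) * ((1 : zpowers k) : G)⁻¹ = y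
          simp)
        mul_smul := fun x y z => Subtype.ext (by
          show ((x * y : zpowers k) : G) * (z : G) * ((x * y : zpowers k) : G)⁻¹ =
            (x : G) * ((y : G) * z * (y : G)⁻¹) * (x : G)⁻¹
          simp [mul_assoc]) }
    have hp : IsPGroup 3 ↥(zpowers k) :=
      IsPGroup.of_card (n := 1) (by rw [Nat.card_zpowers, hko, pow_one])
    have hmod := hp.card_modEq_card_fixedPoints Zr
    rw [show Nat.card Zr = 4 from card_meet h irl] at hmod
    have hle : Nat.card (MulAction.fixedPoints (zpowers k) Zr) ≤ 4 := by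
      rw [← show Nat.card Zr = 4 from card_meet h irl]
      exact Nat.card_le_card_of_injective _ Subtype.val_injective
    have h2le : 2 ≤ Nat.card (MulAction.fixedPoints (zpowers k) Zr) := by
      refine le_trans (by simp) (Nat.card_le_card_of_injective (α := Fin 2)
        ![⟨⟨1, one_mem _⟩, fun j => Subtype.ext (by
            show (j : G) * 1 * (j : G)⁻¹ = 1
            simp)⟩,
          ⟨⟨t, hr, htl⟩, fun j => Subtype.ext (by
            obtain ⟨_, i, rfl⟩ := j
            show k ^ i * t * (k ^ i)⁻¹ = t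
            rw [((htk.symm).zpow_left i).eq, mul_inv_cancel_right])⟩] ?_)
      intro i j e
      fin_cases i <;> fin_cases j <;> simp [Subtype.ext_iff] at e ⊢ <;>
        first | exact ht1 e | exact ht1 e.symm
    have h4 : Nat.card (MulAction.fixedPoints (zpowers k) Zr) = 4 := by
      rw [Nat.ModEq] at hmod; omega
    intro a ha
    have : MulAction.fixedPoints (zpowers k) Zr = Set.univ :=
      Set.eq_of_subset_of_ncard_le (Set.subset_univ _)
        (by rw [Set.ncard_univ, ← Nat.card_coe_set_eq, h4, show Nat.card Zr = 4 from card_meet h irl])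
    exact congrArg Subtype.val ((this.ge (Set.mem_univ (⟨a, ha⟩ : Zr))) ⟨k, mem_zpowers k⟩)
  have hall := fix_of_fix (V := pt F.B l)
    (by rw [pt, card_map_of_injective (MulAut.conj _).injective, F.card_B]) inf_le_right
    inf_le_right inf_le_right (card_meet h irl) (card_meet h ibl) (card_meet h iql)
    (hdis r b (Ne.symm hrb)) (hdis r q (Ne.symm hrq)) (hdis b q (Ne.symm hqb)) k hfixr
    (hinv b hkb) (hinv q hkq)
  obtain ⟨z, hz1, hzb, hzl⟩ := ibl
  rw [hb, pt_base] at hzb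
  exact scalar_free h hk hko hkl hzb hz1 (hall z hzl)

/-- The centraliser of `k` fixes the point and contains an involution. -/
theorem centralizer_le {k : G} (hk : k ∈ normalizer (F.A : Set G)) (hko : orderOf k = 3)
    (hkl : ∀ l, Inc F (QuotientGroup.mk 1) l → k • l = l) :
    centralizer ({k} : Set G) ≤ normalizer (F.A : Set G) ∧
      ∃ t : G, orderOf t = 2 ∧ Commute t k := by
  classical
  set N := normalizer (F.A : Set G) with hN
  set C := centralizer ({k} : Set G) with hC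
  obtain ⟨l₁, l₂, i₁, i₂, -, -, h₁₂⟩ := exists_two_other h (QuotientGroup.mk 1)
  let T := {t : G // t ∈ N ∧ orderOf t = 2 ∧ Commute t k}
  have h6 : 6 ≤ Nat.card T := by
    have e1 := exists_three h hk hko hkl i₁
    have e2 := exists_three h hk hko hkl i₂
    have hinj : Function.Injective (Sum.elim
        (fun t : {t : G // t ∈ N ∧ orderOf t = 2 ∧ Commute t k ∧ t ∈ pt F.B l₁} =>
          (⟨t, t.2.1, t.2.2.1, t.2.2.2.1⟩ : T))
        (fun t : {t : G // t ∈ N ∧ orderOf t = 2 ∧ Commute t k ∧ t ∈ pt F.B l₂} =>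
          (⟨t, t.2.1, t.2.2.1, t.2.2.2.1⟩ : T))) := by
      have hne : ∀ (x : {t : G // t ∈ N ∧ orderOf t = 2 ∧ Commute t k ∧ t ∈ pt F.B l₁})
          (y : {t : G // t ∈ N ∧ orderOf t = 2 ∧ Commute t k ∧ t ∈ pt F.B l₂}), (x : G) ≠ y :=
        fun x y e => h₁₂ (pt_unique (F := F.symm) h.symm (ne_one x.2.2.1) x.2.2.2.2
          (e ▸ y.2.2.2.2))
      rintro (x | x) (y | y) e <;>
        have e' := congrArg (fun t : T => (t : G)) e <;> simp only [Sum.elim_inl, Sum.elim_inr] at e'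
      · exact congrArg Sum.inl (Subtype.ext e')
      · exact absurd e' (hne x y)
      · exact absurd e'.symm (hne y x)
      · exact congrArg Sum.inr (Subtype.ext e')
    have := Nat.card_le_card_of_injective _ hinj
    rw [Nat.card_sum] at this
    exact le_trans (Nat.add_le_add e1 e2) this
  obtain ⟨⟨s, hsN, hs, hsk⟩⟩ : Nonempty T := (Nat.card_pos_iff.1 (by omega)).1
  refine ⟨?_, s, hs, hsk⟩
  by_contra hnot
  haveI : Fact (Nat.Prime 2) := ⟨Nat.prime_two⟩
  have hkc : ∀ {x : G}, x ∈ C ↔ Commute x k := fun {x} => mem_cent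
  set H : Subgroup C := N.subgroupOf C with hH
  have hSE : Cfsg.IsStronglyEmbedded H := by
    refine ⟨fun e => hnot (subgroupOf_eq_top.1 e), ?_, fun g hg => ?_⟩
    · rw [even_iff_two_dvd, ← hs]
      exact (show orderOf s = orderOf (⟨⟨s, hkc.2 hsk⟩, hsN⟩ : H) by
        rw [← orderOf_coe, ← orderOf_coe]) ▸ orderOf_dvd_natCard _
    · by_contra hev
      rw [Nat.not_odd_iff_even, even_iff_two_dvd] at hev
      obtain ⟨⟨t, ht₁, u, hu, hut⟩, hto⟩ := exists_prime_orderOf_dvd_card' (G := ↥(H ⊓ H.map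
        (MulAut.conj g).toMonoidHom)) 2 hev
      replace hto : orderOf (t : G) = 2 := (orderOf_coe t).trans ((orderOf_mk (H := H ⊓ H.map
        (MulAut.conj g).toMonoidHom) t ⟨ht₁, u, hu, hut⟩).symm.trans hto)
      refine hg (two_fixed h hk hko hkl (hkc.1 g.2) hto (hkc.1 t.2) ht₁ ?_)
      have hu' : (u : G) ∈ N := hu
      have e : (g : G) * u * (g : G)⁻¹ = t := congrArg Subtype.val hut
      rw [← e]
      simpa [mul_assoc] using hu'
  -- an involution outside
  obtain ⟨g₀, hg₀⟩ : ∃ g : C, g ∉ H := by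
    by_contra! hall
    exact hSE.1 ((eq_top_iff' H).2 hall)
  obtain ⟨u, hu, hux⟩ := CfsgLib.TwoFusion.fixingInvolutions_nonempty hSE
    (QuotientGroup.mk g₀ : C ⧸ H)
  have hub : u • (QuotientGroup.mk 1 : C ⧸ H) ≠ QuotientGroup.mk 1 := fun e => by
    have h1 := CfsgLib.TwoFusion.fix_unique hSE hu hux e
    rw [QuotientGroup.eq, mul_one, inv_mem_iff] at h1
    exact hg₀ h1
  have huN : (u : G) ∉ N := fun e => hub (by
    rw [smul_mk_eq_iff]; simpa [hH, mem_subgroupOf] using e)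
  have huo : orderOf (u : G) = 2 := by rw [orderOf_coe, hu]
  have huk : Commute (u : G) k := hkc.1 u.2
  -- the two point stabiliser
  set X : Subgroup G := C ⊓ N ⊓ N.map (MulAut.conj (u : G)).toMonoidHom with hXdef
  have hXN : X ≤ N := inf_le_left.trans inf_le_right
  have hXodd : Odd (Nat.card X) := by
    by_contra hev
    rw [Nat.not_odd_iff_even, even_iff_two_dvd] at hev
    obtain ⟨⟨t, ⟨htC, htN⟩, htu⟩, hto⟩ := exists_prime_orderOf_dvd_card' (G := X) 2 hev
    replace hto : orderOf t = 2 := (orderOf_mk (H := X) t ⟨⟨htC, htN⟩, htu⟩).symm.trans hto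
    exact huN (two_fixed h hk hko hkl huk hto (hkc.1 htC) htN (mem_map_conj.1 htu))
  have hkX : k ∈ X := by
    refine ⟨⟨hkc.2 (Commute.refl k), hk⟩, mem_map_conj.2 ?_⟩
    rw [mul_assoc, ← huk.eq, inv_mul_cancel_left]
    exact hk
  have hd : ∀ t : T, ∃ d : X, (d : G) * s * (d : G)⁻¹ = t := by
    intro t
    obtain ⟨d, hd1, hd2, hd3⟩ := CfsgLib.TwoFusion.exists_conj_in_two_point_stabilizer hSE hu hub
      (s := ⟨s, hkc.2 hsk⟩) (t := ⟨t, hkc.2 t.2.2.2⟩)
      ⟨by rw [← orderOf_coe]; exact hs, by rw [smul_mk_eq_iff]; simpa [hH, mem_subgroupOf] using hsN⟩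
      ⟨by rw [← orderOf_coe]; exact t.2.2.1, by
        rw [smul_mk_eq_iff]; simpa [hH, mem_subgroupOf] using t.2.1⟩
    refine ⟨⟨d, ⟨d.2, ?_⟩, mem_map_conj.2 ?_⟩, congrArg Subtype.val hd3⟩
    · rw [smul_mk_eq_iff] at hd1
      simpa [hH, mem_subgroupOf] using hd1
    · rw [show u • (QuotientGroup.mk 1 : C ⧸ H) = QuotientGroup.mk u from by
        show (QuotientGroup.mk (u * 1) : C ⧸ H) = _
        rw [mul_one], smul_mk_eq_iff] at hd2
      simpa [hH, mem_subgroupOf] using hd2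
  choose d hd using hd
  have hinj : Function.Injective fun x : T × zpowers k =>
      (⟨(d x.1 : G) * x.2, mul_mem (d x.1).2 (zpowers_le.2 hkX x.2.2)⟩ : X) := by
    rintro ⟨t, j⟩ ⟨t', j'⟩ e
    have e1 : (d t : G) * j = (d t' : G) * j' := congrArg Subtype.val e
    have hjs : ∀ j : zpowers k, (j : G) * s * (j : G)⁻¹ = s := by
      rintro ⟨_, i, rfl⟩
      show k ^ i * s * (k ^ i)⁻¹ = s
      rw [((hsk.symm).zpow_left i).eq, mul_inv_cancel_right]
    have h1 : (t : G) = t' := by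
      have a1 : (d t : G) * j * s * ((d t : G) * j)⁻¹ = t := by
        rw [show (d t : G) * j * s * ((d t : G) * j)⁻¹ = (d t : G) * ((j : G) * s * (j : G)⁻¹) *
          (d t : G)⁻¹ by group, hjs, hd]
      have a2 : (d t' : G) * j' * s * ((d t' : G) * j')⁻¹ = t' := by
        rw [show (d t' : G) * j' * s * ((d t' : G) * j')⁻¹ = (d t' : G) * ((j' : G) * s *
          (j' : G)⁻¹) * (d t' : G)⁻¹ by group, hjs, hd]
      rw [← a1, ← a2, e1]
    obtain rfl : t = t' := Subtype.ext h1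
    exact Prod.ext rfl (Subtype.ext (mul_left_cancel e1))
  have h18 := Nat.card_le_card_of_injective _ hinj
  rw [Nat.card_prod, Nat.card_zpowers, hko] at h18
  have h15 := (card_odd_le h hXN hXodd).1
  omega

/-- Any two points are collinear. -/
theorem exists_line {p q : G ⧸ normalizer (F.A : Set G)} (hpq : p ≠ q) :
    ∃ l : G ⧸ normalizer (F.B : Set G), Inc F p l ∧ Inc F q l := by
  classical
  revert hpq
  revert p q
  set N := normalizer (F.A : Set G) with hN
  intro p q hpq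
  letI : Fintype G := Fintype.ofFinite _
  letI : Fintype (G ⧸ N) := Fintype.ofFinite _
  let Col : G ⧸ N → G ⧸ N → Prop := fun p q => ∃ l, Inc F p l ∧ Inc F q l
  by_contra hcon
  let NC : Finset ((G ⧸ N) × (G ⧸ N)) :=
    Finset.univ.filter fun pq => pq.1 ≠ pq.2 ∧ ¬ Col pq.1 pq.2
  have hNC : 0 < NC.card := Finset.card_pos.2 ⟨(p, q), by
    simp only [NC, Finset.mem_filter, Finset.mem_univ, true_and]; exact ⟨hpq, hcon⟩⟩
  let U : Finset (G × ((G ⧸ N) × (G ⧸ N))) := (Finset.univ ×ˢ NC).filter fun x =>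
    orderOf x.1 = 2 ∧ x.1 ∈ pt F.A x.2.1
  -- fifteen involutions with a given point
  have hlow : 15 * NC.card ≤ U.card := by
    refine Finset.mul_card_image_le_card_of_maps_to (f := fun x => x.2) ?_ 15 ?_ |>.trans' le_rfl
    · intro x hx
      exact (Finset.mem_product.1 (Finset.mem_filter.1 hx).1).2
    · intro pq hpq'
      let i : {d : pt F.A pq.1 // d ≠ 1} →
          {x : G × ((G ⧸ N) × (G ⧸ N)) // x ∈ U.filter fun x => x.2 = pq} :=
        fun d => ⟨(((d : pt F.A pq.1) : G), pq), by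
          simp only [U, Finset.mem_filter, Finset.mem_product, Finset.mem_univ, true_and]
          exact ⟨⟨hpq', orderOf_eq_two_iff.2 ⟨sq_of_mem_pt (d : pt F.A pq.1).2,
            fun e => d.2 (Subtype.ext e)⟩, (d : pt F.A pq.1).2⟩, trivial⟩⟩
      have hi : Function.Injective i := fun a b e => by
        have h1 := congrArg (fun x : {x : G × ((G ⧸ N) × (G ⧸ N)) //
          x ∈ U.filter fun x => x.2 = pq} => x.1.1) e
        exact Subtype.ext (Subtype.ext h1)
      have h2 := Nat.card_le_card_of_injective i hi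
      rw [Nat.card_eq_fintype_card, Fintype.card_subtype_compl, Fintype.card_subtype_eq,
        ← Nat.card_eq_fintype_card, pt, card_map_of_injective (MulAut.conj _).injective, F.card_A,
        Nat.card_eq_fintype_card, Fintype.card_coe] at h2
      exact h2
  -- fewer exchange a given pair
  have hup : U.card ≤ 14 * NC.card := by
    refine Finset.card_le_mul_card_image_of_maps_to (f := fun x => (x.2.2, x.1 • x.2.2)) ?_ 14 ?_
    · intro x hx
      simp only [U, NC, Finset.mem_filter, Finset.mem_product, Finset.mem_univ, true_and] at hx ⊢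
      obtain ⟨⟨hne, hnc⟩, hz, hzp⟩ := hx
      obtain ⟨l, hl⟩ := exists_pt' h hz
      have hzl : x.1 ∈ pt F.B l := hl
      have hinc : Inc F x.2.1 l := ⟨x.1, ne_one hz, hzp, hzl⟩
      have hne2 : x.2.2 ≠ x.1 • x.2.2 := fun e =>
        hnc ⟨l, hinc, (fixed_iff' h (ne_one hz) hzl _).1 e.symm⟩
      refine ⟨hne2, fun ⟨m, h1, h2⟩ => hnc ?_⟩
      have h3 := inc_smul x.1 h2
      rw [smul_smul, mul_self_eq_one hz, one_smul] at h3
      have h4 := line_unique h hne2 h1 h2 h3 (inc_smul x.1 h1)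
      exact ⟨m, (fixed_iff h (ne_one hz) hzp m).1 h4.symm, h1⟩
    · intro pq hpq'
      simp only [NC, Finset.mem_filter, Finset.mem_univ, true_and] at hpq'
      by_cases hemp : (U.filter fun x => (x.2.2, x.1 • x.2.2) = pq) = ∅
      · simp [hemp]
      obtain ⟨x₀, hx₀⟩ := Finset.nonempty_iff_ne_empty.2 hemp
      set X := MulAction.stabilizer G pq.1 ⊓ MulAction.stabilizer G pq.2 with hX
      haveI : Fact (Nat.Prime 2) := ⟨Nat.prime_two⟩
      have hnofix : ∀ t : G, orderOf t = 2 → t • pq.1 = pq.1 → t • pq.2 = pq.2 → False := by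
        intro t ht h1 h2
        obtain ⟨l, hl⟩ := exists_pt' h ht
        exact hpq'.2 ⟨l, (fixed_iff' h (ne_one ht) hl _).1 h1, (fixed_iff' h (ne_one ht) hl _).1 h2⟩
      have hXodd : Odd (Nat.card X) := by
        by_contra hev
        rw [Nat.not_odd_iff_even] at hev
        obtain ⟨⟨x, hx⟩, hxo⟩ := exists_prime_orderOf_dvd_card' (G := X) 2 hev.two_dvd
        rw [orderOf_mk] at hxo
        exact hnofix x hxo hx.1 hx.2
      have hmove : ∀ p₀ : G ⧸ N, X ≤ MulAction.stabilizer G p₀ →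
          Nat.card X ≤ 15 ∧ (Nat.card X = 15 → ∀ k ∈ X, orderOf k = 3 →
            (∀ x : G, Commute x k → x • p₀ = p₀) ∧ ∃ t : G, orderOf t = 2 ∧ Commute t k) := by
        intro p₀ hp₀
        obtain ⟨g, hg⟩ := MulAction.exists_smul_eq G p₀ (QuotientGroup.mk 1 : G ⧸ N)
        set X₁ := X.map (MulAut.conj g).toMonoidHom with hX₁
        have hc : Nat.card X₁ = Nat.card X := card_map_of_injective (MulAut.conj g).injective
        have hX₁N : X₁ ≤ N := by
          rintro _ ⟨a, ha, rfl⟩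
          have h1 : (g * a * g⁻¹) • (QuotientGroup.mk 1 : G ⧸ N) = QuotientGroup.mk 1 := by
            rw [← hg, mul_smul, mul_smul, inv_smul_smul, show a • p₀ = p₀ from hp₀ ha]
          rw [Plane.smul_mk_eq_iff] at h1
          simpa using h1
        obtain ⟨h15, hk15⟩ := card_odd_le h hX₁N (hc ▸ hXodd)
        refine ⟨hc ▸ h15, fun e k hk hko => ?_⟩
        have hk' : g * k * g⁻¹ ∈ X₁ := ⟨k, hk, rfl⟩
        have hko' : orderOf (g * k * g⁻¹) = 3 := by rw [orderOf_conj, hko]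
        obtain ⟨hle, t, ht, htk⟩ := centralizer_le h (hX₁N hk') hko'
          (hk15 (hc.trans e) _ hk' (by rw [← hko']; exact pow_orderOf_eq_one _))
        refine ⟨fun x hx => ?_, g⁻¹ * t * g, ?_, ?_⟩
        · have h1 : g * x * g⁻¹ ∈ N := hle (mem_cent.2 (hx.map (MulAut.conj g).toMonoidHom))
          have h2 : (g * x * g⁻¹) • (QuotientGroup.mk 1 : G ⧸ N) = QuotientGroup.mk 1 := by
            rw [smul_mk_eq_iff]; simpa using h1
          rw [← hg, smul_smul, inv_mul_cancel_right, mul_smul] at h2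
          exact smul_left_cancel g h2
        · have := orderOf_conj g⁻¹ t
          rw [inv_inv] at this
          rw [this, ht]
        · have h1 := htk.map (MulAut.conj g⁻¹).toMonoidHom
          simpa [mul_assoc] using h1
      have hX14 : Nat.card X ≤ 14 := by
        obtain ⟨h15, hk1⟩ := hmove pq.1 inf_le_left
        obtain ⟨-, hk2⟩ := hmove pq.2 inf_le_right
        by_contra hgt
        have e : Nat.card X = 15 := by omega
        haveI : Fact (Nat.Prime 3) := ⟨Nat.prime_three⟩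
        obtain ⟨⟨k, hk⟩, hko⟩ := exists_prime_orderOf_dvd_card' (G := X) 3 (by omega)
        rw [orderOf_mk] at hko
        obtain ⟨hf1, t, ht, htk⟩ := hk1 e k hk hko
        exact hnofix t ht (hf1 t htk) ((hk2 e k hk hko).1 t htk)
      refine le_trans ?_ hX14
      have key : ∀ x ∈ U.filter fun x => (x.2.2, x.1 • x.2.2) = pq,
          orderOf x.1 = 2 ∧ x.1 • pq.1 = pq.2 ∧ x.1 • pq.2 = pq.1 ∧ x.1 ∈ pt F.A x.2.1 := by
        intro x hx
        simp only [U, Finset.mem_filter, Finset.mem_product, Finset.mem_univ, true_and] at hx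
        obtain ⟨⟨-, hz, hzp⟩, hx2⟩ := hx
        subst hx2
        exact ⟨hz, rfl, by rw [smul_smul, mul_self_eq_one hz, one_smul], hzp⟩
      let j : {x : G × ((G ⧸ N) × (G ⧸ N)) //
          x ∈ U.filter fun x => (x.2.2, x.1 • x.2.2) = pq} → X :=
        fun x => ⟨x₀.1 * x.1.1, by
          obtain ⟨-, a1, a2, -⟩ := key _ x.2
          obtain ⟨-, b1, b2, -⟩ := key _ hx₀
          constructor
          · show (x₀.1 * x.1.1) • pq.1 = pq.1
            rw [mul_smul, a1, b2]
          · show (x₀.1 * x.1.1) • pq.2 = pq.2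
            rw [mul_smul, a2, b1]⟩
      have hj : Function.Injective j := fun a b e => by
        have h1 : a.1.1 = b.1.1 := mul_left_cancel (congrArg Subtype.val e)
        obtain ⟨ha, -, -, ha'⟩ := key _ a.2
        obtain ⟨hb, -, -, hb'⟩ := key _ b.2
        have h2 := (Finset.mem_filter.1 a.2).2
        have h3 := (Finset.mem_filter.1 b.2).2
        refine Subtype.ext (Prod.ext h1 (Prod.ext ?_ ?_))
        · rw [← h1] at hb'; exact pt_unique h (ne_one ha) ha' hb'
        · exact (congrArg Prod.fst h2).trans (congrArg Prod.fst h3).symm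
      have h2 := Nat.card_le_card_of_injective j hj
      rwa [Nat.card_eq_fintype_card, Fintype.card_coe] at h2
  omega

end Plane

open Plane

variable [Finite G]

/-- There are twenty-one points. -/
theorem PlaneHyp.index_eq {F : Frame G} (h : PlaneHyp F) :
    (normalizer (F.A : Set G)).index = 21 := by
  classical
  set N := normalizer (F.A : Set G) with hN
  set M := normalizer (F.B : Set G) with hM
  show Nat.card (G ⧸ N) = 21
  let e : G ⧸ N := QuotientGroup.mk 1
  letI : Fintype (G ⧸ N) := Fintype.ofFinite _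
  letI : Fintype (G ⧸ M) := Fintype.ofFinite _
  let L : Finset (G ⧸ M) := Finset.univ.filter fun l => Inc F e l
  let pts : G ⧸ M → Finset (G ⧸ N) := fun l => Finset.univ.filter fun p => Inc F p l
  have hL : L.card = 5 := by
    rw [← Plane.card_pencil h e, Nat.card_eq_fintype_card, Fintype.card_subtype]
  have hpts : ∀ l, (pts l).card = 5 := fun l => by
    have h5 := Plane.card_pencil (F := F.symm) h.symm l
    rw [← h5, ← Fintype.card_subtype, ← Nat.card_eq_fintype_card]
    exact Nat.card_congr (Equiv.subtypeEquivRight fun p => inc_swap_iff.symm)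
  have hU : (Finset.univ : Finset (G ⧸ N)).erase e = L.biUnion fun l => (pts l).erase e := by
    ext q
    simp only [Finset.mem_erase, Finset.mem_univ, and_true, Finset.mem_biUnion]
    refine ⟨fun hq => ?_, fun ⟨l, _, hq, _⟩ => hq⟩
    obtain ⟨l, h1, h2⟩ := Plane.exists_line h hq
    exact ⟨l, by simp [L, h2], hq, by simp [pts, h1]⟩
  have hdisj : (L : Set (G ⧸ M)).PairwiseDisjoint fun l => (pts l).erase e := by
    intro a ha b hb hab
    rw [Function.onFun, Finset.disjoint_left]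
    intro q hqa hqb
    simp only [L, Finset.mem_coe, Finset.mem_filter, Finset.mem_univ, true_and] at ha hb
    simp only [pts, Finset.mem_erase, Finset.mem_filter, Finset.mem_univ, true_and] at hqa hqb
    exact hab (Plane.line_unique h hqa.1 hqa.2 ha hqb.2 hb)
  have h4 : ∀ l ∈ L, ((pts l).erase e).card = 4 := by
    intro l hl
    rw [Finset.card_erase_of_mem, hpts]
    simpa [L, pts] using hl
  have h := congrArg Finset.card hU
  rw [Finset.card_biUnion hdisj, Finset.card_erase_of_mem (Finset.mem_univ e),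
    Finset.sum_congr rfl h4, Finset.sum_const, hL, Finset.card_univ, ← Nat.card_eq_fintype_card,
    smul_eq_mul] at h
  omega

/-- The group embeds in the automorphism group of a projective plane of order four. -/
theorem PlaneHyp.exists_plane {F : Frame G} (h : PlaneHyp F) (_hO : oddCore G = ⊥) :
    ∃ (α : Type u) (_ : Fintype α) (_ : DecidableEq α) (L : Set (Finset α)),
      IsPlaneFour L ∧ ∃ φ : G →* Equiv.Perm α, Function.Injective φ ∧ φ.range ≤ setSystemAut L := by
  classical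
  set N := normalizer (F.A : Set G) with hN
  letI : Fintype (G ⧸ N) := Fintype.ofFinite _
  let line : G ⧸ normalizer (F.B : Set G) → Finset (G ⧸ N) := fun l =>
    Finset.univ.filter fun p => Inc F p l
  have hmem : ∀ p l, p ∈ line l ↔ Inc F p l := fun p l => by simp [line]
  have h21 : Nat.card (G ⧸ N) = 21 := h.index_eq
  refine ⟨G ⧸ N, inferInstance, inferInstance, Set.range line,
    ⟨by rw [← Nat.card_eq_fintype_card, h21], ?_, ?_⟩,
    MulAction.toPermHom G (G ⧸ N), ?_, ?_⟩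
  · rintro _ ⟨l, rfl⟩
    have h5 := Plane.card_pencil (F := F.symm) h.symm l
    rw [← h5, ← Fintype.card_subtype, ← Nat.card_eq_fintype_card]
    exact Nat.card_congr (Equiv.subtypeEquivRight fun p => inc_swap_iff.symm)
  · intro s hs
    obtain ⟨p, q, hpq, rfl⟩ := Finset.card_eq_two.1 hs
    obtain ⟨l, h1, h2⟩ := Plane.exists_line h hpq
    refine ⟨line l, ⟨⟨l, rfl⟩, by simp [Finset.insert_subset_iff, hmem, h1, h2]⟩, ?_⟩
    rintro _ ⟨⟨m, rfl⟩, hm⟩
    simp only [Finset.insert_subset_iff, Finset.singleton_subset_iff, hmem] at hm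
    rw [Plane.line_unique h hpq hm.1 hm.2 h1 h2]
  · rw [injective_iff_map_eq_one]
    set K := (MulAction.toPermHom G (G ⧸ N)).ker with hK
    have hKfix : ∀ x ∈ K, ∀ p : G ⧸ N, x • p = p := fun x hx p =>
      congrFun (congrArg DFunLike.coe (MonoidHom.mem_ker.1 hx)) p
    have hKN : K ≤ N := fun x hx => by
      have h1 := hKfix x hx (QuotientGroup.mk 1)
      rw [Plane.smul_mk_eq_iff] at h1
      simpa using h1
    have hKA : ∀ a ∈ F.A, a ∈ K → a = 1 := by
      intro a ha haK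
      by_contra ha1
      have hAK : ∀ a' ∈ F.A, a' ∈ K := by
        intro a' ha'
        by_cases ha'1 : a' = 1
        · exact ha'1 ▸ one_mem _
        obtain ⟨n, -, hn⟩ := h.transA a ha a' ha' ha1 ha'1
        exact hn ▸ (inferInstance : K.Normal).conj_mem a haK n
      obtain ⟨p, q, hpq⟩ : ∃ p q : G ⧸ N, p ≠ q := by
        have : 1 < Fintype.card (G ⧸ N) := by rw [← Nat.card_eq_fintype_card, h21]; norm_num
        exact Fintype.exists_pair_of_one_lt_card this
      have hall : ∀ r : G ⧸ N, r = QuotientGroup.mk 1 := by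
        intro r
        obtain ⟨b, rfl⟩ := QuotientGroup.mk_surjective r
        refine smul_base_eq_iff.2 ?_
        rw [← inv_mem_iff]
        refine mem_normalizer_of_le ?_
        rintro _ ⟨a', ha', rfl⟩
        simpa [mul_assoc] using Plane.smul_mk_eq_iff.1 (hKfix a' (hAK a' ha') (QuotientGroup.mk b))
      exact hpq ((hall p).trans (hall q).symm)
    intro x hx
    have hxK : x ∈ K := MonoidHom.mem_ker.2 hx
    have hxA : x ∈ F.A := h.selfA (mem_centralizer_iff.2 fun a ha => by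
      have h1 : a * x * a⁻¹ * x⁻¹ ∈ F.A := by
        rw [show a * x * a⁻¹ * x⁻¹ = a * (x * a⁻¹ * x⁻¹) by group]
        exact mul_mem ha ((mem_normalizer_iff.1 (hKN hxK) _).1 (inv_mem ha))
      have h2 : a * x * a⁻¹ * x⁻¹ ∈ K :=
        mul_mem ((inferInstance : K.Normal).conj_mem x hxK a) (inv_mem hxK)
      have h3 := hKA _ h1 h2
      rwa [mul_inv_eq_one, mul_inv_eq_iff_eq_mul] at h3)
    exact hKA x hxA hxK
  · rintro _ ⟨g, rfl⟩
    rw [MulAction.mem_stabilizer_iff]
    have hg : ∀ (g : G) (l : G ⧸ normalizer (F.B : Set G)),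
        MulAction.toPermHom G (G ⧸ N) g • line l = line (g • l) := by
      intro g l
      ext p
      rw [Finset.mem_smul_finset, hmem]
      constructor
      · rintro ⟨q, hq, rfl⟩
        exact inc_smul g ((hmem _ _).1 hq)
      · intro hp
        refine ⟨g⁻¹ • p, (hmem _ _).2 ?_, smul_inv_smul g p⟩
        simpa using inc_smul g⁻¹ hp
    ext b
    simp only [Set.mem_smul_set, Set.mem_range]
    constructor
    · rintro ⟨_, ⟨l, rfl⟩, rfl⟩
      exact ⟨g • l, (hg g l).symm⟩
    · rintro ⟨l, rfl⟩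
      exact ⟨line (g⁻¹ • l), ⟨g⁻¹ • l, rfl⟩, by rw [hg, smul_inv_smul]⟩

end CfsgLib.LinearThreeFourType
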