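/-
The odd cores of the centralisers of the central involutions are trivial when both automisers are
transitive.
-/
import Cfsg.Agent.Lib.LinearThreeFourType.CoresQuot
import Cfsg.Agent.Lib.LinearThreeFourType.Plane
import Cfsg.Agent.Lib.LinearThreeFourType.OddTwentyOne
import Cfsg.Agent.S1225

set_option autoImplicit false

namespace CfsgLib.LinearThreeFourType

open Subgroup Cfsg CfsgLib.AEightThreeClasses

universe u

namespace Frame

variable {G : Type u} [Group G] [Finite G] (F : Frame G)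
variable {M : Subgroup G} {H : Type u} [Group H] [Finite H] {π : ↥M →* H} {L : Subgroup G}

omit [Finite G] [Finite H] in
theorem isElementaryAbelian_img {E : Subgroup G} (hE : IsElementaryAbelian 2 E) :
    IsElementaryAbelian 2 (img π E) := by
  refine ⟨⟨⟨fun x y => ?_⟩⟩, fun y hy => ?_⟩
  · obtain ⟨a, haM, ha, ea⟩ := (mem_img π).1 x.2
    obtain ⟨b, hbM, hb, eb⟩ := (mem_img π).1 y.2
    refine Subtype.ext ?_
    rw [Subgroup.coe_mul, Subgroup.coe_mul, ← ea, ← eb, ← _root_.map_mul, ← _root_.map_mul]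
    have hab : a * b = b * a := congrArg Subtype.val (hE.1.is_comm.comm (⟨a, ha⟩ : E) ⟨b, hb⟩)
    exact congrArg π (Subtype.ext hab)
  · obtain ⟨a, haM, ha, ea⟩ := (mem_img π).1 hy
    rw [← ea, ← map_pow, show (⟨a, haM⟩ : M) ^ 2 = 1 from Subtype.ext (hE.2 a ha), _root_.map_one]

/-- The frame of the quotient. -/
theorem exists_img_frame (R : F.Reduction π L) :
    ∃ F' : Frame H, F'.A = img π F.A ∧ F'.B = img π F.B := by
  have : Fact (Nat.Prime 2) := ⟨Nat.prime_two⟩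
  have inj : ∀ {a b : G} (ha : a ∈ (F.S : Subgroup G)) (hb : b ∈ (F.S : Subgroup G)),
      π ⟨a, R.S_le ha⟩ = π ⟨b, R.S_le hb⟩ → a = b := fun ha hb h =>
    F.eq_of_map_eq π R.ker R.odd R.S_le ha hb h
  have hcard : ∀ E : Subgroup G, E ≤ (F.S : Subgroup G) → Nat.card ↥(img π E) = Nat.card E := by
    intro E hE
    refine (Nat.card_congr (Equiv.ofBijective
      (fun a : E => (⟨π ⟨a, R.S_le (hE a.2)⟩, (mem_img π).2 ⟨a, _, a.2, rfl⟩⟩ : ↥(img π E)))
      ⟨fun a b e => Subtype.ext (inj (hE a.2) (hE b.2) (congrArg Subtype.val e)), fun y => ?_⟩)).symm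
    obtain ⟨a, haM, ha, e⟩ := (mem_img π).1 y.2
    exact ⟨⟨a, ha⟩, Subtype.ext e⟩
  let S' : Sylow 2 H := (F.S.subtype R.S_le).mapSurjective R.surj
  have hS' : (S' : Subgroup H) = img π (F.S : Subgroup G) := rfl
  have hcap : img π F.A ⊓ img π F.B = img π (F.A ⊓ F.B) := by
    ext y
    constructor
    · rintro ⟨h1, h2⟩
      obtain ⟨a, haM, ha, e⟩ := (mem_img π).1 h1
      obtain ⟨b, hbM, hb, e'⟩ := (mem_img π).1 h2
      have : a = b := inj (F.A_le ha) (F.B_le hb) (e.trans e'.symm)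
      exact (mem_img π).2 ⟨a, haM, ⟨ha, this ▸ hb⟩, e⟩
    · intro h
      obtain ⟨a, haM, ha, e⟩ := (mem_img π).1 h
      exact ⟨(mem_img π).2 ⟨a, haM, ha.1, e⟩, (mem_img π).2 ⟨a, haM, ha.2, e⟩⟩
  have memS : ∀ {y : H}, y ∈ img π (F.S : Subgroup G) →
      ∃ (s : G) (hs : s ∈ (F.S : Subgroup G)), π ⟨s, R.S_le hs⟩ = y := fun hy => by
    obtain ⟨s, hsM, hs, e⟩ := (mem_img π).1 hy
    exact ⟨s, hs, e⟩
  have hnorm : ∀ E : Subgroup G, (F.S : Subgroup G) ≤ normalizer (E : Set G) →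
      img π (F.S : Subgroup G) ≤ normalizer (img π E : Set H) := by
    intro E hE w hw
    obtain ⟨s, hs, rfl⟩ := memS hw
    refine CfsgLib.CoprimeAction.mem_normalizer_of_conj_mem fun y hy => ?_
    obtain ⟨a, haM, ha, rfl⟩ := (mem_img π).1 hy
    rw [← map_inv, ← _root_.map_mul, ← _root_.map_mul]
    exact (mem_img π).2 ⟨_, _, (mem_normalizer_iff.1 (hE hs) a).1 ha, rfl⟩
  refine ⟨{
    S := S'
    A := img π F.A
    B := img π F.B
    hA := isElementaryAbelian_img F.hA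
    hB := isElementaryAbelian_img F.hB
    card_A := (hcard _ F.A_le).trans F.card_A
    card_B := (hcard _ F.B_le).trans F.card_B
    card_Z := by rw [hcap, hcard _ (inf_le_left.trans F.A_le), F.card_Z]
    card_S := by rw [hS', hcard _ le_rfl, F.card_S]
    sup_eq := by
      rw [hS', img, img, img, ← Subgroup.map_sup,
        ← subgroupOf_sup (F.A_le.trans R.S_le) (F.B_le.trans R.S_le), F.sup_eq]
    norm_A := hS'.le.trans (hnorm _ F.norm_A)
    norm_B := hS'.le.trans (hnorm _ F.norm_B)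
    invol := fun y hy hy2 => by
      obtain ⟨s, hs, rfl⟩ := memS (hS' ▸ hy)
      have h2 : π ⟨s * s, R.S_le (mul_mem hs hs)⟩ = π ⟨1, R.S_le (one_mem _)⟩ := by
        rw [show (⟨1, R.S_le (one_mem _)⟩ : M) = 1 from rfl, _root_.map_one, ← hy2, ← _root_.map_mul]
        rfl
      exact (F.invol s hs (inj (mul_mem hs hs) (one_mem _) h2)).imp
        (fun h => (mem_img π).2 ⟨s, _, h, rfl⟩) fun h => (mem_img π).2 ⟨s, _, h, rfl⟩
    cent_A := fun y hy hyB w hw hc => by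
      obtain ⟨a, haM, ha, rfl⟩ := (mem_img π).1 hy
      obtain ⟨s, hs, rfl⟩ := memS (hS' ▸ hw)
      have haB : a ∉ F.B := fun h => hyB ((mem_img π).2 ⟨a, _, h, rfl⟩)
      refine (mem_img π).2 ⟨s, _, F.cent_A a ha haB s hs ?_, rfl⟩
      refine inj (mul_mem hs (F.A_le ha)) (mul_mem (F.A_le ha) hs) ?_
      rw [← _root_.map_mul, ← _root_.map_mul] at hc
      exact hc
    cent_B := fun y hy hyA w hw hc => by
      obtain ⟨b, hbM, hb, rfl⟩ := (mem_img π).1 hy
      obtain ⟨s, hs, rfl⟩ := memS (hS' ▸ hw)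
      have hbA : b ∉ F.A := fun h => hyA ((mem_img π).2 ⟨b, _, h, rfl⟩)
      refine (mem_img π).2 ⟨s, _, F.cent_B b hb hbA s hs ?_, rfl⟩
      refine inj (mul_mem hs (F.B_le hb)) (mul_mem (F.B_le hb) hs) ?_
      rw [← _root_.map_mul, ← _root_.map_mul] at hc
      exact hc
    central := fun y hy w hw => by
      rw [hcap] at hy
      obtain ⟨z, hzM, hz, rfl⟩ := (mem_img π).1 hy
      obtain ⟨s, hs, rfl⟩ := memS (hS' ▸ hw)
      rw [← _root_.map_mul, ← _root_.map_mul]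
      exact congrArg π (Subtype.ext (F.central z hz s hs)) }, rfl, rfl⟩

omit [Finite G] [Finite H] in
theorem Reduction.symm (R : F.Reduction π L) (hB : normalizer (F.B : Set G) ≤ M) :
    F.symm.Reduction π L :=
  ⟨R.ker, R.surj, R.odd, R.L_le, R.S_le, hB, fun z hz hz1 => R.core_le z ⟨hz.2, hz.1⟩ hz1⟩

/-- Trivial odd cores when both automisers are transitive. -/
theorem cores_eq_bot (hO : oddCore G = ⊥)
    (hlocA : ∀ a ∈ F.A, a ≠ 1 → Loc (normalizer (F.A : Set G)) a)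
    (hlocB : ∀ b ∈ F.B, b ≠ 1 → Loc (normalizer (F.B : Set G)) b)
    (hZ : ∀ z ∈ F.A ⊓ F.B, z ≠ 1 → Loc (normalizer (F.A : Set G) ⊓ normalizer (F.B : Set G)) z)
    (hTA : ∀ a ∈ F.A, ∀ a' ∈ F.A, a ≠ 1 → a' ≠ 1 → ∃ n ∈ normalizer (F.A : Set G), n * a * n⁻¹ = a')
    (hTB : ∀ a ∈ F.B, ∀ a' ∈ F.B, a ≠ 1 → a' ≠ 1 → ∃ n ∈ normalizer (F.B : Set G), n * a * n⁻¹ = a')
    (hI5A : (normalizer (F.A : Set G) ⊓ normalizer ((F.A ⊓ F.B : Subgroup G) : Set G)).relIndex
      (normalizer (F.A : Set G)) = 5)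
    (hI5B : (normalizer (F.B : Set G) ⊓ normalizer ((F.A ⊓ F.B : Subgroup G) : Set G)).relIndex
      (normalizer (F.B : Set G)) = 5) :
    ∀ z ∈ F.A ⊓ F.B, z ≠ 1 → Oc z = ⊥ := by
  have : Fact (Nat.Prime 2) := ⟨Nat.prime_two⟩
  intro z hz hz1
  by_contra hne
  have hW : F.W ≠ ⊥ := fun h => hne (le_bot_iff.1 (h ▸ F.Oc_center_le hz hz1))
  set M := normalizer (F.W : Set G) with hM
  have hSE : IsStronglyEmbedded M := F.stronglyEmbedded_normalizer_W hO hlocA hlocB hTA hTB hW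
  have hNA : normalizer (F.A : Set G) ≤ M := F.normalizer_A_le_normalizer_W hlocA
  have hNB : normalizer (F.B : Set G) ≤ M := by
    rw [hM, ← F.symm_W]; exact F.symm.normalizer_A_le_normalizer_W hlocB
  have hWM : F.W ≤ M := le_normalizer
  have hSM : (F.S : Subgroup G) ≤ M := F.norm_A.trans hNA
  have hWn : (F.W.subgroupOf M).Normal := normal_subgroupOf_of_le_normalizer le_rfl
  let H := ↥M ⧸ F.W.subgroupOf M
  let π : ↥M →* H := QuotientGroup.mk' _
  have hodd := F.odd_card_W hlocA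
  have R : F.Reduction π F.W :=
    ⟨fun x => QuotientGroup.eq_one_iff x, QuotientGroup.mk'_surjective _, hodd, hWM, hSM, hNA,
      fun w hw hw1 => F.Oc_center_le hw hw1⟩
  obtain ⟨F', hA', hB'⟩ := F.exists_img_frame R
  obtain ⟨cA, sA, tA, iA⟩ := F.img_facts R hlocA hZ hTA hI5A
  obtain ⟨cB, sB, tB, iB⟩ := F.symm.img_facts (Reduction.symm F R hNB) hlocB
    (fun w hw hw1 g hg => by
      obtain ⟨o, ho, n, hn, e⟩ := hZ w ⟨hw.2, hw.1⟩ hw1 g hg
      exact ⟨o, ho, n, ⟨hn.2, hn.1⟩, e⟩)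
    hTB (by
      show (normalizer (F.B : Set G) ⊓ normalizer ((F.B ⊓ F.A : Subgroup G) : Set G)).relIndex
        (normalizer (F.B : Set G)) = 5
      rw [inf_comm F.B F.A]; exact hI5B)
  change ∀ y ∈ img π F.B ⊓ img π F.A, y ≠ 1 →
    centralizer ({y} : Set H) ≤ normalizer (img π F.B : Set H) at cB
  change centralizer (img π F.B : Set H) ≤ img π F.B at sB
  change (normalizer (img π F.B : Set H) ⊓ normalizer ((img π F.B ⊓ img π F.A : Subgroup H) : Set H)).relIndex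
    (normalizer (img π F.B : Set H)) = 5 at iB
  rw [inf_comm (img π F.B) (img π F.A)] at cB iB
  rw [← hA', ← hB'] at cA cB iA iB
  rw [← hA'] at sA tA
  rw [← hB'] at sB
  have hP : PlaneHyp F' :=
    { cent := fun w hw hw1 => le_inf (cA w hw hw1) (cB w hw hw1)
      selfA := sA
      selfB := sB
      transA := tA
      transB := fun b hb b' hb' hb1 hb'1 => by
        rw [hB'] at hb hb' ⊢
        exact tB b hb b' hb' hb1 hb'1
      fiveA := iA
      fiveB := iB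
      normA := F'.le_normalizer_B sA
      normB := by
        have h : normalizer (F'.B : Set H) ⊓ normalizer ((F'.B ⊓ F'.A : Subgroup H) : Set H) ≤
            normalizer (F'.A : Set H) := F'.symm.le_normalizer_B sB
        rwa [inf_comm F'.B F'.A] at h }
  obtain ⟨z', hz', hz'1⟩ := F'.exists_Z_nontriv
  -- an involution outside `M` and the odd subgroup transitive on the involutions of `M`
  have hz2 : orderOf z = 2 := CfsgLib.Involutions.orderOf_eq_two_iff.2 ⟨F.A_sq hz.1, hz1⟩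
  have hzM : z ∈ M := hSM (F.A_le hz.1)
  obtain ⟨g, hg⟩ : ∃ g : G, g ∉ M := by
    by_contra! h
    exact hSE.1 (eq_top_iff.2 fun x _ => h x)
  have hu : g * z * g⁻¹ ∉ M := fun h =>
    hg (CfsgLib.Involutions.mem_of_conj_mem_of_stronglyEmbedded hSE hzM hz2 h)
  have hu2 : orderOf (g * z * g⁻¹) = 2 := by rw [CfsgLib.Involutions.orderOf_conj, hz2]
  set D := M ⊓ M.map (MulAut.conj (g * z * g⁻¹)).toMonoidHom with hD
  have hDodd : Odd (Nat.card D) := hSE.2.2 _ hu
  have hlift : ∀ x : H, orderOf x = 2 → ∃ y : M, orderOf (y : G) = 2 ∧ π y = x := by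
    intro x hx
    obtain ⟨hxx, hx1⟩ := CfsgLib.Involutions.orderOf_eq_two_iff.1 hx
    obtain ⟨y, rfl⟩ := R.surj x
    have hyW : ((y * y : M) : G) ∈ F.W := (R.ker _).1 (by rw [_root_.map_mul, hxx])
    obtain ⟨k, hk⟩ := odd_orderOf_of_mem hodd hyW
    have hπ : π (y ^ (2 * k + 1)) = π y := by
      rw [map_pow, pow_succ, pow_mul, pow_two, hxx, one_pow, one_mul]
    refine ⟨y ^ (2 * k + 1), CfsgLib.Involutions.orderOf_eq_two_iff.2 ⟨?_, fun h => ?_⟩, hπ⟩
    · rw [← Subgroup.coe_mul, ← pow_add, show 2 * k + 1 + (2 * k + 1) = 2 * (2 * k + 1) by ring,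
        pow_mul, pow_two, SubmonoidClass.coe_pow, ← hk, pow_orderOf_eq_one]
    · refine hx1 ?_
      rw [← hπ, show y ^ (2 * k + 1) = 1 from Subtype.ext h, _root_.map_one]
  refine no_odd_transitive (fun a ha => F'.A_sq ha) F'.card_A hP.transA hz'.1 hz'1
    ((hP.cent z' hz' hz'1).trans inf_le_left) hP.selfA hP.index_eq
    (fun D' _ _ hD' X _ _ _ _ hX => five_not_dvd_of_transitive_twentyOne hD' hX)
    ((D.subgroupOf M).map π) ?_ ?_
  · refine Odd.of_dvd_nat ?_ (card_map_dvd (D.subgroupOf M) π)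
    rwa [Nat.card_congr (subgroupOfEquivOfLe (show D ≤ M from inf_le_left)).toEquiv]
  · intro x y hx hy
    obtain ⟨a, ha2, rfl⟩ := hlift x hx
    obtain ⟨b, hb2, rfl⟩ := hlift y hy
    obtain ⟨⟨d, hd, e⟩, -⟩ :=
      Cfsg.Agent.S1225.result M hSE _ hu2 hu (a : G) (b : G) ha2 a.2 hb2 b.2
    refine ⟨π ⟨d, hd.1⟩, ⟨⟨d, hd.1⟩, hd, rfl⟩, ?_⟩
    rw [← map_inv, ← _root_.map_mul, ← _root_.map_mul]
    exact congrArg π (Subtype.ext e)

end Frame

end CfsgLib.LinearThreeFourType
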