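import Cfsg.Agent.Lib.LinearThreeFourType.Setting
import Cfsg.Agent.Lib.InvChar.PSLThreeFour

/-!
Frames are transported along injective maps; a Sylow 2-subgroup isomorphic to those of `PSL₃(4)`
carries a frame.
-/

set_option autoImplicit false
set_option linter.unusedSectionVars false
set_option linter.style.haveILetI false

namespace CfsgLib.LinearThreeFourType

open Subgroup Cfsg CfsgLib.InvChar.PSLThreeFour

universe u v

/-- The properties of the two subgroups inside a group of order 64 of `PSL₃(4)` type. -/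
structure Model (T : Type v) [Group T] (A B : Subgroup T) : Prop where
  comm_A : ∀ a ∈ A, ∀ a' ∈ A, a * a' = a' * a
  comm_B : ∀ b ∈ B, ∀ b' ∈ B, b * b' = b' * b
  sq_A : ∀ a ∈ A, a * a = 1
  sq_B : ∀ b ∈ B, b * b = 1
  card_A : Nat.card ↥A = 16
  card_B : Nat.card ↥B = 16
  card_Z : Nat.card ↥(A ⊓ B) = 4
  card : Nat.card T = 64
  sup_eq : A ⊔ B = ⊤
  conj_A : ∀ s : T, ∀ a ∈ A, s * a * s⁻¹ ∈ A
  conj_B : ∀ s : T, ∀ b ∈ B, s * b * s⁻¹ ∈ B
  invol : ∀ x : T, x * x = 1 → x ∈ A ∨ x ∈ B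
  cent_A : ∀ a ∈ A, a ∉ B → ∀ s : T, s * a = a * s → s ∈ A
  cent_B : ∀ b ∈ B, b ∉ A → ∀ s : T, s * b = b * s → s ∈ B
  central : ∀ z ∈ A ⊓ B, ∀ s : T, s * z = z * s

theorem range_le_normalizer_map {G : Type u} [Group G] {T : Type v} [Group T] (φ : T →* G)
    {A : Subgroup T} (hA : ∀ s : T, ∀ a ∈ A, s * a * s⁻¹ ∈ A) {g : G} (hg : g ∈ φ.range) :
    g ∈ normalizer ((A.map φ : Subgroup G) : Set G) := by
  obtain ⟨s, rfl⟩ := hg
  rw [mem_normalizer_iff]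
  intro y
  constructor
  · rintro ⟨a, ha, rfl⟩
    exact ⟨_, hA s a ha, by simp⟩
  · rintro ⟨a, ha, he⟩
    refine ⟨_, hA s⁻¹ a ha, ?_⟩
    simp only [map_mul, map_inv, he]
    group

/-- A frame from a model of the Sylow subgroup. -/
def Frame.ofModel {G : Type u} [Group G] {T : Type v} [Group T] {A B : Subgroup T} (m : Model T A B)
    (S : Sylow 2 G) (φ : T →* G) (hφ : Function.Injective φ) (hr : φ.range = (S : Subgroup G)) :
    Frame G where
  S := S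
  A := A.map φ
  B := B.map φ
  hA := ⟨⟨⟨by
      rintro ⟨_, a, ha, rfl⟩ ⟨_, b, hb, rfl⟩
      exact Subtype.ext (by show φ a * φ b = φ b * φ a; rw [← map_mul, m.comm_A a ha b hb, map_mul])⟩⟩,
    by rintro _ ⟨a, ha, rfl⟩; rw [pow_two, ← map_mul, m.sq_A a ha, map_one]⟩
  hB := ⟨⟨⟨by
      rintro ⟨_, a, ha, rfl⟩ ⟨_, b, hb, rfl⟩
      exact Subtype.ext (by show φ a * φ b = φ b * φ a; rw [← map_mul, m.comm_B a ha b hb, map_mul])⟩⟩,
    by rintro _ ⟨a, ha, rfl⟩; rw [pow_two, ← map_mul, m.sq_B a ha, map_one]⟩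
  card_A := (card_map_of_injective hφ).trans m.card_A
  card_B := (card_map_of_injective hφ).trans m.card_B
  card_Z := by rw [← map_inf _ _ _ hφ]; exact (card_map_of_injective hφ).trans m.card_Z
  card_S := by rw [← hr, ← MonoidHom.range_eq_map φ |>.symm]; exact
    (card_map_of_injective hφ).trans (card_top.trans m.card)
  sup_eq := by rw [← Subgroup.map_sup, m.sup_eq, ← MonoidHom.range_eq_map, hr]
  norm_A := fun _ hs => range_le_normalizer_map φ m.conj_A (hr ▸ hs)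
  norm_B := fun _ hs => range_le_normalizer_map φ m.conj_B (hr ▸ hs)
  invol := fun x hx h => by
    obtain ⟨t, rfl⟩ := (hr.symm ▸ hx : x ∈ φ.range)
    exact (m.invol t (hφ (by rw [map_mul, h, map_one]))).imp (fun ht => ⟨t, ht, rfl⟩)
      (fun ht => ⟨t, ht, rfl⟩)
  cent_A := fun a ha haB s hs h => by
    obtain ⟨t, rfl⟩ := (hr.symm ▸ hs : s ∈ φ.range)
    obtain ⟨a₀, ha₀, rfl⟩ := ha
    exact ⟨t, m.cent_A a₀ ha₀ (fun h' => haB ⟨a₀, h', rfl⟩) t (hφ (by rw [map_mul, map_mul, h])), rfl⟩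
  cent_B := fun b hb hbA s hs h => by
    obtain ⟨t, rfl⟩ := (hr.symm ▸ hs : s ∈ φ.range)
    obtain ⟨b₀, hb₀, rfl⟩ := hb
    exact ⟨t, m.cent_B b₀ hb₀ (fun h' => hbA ⟨b₀, h', rfl⟩) t (hφ (by rw [map_mul, map_mul, h])), rfl⟩
  central := fun z hz s hs => by
    obtain ⟨t, rfl⟩ := (hr.symm ▸ hs : s ∈ φ.range)
    rw [← map_inf _ _ _ hφ] at hz
    obtain ⟨z₀, hz₀, rfl⟩ := hz
    rw [← map_mul, m.central z₀ hz₀, map_mul]

variable {K : Type*} [Field K] [Fintype K]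

/-- The unitriangular group of `PSL₃(4)` is a model. -/
theorem model_ut (hK : Fintype.card K = 4) :
    Model ↥(InvChar.PSLThreeFour.U : Subgroup (Matrix.ProjectiveSpecialLinearGroup (Fin 3) K))
      ((A₁ : Subgroup (Matrix.ProjectiveSpecialLinearGroup (Fin 3) K)).subgroupOf
        InvChar.PSLThreeFour.U)
      ((A₂ : Subgroup (Matrix.ProjectiveSpecialLinearGroup (Fin 3) K)).subgroupOf
        InvChar.PSLThreeFour.U) where
  comm_A := by
    rintro ⟨x, _⟩ ⟨b, d, (rfl : x = ut 0 b d)⟩ ⟨y, _⟩ ⟨b', d', (rfl : y = ut 0 b' d')⟩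
    exact Subtype.ext (by show ut 0 b d * ut 0 b' d' = ut 0 b' d' * ut 0 b d; rw [ut_mul, ut_mul]; congr 1 <;> ring)
  comm_B := by
    rintro ⟨x, _⟩ ⟨b, d, (rfl : x = ut b 0 d)⟩ ⟨y, _⟩ ⟨b', d', (rfl : y = ut b' 0 d')⟩
    exact Subtype.ext (by show ut b 0 d * ut b' 0 d' = ut b' 0 d' * ut b 0 d; rw [ut_mul, ut_mul]; congr 1 <;> ring)
  sq_A := by
    rintro ⟨x, _⟩ ⟨b, d, (rfl : x = ut 0 b d)⟩
    refine Subtype.ext ?_
    show ut 0 b d * ut 0 b d = 1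
    rw [ut_mul, ← ut_zero]
    congr 1 <;> first | linear_combination b * two_eq_zero hK | linear_combination d * two_eq_zero hK | ring
  sq_B := by
    rintro ⟨x, _⟩ ⟨b, d, (rfl : x = ut b 0 d)⟩
    refine Subtype.ext ?_
    show ut b 0 d * ut b 0 d = 1
    rw [ut_mul, ← ut_zero]
    congr 1 <;> first | linear_combination b * two_eq_zero hK | linear_combination d * two_eq_zero hK | ring
  card_A := (Nat.card_congr (subgroupOfEquivOfLe A₁_le).toEquiv).trans (card_A₁ hK)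
  card_B := (Nat.card_congr (subgroupOfEquivOfLe A₂_le).toEquiv).trans (card_A₂ hK)
  card_Z := by
    rw [← Nat.card_eq_of_bijective (fun d : K =>
      (⟨⟨ut 0 0 d, 0, 0, d, rfl⟩, ⟨0, d, rfl⟩, ⟨0, d, rfl⟩⟩ :
        ↥((A₁ : Subgroup (Matrix.ProjectiveSpecialLinearGroup (Fin 3) K)).subgroupOf
            InvChar.PSLThreeFour.U ⊓ A₂.subgroupOf InvChar.PSLThreeFour.U))) ⟨?_, ?_⟩]
    · rw [Nat.card_eq_fintype_card, hK]
    · intro d d' h
      exact (ut_inj (congrArg (fun x => x.1.1) h)).2.2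
    · rintro ⟨⟨x, hx⟩, ⟨b, d, (rfl : x = ut 0 b d)⟩, ⟨a, d', (h' : ut 0 b d = ut a 0 d')⟩⟩
      obtain ⟨ha, hb, hd⟩ := ut_inj h'
      subst hb
      exact ⟨d, rfl⟩
  card := card_U hK
  sup_eq := by
    rw [← subgroupOf_sup A₁_le A₂_le, InvChar.PSLThreeFour.sup_eq, subgroupOf_self]
  conj_A := by
    rintro ⟨_, a₀, b₀, d₀, rfl⟩ ⟨x, _⟩ ⟨b, d, (rfl : x = ut 0 b d)⟩
    refine ⟨b, d + a₀ * b, ?_⟩
    show ut a₀ b₀ d₀ * ut 0 b d * (ut a₀ b₀ d₀)⁻¹ = _
    rw [mul_inv_eq_iff_eq_mul, ut_mul, ut_mul]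
    congr 1 <;> ring
  conj_B := by
    rintro ⟨_, a₀, b₀, d₀, rfl⟩ ⟨x, _⟩ ⟨a, d, (rfl : x = ut a 0 d)⟩
    refine ⟨a, d - a * b₀, ?_⟩
    show ut a₀ b₀ d₀ * ut a 0 d * (ut a₀ b₀ d₀)⁻¹ = _
    rw [mul_inv_eq_iff_eq_mul, ut_mul, ut_mul]
    congr 1 <;> ring
  invol := by
    rintro ⟨_, a, b, d, rfl⟩ h
    have h' : ut a b d * ut a b d = 1 := congrArg Subtype.val h
    rw [ut_mul, ← ut_zero] at h'
    have h3 : a * b = 0 := by linear_combination (ut_inj h').2.2 - d * two_eq_zero hK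
    rcases mul_eq_zero.1 h3 with rfl | rfl
    · exact Or.inl ⟨b, d, rfl⟩
    · exact Or.inr ⟨a, d, rfl⟩
  cent_A := by
    rintro ⟨x, _⟩ ⟨b, d, (rfl : x = ut 0 b d)⟩ hB ⟨_, a', b', d', rfl⟩ hs
    have hs' : ut a' b' d' * ut 0 b d = ut 0 b d * ut a' b' d' := congrArg Subtype.val hs
    rw [ut_mul, ut_mul] at hs'
    have h3 : a' * b = 0 := by linear_combination (ut_inj hs').2.2
    rcases mul_eq_zero.1 h3 with rfl | rfl
    · exact ⟨b', d', rfl⟩
    · exact absurd ⟨0, d, rfl⟩ hB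
  cent_B := by
    rintro ⟨x, _⟩ ⟨a, d, (rfl : x = ut a 0 d)⟩ hA ⟨_, a', b', d', rfl⟩ hs
    have hs' : ut a' b' d' * ut a 0 d = ut a 0 d * ut a' b' d' := congrArg Subtype.val hs
    rw [ut_mul, ut_mul] at hs'
    have h3 : a * b' = 0 := by linear_combination -(ut_inj hs').2.2
    rcases mul_eq_zero.1 h3 with rfl | rfl
    · exact absurd ⟨0, d, rfl⟩ hA
    · exact ⟨a', d', rfl⟩
  central := by
    rintro ⟨x, _⟩ ⟨⟨b, d, (rfl : x = ut 0 b d)⟩, ⟨a, d', (h' : ut 0 b d = ut a 0 d')⟩⟩ ⟨_, a', b', d'', rfl⟩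
    obtain ⟨ha, hb, hd⟩ := ut_inj h'
    subst hb
    refine Subtype.ext ?_
    show ut a' b' d'' * ut 0 0 d = ut 0 0 d * ut a' b' d''
    rw [ut_mul, ut_mul]
    congr 1 <;> ring

/-- A Sylow 2-subgroup isomorphic to those of `PSL₃(4)` carries a frame. -/
theorem exists_frame {G : Type u} [Group G] [Finite G] (hK : Fintype.card K = 4) (S : Sylow 2 G)
    (P : Sylow 2 (Matrix.ProjectiveSpecialLinearGroup (Fin 3) K))
    (hS : Nonempty (↥(S : Subgroup G) ≃* ↥(P : Subgroup (Matrix.ProjectiveSpecialLinearGroup (Fin 3) K)))) :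
    ∃ F : Frame G, F.S = S := by
  classical
  obtain ⟨e⟩ := hS
  haveI : Fact (Nat.Prime 2) := ⟨Nat.prime_two⟩
  have hf : Nat.factorization 20160 2 = 6 := by
    rw [show 20160 = 2 ^ 6 * 315 from rfl, Nat.factorization_mul (by norm_num) (by norm_num),
      Nat.Prime.factorization_pow Nat.prime_two, Finsupp.add_apply, Finsupp.single_eq_same,
      Nat.factorization_eq_zero_of_not_dvd (show ¬ 2 ∣ 315 by norm_num)]
  let P₀ : Sylow 2 (Matrix.ProjectiveSpecialLinearGroup (Fin 3) K) :=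
    Sylow.ofCard InvChar.PSLThreeFour.U (by
      rw [card_U hK, CfsgLib.InvChar.SymThree.card_PSL_three_four hK, hf]; rfl)
  let θ : ↥(InvChar.PSLThreeFour.U : Subgroup (Matrix.ProjectiveSpecialLinearGroup (Fin 3) K)) ≃*
      ↥(S : Subgroup G) := (Sylow.equiv P₀ P).trans e.symm
  refine ⟨Frame.ofModel (model_ut hK) S ((S : Subgroup G).subtype.comp θ.toMonoidHom)
    ((S : Subgroup G).subtype_injective.comp θ.injective) ?_, rfl⟩
  rw [MonoidHom.range_comp, MonoidHom.range_eq_top.2 θ.surjective, ← MonoidHom.range_eq_map,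
    range_subtype]

end CfsgLib.LinearThreeFourType
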