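/-
The case division: either one of the two subgroups is normal modulo the odd core, or the group is
embedded through the projective plane of order four.
-/
import Cfsg.Agent.Lib.LinearThreeFourType.Global

set_option autoImplicit false
set_option linter.style.haveILetI false

namespace CfsgLib.LinearThreeFourType

open Subgroup Cfsg CfsgLib.AEightThreeClasses

universe u v

variable {G : Type u} [Group G] [Finite G]

namespace Frame

/-- The closure condition of `A \\ B`. -/
def Closed (F : Frame G) : Prop :=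
  ∀ a ∈ F.A, a ∉ F.B → ∀ g : G, g * a * g⁻¹ ∈ (F.S : Subgroup G) →
    g * a * g⁻¹ ∈ F.A ∧ g * a * g⁻¹ ∉ F.B

/-- One orbit on the involutions of `A`. -/
def Trans (F : Frame G) : Prop :=
  ∀ a ∈ F.A, ∀ a' ∈ F.A, a ≠ 1 → a' ≠ 1 → ∃ n ∈ normalizer (F.A : Set G), n * a * n⁻¹ = a'

/-- All elements of `A` are local. -/
def LocalA (F : Frame G) : Prop := ∀ a ∈ F.A, a ≠ 1 → Loc (normalizer (F.A : Set G)) a

/-- The central involutions are local. -/
def LocalZ (F : Frame G) : Prop :=
  ∀ z ∈ F.A ⊓ F.B, z ≠ 1 →
    Loc (normalizer (F.A : Set G) ⊓ normalizer (F.B : Set G)) z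

omit [Finite G] in
theorem LocalZ.symm {F : Frame G} (h : F.LocalZ) : F.symm.LocalZ := fun z hz hz1 =>
  (h z ⟨hz.2, hz.1⟩ hz1).mono (le_of_eq (inf_comm _ _))

/-- The case division. -/
theorem exists_embedding (F : Frame G) {M : Type v} [Group M]
    (closed : ∀ F : Frame G, F.Small → F.Closed)
    (stronglyClosed : ∀ F : Frame G, F.Small → IsStronglyClosed F.B (F.S : Subgroup G))
    (trans : ∀ F : Frame G, ¬ F.Small → F.Trans)
    (locZ : ∀ F : Frame G, F.LocalZ)
    (bad : ∀ F : Frame G, F.Small → F.symm.Small → F.symm.LocalA ∨ F.LocalA)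
    (smallNormal : ∀ F : Frame G, F.Closed → IsStronglyClosed F.B (F.S : Subgroup G) →
      F.symm.LocalA → F.B.Normal)
    (affine : ∀ F : Frame G, F.B.Normal → ∃ f : G →* M, Function.Injective f)
    (big : ∀ F : Frame G, F.Trans → F.symm.Trans → ¬ F.Small → ¬ F.symm.Small →
      F.LocalA → F.symm.LocalA → ∃ f : G →* M, Function.Injective f) :
    ∃ f : G →* M, Function.Injective f := by
  have locA : ∀ F : Frame G, ¬ F.Small → F.LocalA := fun F h =>
    F.loc_of_trans (fun z hz hz1 => (locZ F z hz hz1).mono inf_le_left) (trans F h)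
  have one : ∀ F : Frame G, F.Small → F.symm.LocalA → ∃ f : G →* M, Function.Injective f :=
    fun F h hB => affine F (smallNormal F (closed F h) (stronglyClosed F h) hB)
  by_cases hA : F.Small <;> by_cases hB : F.symm.Small
  · rcases bad F hA hB with h | h
    · exact one F hA h
    · exact one F.symm hB h
  · exact one F hA (locA F.symm hB)
  · exact one F.symm hB (locA F hA)
  · exact big F (trans F hA) (trans F.symm hB) hA hB (locA F hA) (locA F.symm hB)

omit [Finite G] in
/-- Trivial cores turn locality into containment. -/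
theorem centralizer_le_of_core {F : Frame G} (hZ : F.LocalZ)
    (h : ∀ z ∈ F.A ⊓ F.B, z ≠ 1 → Oc z = ⊥) : ∀ z ∈ F.A ⊓ F.B, z ≠ 1 →
      centralizer ({z} : Set G) ≤ normalizer (F.A : Set G) ⊓ normalizer (F.B : Set G) := by
  intro z hz hz1 g hg
  obtain ⟨o, ho, n, hn, rfl⟩ := hZ z hz hz1 g hg
  rw [h z hz hz1, mem_bot] at ho
  rwa [ho, one_mul]

end Frame

end CfsgLib.LinearThreeFourType
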