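/-
A group without subgroups of index two acting faithfully on a projective plane of order four embeds
in `PGL₃(4)`.
-/
import Cfsg.Agent.Lib.CIT.PlaneAut
import Cfsg.Agent.Lib.ClassicalLinear.Card
import Mathlib.FieldTheory.Finite.GaloisField

set_option autoImplicit false

open Cfsg CfsgLib.ExtraspecialLarge CfsgLib.CIT
open scoped Pointwise LinearAlgebra.Projectivization Matrix MatrixGroups

namespace CfsgLib.LinearThreeFourType

section Pgl

variable {F : Type} [Field F]

/-- The action of `PGL₃` on the points of the coordinate plane. -/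
noncomputable def pglPerm : PGL(3, F) →* Equiv.Perm (ℙ F (Fin 3 → F)) :=
  MulAction.toPermHom _ _

theorem pglPerm_mk_apply (g : GL (Fin 3) F) (p : ℙ F (Fin 3 → F)) :
    pglPerm (Matrix.ProjGenLinGroup.mk g) p = g • p := rfl

theorem pglPerm_injective : Function.Injective (pglPerm (F := F)) := by
  rw [injective_iff_map_eq_one]
  intro x hx
  induction x using Matrix.ProjGenLinGroup.induction_on with | mk g => ?_
  rw [Matrix.ProjGenLinGroup.mk_eq_one,
    Matrix.GeneralLinearGroup.mem_center_iff_val_mem_range_scalar]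
  have hfix : ∀ p : ℙ F (Fin 3 → F), g • p = p := fun p => by
    rw [← pglPerm_mk_apply, hx]; rfl
  obtain ⟨a, ha⟩ := (Matrix.toLin' g.1).exists_eq_smul_id_of_forall_notLinearIndependent
    fun v => by
      by_cases hv : v = 0
      · simp [hv, linearIndependent_fin2]
      · have h := hfix (.mk F v hv)
        rw [Projectivization.smul_mk, Projectivization.mk_eq_mk_iff'] at h
        obtain ⟨c, hc⟩ := h
        simpa [LinearIndependent.pair_iff' hv] using ⟨c, hc⟩
  refine ⟨a, ?_⟩
  apply Matrix.toLin'.injective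
  rw [ha]
  refine LinearMap.ext fun v => funext fun i => ?_
  simp [Matrix.toLin'_apply, Matrix.mulVec_diagonal]

theorem orthogonal_gl_smul (g : GL (Fin 3) F) (h : GL (Fin 3) F) (hgh : (g.1)ᵀ * h.1 = 1)
    (p q : ℙ F (Fin 3 → F)) :
    Projectivization.orthogonal (g • p) (h • q) ↔ Projectivization.orthogonal p q := by
  induction p with | h v hv => ?_
  induction q with | h w hw => ?_
  rw [Projectivization.smul_mk, Projectivization.smul_mk,
    Projectivization.orthogonal_mk, Projectivization.orthogonal_mk]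
  show (g.1 *ᵥ v) ⬝ᵥ (h.1 *ᵥ w) = 0 ↔ _
  rw [Matrix.dotProduct_mulVec, ← Matrix.mulVec_transpose, Matrix.mulVec_mulVec]
  have h' : (h.1)ᵀ * g.1 = 1 := by
    rw [← Matrix.transpose_transpose g.1, ← Matrix.transpose_mul, hgh, Matrix.transpose_one]
  rw [h', Matrix.one_mulVec]

theorem pglPerm_le_setSystemAut [Fintype (ℙ F (Fin 3 → F))] [DecidableEq (ℙ F (Fin 3 → F))] :
    (pglPerm (F := F)).range ≤ setSystemAut (stdLines F) := by
  classical
  rintro _ ⟨x, rfl⟩
  induction x using Matrix.ProjGenLinGroup.induction_on with | mk g => ?_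
  let h : GL (Fin 3) F := ⟨((g⁻¹).1)ᵀ, (g.1)ᵀ,
    by rw [← Matrix.transpose_mul, Units.mul_inv, Matrix.transpose_one],
    by rw [← Matrix.transpose_mul, Units.inv_mul, Matrix.transpose_one]⟩
  have hgh : (g.1)ᵀ * h.1 = 1 := h.inv_val
  rw [MulAction.mem_stabilizer_iff]
  have key : ∀ q : ℙ F (Fin 3 → F), pglPerm (Matrix.ProjGenLinGroup.mk g) •
      (Finset.univ.filter fun p => Projectivization.orthogonal p q) =
        Finset.univ.filter fun p => Projectivization.orthogonal p (h • q) := by
    intro q
    ext p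
    simp only [Finset.mem_smul_finset, Finset.mem_filter, Finset.mem_univ, true_and]
    constructor
    · rintro ⟨r, hr, rfl⟩
      exact (orthogonal_gl_smul g h hgh r q).2 hr
    · intro hp
      refine ⟨g⁻¹ • p, ?_, smul_inv_smul g p⟩
      rw [← orthogonal_gl_smul g h hgh (g⁻¹ • p) q, smul_inv_smul]
      exact hp
  ext b
  simp only [Set.mem_smul_set, stdLines, Set.mem_range]
  constructor
  · rintro ⟨_, ⟨q, rfl⟩, rfl⟩
    exact ⟨h • q, (key q).symm⟩
  · rintro ⟨q, rfl⟩
    refine ⟨_, ⟨h⁻¹ • q, rfl⟩, ?_⟩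
    rw [key, smul_inv_smul]

theorem card_pgl_three_four [Fintype F] (hF : Fintype.card F = 4) :
    Nat.card PGL(3, F) = 60480 := by
  rw [ClassicalLinear.card_PGL]
  have h := ClassicalLinear.card_SL (ι := Fin 3) (F := F)
  simp only [hF] at h
  rw [Fin.prod_univ_eq_prod_range (fun i => 4 ^ Fintype.card (Fin 3) - 4 ^ i), Fintype.card_fin,
    Finset.prod_range_succ, Finset.prod_range_succ, Finset.prod_range_one] at h
  norm_num at h
  omega

theorem exists_pgl_zero {G : Type*} [Group G] [Finite G]
    (hidx : ∀ H : Subgroup G, H.index ≠ 2) {α : Type*} [Fintype α] [DecidableEq α]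
    {L : Set (Finset α)} (hL : IsPlaneFour L) (φ : G →* Equiv.Perm α) (hφ : Function.Injective φ)
    (hle : φ.range ≤ setSystemAut L) [Fintype F] (hF : Fintype.card F = 4) :
    ∃ f : G →* PGL(3, F), Function.Injective f := by
  classical
  let _ : Fintype (ℙ F (Fin 3 → F)) := Fintype.ofFinite _
  have hS := stdLines_plane hF
  obtain ⟨H, hH6, hH⟩ := hS.exists_hyperoval
  obtain ⟨H', hH6', hH'⟩ := hL.exists_hyperoval
  obtain ⟨e, ⟨he, -⟩, -⟩ := existsUnique_extension hS hL hH6 hH hH6' hH'
    (Finset.equivOfCardEq (hH6.trans hH6'.symm))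
  set ψ : PGL(3, F) →* Equiv.Perm α := e.permCongrHom.toMonoidHom.comp pglPerm
  have hψ : Function.Injective ψ := e.permCongrHom.injective.comp pglPerm_injective
  have hψle : ψ.range ≤ setSystemAut L := by
    rintro _ ⟨g, rfl⟩
    exact smul_setSystem_transport e he (pglPerm_le_setSystemAut ⟨g, rfl⟩)
  let B : Subgroup (setSystemAut L) := ψ.range.subgroupOf (setSystemAut L)
  have hBc : Nat.card B = 60480 := by
    rw [Nat.card_congr (Subgroup.subgroupOfEquivOfLe hψle).toEquiv,
      ← Nat.card_congr (MonoidHom.ofInjective hψ).toEquiv, card_pgl_three_four hF]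
  have hidxB : B.index ≤ 2 := by
    have h1 := B.index_mul_card
    rw [hBc] at h1
    have h2 := card_setSystemAut_le hL
    omega
  let φ' : G →* setSystemAut L := φ.codRestrict _ fun g => hle ⟨g, rfl⟩
  have htop : B.comap φ' = ⊤ := by
    rw [← Subgroup.index_eq_one]
    have h1 : (B.comap φ').index ≤ 2 := by
      rw [Subgroup.index_comap]
      refine le_trans ?_ hidxB
      rw [← Subgroup.relIndex_top_right]
      exact Subgroup.relIndex_le_of_le_right le_top (by
        rw [Subgroup.relIndex_top_right]; exact Subgroup.index_ne_zero_of_finite)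
    have h2 := hidx (B.comap φ')
    have h3 : (B.comap φ').index ≠ 0 := Subgroup.index_ne_zero_of_finite
    omega
  have hsub : φ.range ≤ ψ.range := by
    rintro _ ⟨g, rfl⟩
    have h1 : g ∈ B.comap φ' := htop ▸ Subgroup.mem_top g
    exact Subgroup.mem_subgroupOf.1 (Subgroup.mem_comap.1 h1)
  refine ⟨(MonoidHom.ofInjective hψ).symm.toMonoidHom.comp
    ((Subgroup.inclusion hsub).comp φ.rangeRestrict), ?_⟩
  exact (MonoidHom.ofInjective hψ).symm.injective.comp
    ((Subgroup.inclusion_injective hsub).comp fun x y h => hφ (congrArg Subtype.val h))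

end Pgl

universe u v w

/-- A group with Sylow 2-subgroups of order 64 and no subgroup of index two that acts faithfully on
a projective plane of order four embeds in `PGL₃(4)`. -/
theorem exists_pgl_of_plane {G : Type u} [Group G] [Finite G] (S : Sylow 2 G)
    (_hS : Nat.card ↥(S : Subgroup G) = 64) (hidx : ∀ H : Subgroup G, H.index ≠ 2)
    {α : Type v} [Fintype α] [DecidableEq α] {L : Set (Finset α)} (hL : IsPlaneFour L)
    (φ : G →* Equiv.Perm α) (hφ : Function.Injective φ) (hle : φ.range ≤ setSystemAut L)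
    {K : Type w} [Field K] [Fintype K] (hK : Fintype.card K = 4) :
    ∃ f : G →* GL (Fin 3) K ⧸ Subgroup.center (GL (Fin 3) K), Function.Injective f := by
  classical
  let _ : Fintype (GaloisField 2 2) := Fintype.ofFinite _
  have hF : Fintype.card (GaloisField 2 2) = 4 := by
    rw [← Nat.card_eq_fintype_card, GaloisField.card 2 2 (by norm_num)]
    norm_num
  obtain ⟨f, hf⟩ := exists_pgl_zero hidx hL φ hφ hle hF
  let c : GaloisField 2 2 ≃+* K := FiniteField.ringEquivOfCardEq (hF.trans hK.symm)
  refine ⟨(Matrix.ProjGenLinGroup.map (n := Fin 3) c.toRingHom).comp f, ?_⟩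
  have hc : Function.LeftInverse (Matrix.ProjGenLinGroup.map (n := Fin 3) c.symm.toRingHom)
      (Matrix.ProjGenLinGroup.map (n := Fin 3) c.toRingHom) := fun x => ?_
  · exact hc.injective.comp hf
  induction x using Matrix.ProjGenLinGroup.induction_on with | mk g => ?_
  rw [Matrix.ProjGenLinGroup.map_mk, Matrix.ProjGenLinGroup.map_mk]
  congr 1
  ext i j
  simp

end CfsgLib.LinearThreeFourType
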