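/-
The subgroup `B` is normal if `A \ B` is closed under fusion, `B` is strongly closed and the
centralisers of the involutions of `B` are controlled by their odd cores and the normaliser of `B`.

The odd cores generate an odd subgroup `W`, and `M = W N(B)` contains the centralisers of the
involutions of `B`.  If a conjugate `r` of an element of `A \ B` lay outside `M`, each involution of
`B` would commute with an involution `w` of the centraliser of `r` in `M` such that `w r` is fused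
into `B`; this centraliser would then have a Sylow subgroup of order four, with trivial automiser,
fixing a subgroup of order four of `B` modulo `W`.
-/
import Cfsg.Agent.Lib.LinearThreeFourType.Setting
import Cfsg.Agent.Lib.CoprimeAction.Abelian
import Cfsg.Agent.S0205
import Cfsg.Agent.S0217
import Mathlib.GroupTheory.Transfer

set_option autoImplicit false

namespace CfsgLib.LinearThreeFourType

open Subgroup Cfsg CfsgLib.AEightThreeClasses
open scoped Pointwise

universe u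

variable {G : Type u} [Group G] [Finite G] (F : Frame G)

namespace SmallNormal

/-- Elements fused into the involutions of `B`. -/
def BType (x : G) : Prop := ∃ b ∈ F.B, b ≠ 1 ∧ IsConj b x

/-- Elements fused into `A` outside `B`. -/
def AType (x : G) : Prop := ∃ a ∈ F.A, a ∉ F.B ∧ IsConj a x

/-- An odd subgroup absorbing the odd cores, with the fusion facts needed here. -/
structure Hull where
  /-- the odd subgroup -/
  W : Subgroup G
  odd : Odd (Nat.card W)
  norm : normalizer (F.B : Set G) ≤ normalizer (W : Set G)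
  cent : ∀ b ∈ F.B, b ≠ 1 → centralizer ({b} : Set G) ≤ W ⊔ normalizer (F.B : Set G)
  closed : ∀ a ∈ F.A, a ∉ F.B → ∀ g, g * a * g⁻¹ ∈ (F.S : Subgroup G) →
    g * a * g⁻¹ ∈ F.A ∧ g * a * g⁻¹ ∉ F.B
  strong : IsStronglyClosed F.B (F.S : Subgroup G)

private theorem mul_of_mem_sup {N H : Subgroup G} (h : H ≤ normalizer (N : Set G)) {x : G}
    (hx : x ∈ N ⊔ H) : ∃ u ∈ N, ∃ n ∈ H, x = u * n := by
  rw [← SetLike.mem_coe, coe_mul_of_right_le_normalizer_left N H h] at hx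
  obtain ⟨u, hu, n, hn, he⟩ := Set.mem_mul.1 hx
  exact ⟨u, hu, n, hn, he.symm⟩

/-- A 2-subgroup of a subgroup containing a Sylow subgroup is fused into it there. -/
private theorem exists_conj_into (S : Sylow 2 G) {M P : Subgroup G} (hSM : (S : Subgroup G) ≤ M)
    (hPM : P ≤ M) (hP : IsPGroup 2 P) :
    ∃ m ∈ M, ∀ x ∈ P, m * x * m⁻¹ ∈ (S : Subgroup G) := by
  haveI : Fact (Nat.Prime 2) := ⟨Nat.prime_two⟩
  obtain ⟨Q, hQ⟩ := (hP.of_equiv (subgroupOfEquivOfLe hPM).symm).exists_le_sylow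
  obtain ⟨⟨m, hmM⟩, hm⟩ := MulAction.exists_smul_eq M Q (S.subtype hSM)
  refine ⟨m, hmM, fun x hx => ?_⟩
  have : (⟨m, hmM⟩ : M) * ⟨x, hPM hx⟩ * (⟨m, hmM⟩ : M)⁻¹ ∈ (S.subtype hSM : Subgroup M) := by
    rw [← hm]
    exact ⟨_, hQ (show (⟨x, hPM hx⟩ : M) ∈ P.subgroupOf M from hx), rfl⟩
  exact this

private theorem isPGroup_zpowers {x : G} (h : x * x = 1) : IsPGroup 2 (zpowers x) := by
  rintro ⟨y, hy⟩
  obtain ⟨i, rfl⟩ := mem_zpowers_iff.1 hy
  refine ⟨1, Subtype.ext ?_⟩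
  change (x ^ i) ^ (2 ^ 1) = 1
  rw [pow_one, pow_two, ← (Commute.refl x).mul_zpow, h, one_zpow]

omit [Finite G] in
theorem exists_B_not_A : ∃ b ∈ F.B, b ∉ F.A := by
  by_contra! h
  have := F.card_Z
  rw [inf_eq_right.2 h, F.card_B] at this
  omega

omit [Finite G] in
theorem exists_A_not_B : ∃ a ∈ F.A, a ∉ F.B := exists_B_not_A F.symm

omit [Finite G] in
theorem mem_B_of_cent {s : G} (hs : s ∈ (F.S : Subgroup G)) (h : ∀ b ∈ F.B, s * b = b * s) :
    s ∈ F.B := by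
  obtain ⟨b, hb, hbA⟩ := exists_B_not_A F
  exact F.cent_B b hb hbA s hs (h b hb)

/-- The centraliser of `B` is `B` times an odd subgroup normalised by the normaliser of `B`. -/
theorem exists_odd_complement (hsc : IsStronglyClosed F.B (F.S : Subgroup G)) :
    ∃ D0 : Subgroup G, Odd (Nat.card D0) ∧ D0 ≤ centralizer (F.B : Set G) ∧
      normalizer (F.B : Set G) ≤ normalizer (D0 : Set G) ∧
      ∀ x ∈ centralizer (F.B : Set G), ∃ e ∈ F.B, ∃ o ∈ D0, x = e * o := by
  haveI : Fact (Nat.Prime 2) := ⟨Nat.prime_two⟩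
  set C := centralizer (F.B : Set G) with hC
  have hBC : F.B ≤ C := fun b hb => mem_centralizer_iff.2 fun c hc => F.B_comm hc hb
  have hBp : IsPGroup 2 F.B := F.S.2.to_le F.B_le
  obtain ⟨Q, hQ⟩ := (hBp.of_equiv (subgroupOfEquivOfLe hBC).symm).exists_le_sylow
  -- the Sylow subgroup of the centraliser is `B`
  have hQB : ∀ q : C, q ∈ (Q : Subgroup C) → (q : G) ∈ F.B := by
    intro q hq
    obtain ⟨g, -, hg⟩ := exists_conj_into F.S (M := ⊤) (P := (Q : Subgroup C).map C.subtype)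
      le_top le_top (Q.2.map _)
    have hgB : ∀ b ∈ F.B, g * b * g⁻¹ ∈ F.B := fun b hb =>
      hsc.2 b hb g (hg b ⟨⟨b, hBC hb⟩, hQ (show (⟨b, hBC hb⟩ : C) ∈ F.B.subgroupOf C from hb), rfl⟩)
    have hgN := CfsgLib.CoprimeAction.mem_normalizer_of_conj_mem hgB
    have h1 : g * (q : G) * g⁻¹ ∈ F.B := by
      refine mem_B_of_cent F (hg _ ⟨q, hq, rfl⟩) fun b hb => ?_
      have hb' : g⁻¹ * b * g ∈ F.B := (mem_normalizer_iff''.1 hgN b).1 hb
      calc g * (q : G) * g⁻¹ * b = g * ((q : G) * (g⁻¹ * b * g)) * g⁻¹ := by group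
        _ = g * ((g⁻¹ * b * g) * (q : G)) * g⁻¹ := by
          rw [(mem_centralizer_iff.1 q.2 _ hb').symm]
        _ = _ := by group
    exact (mem_normalizer_iff.1 hgN _).2 h1
  have hP : normalizer ((Q : Subgroup C) : Set C) ≤ centralizer ((Q : Subgroup C) : Set C) :=
    fun n _ => mem_centralizer_iff.2 fun q hq =>
      Subtype.ext (mem_centralizer_iff.1 n.2 _ (hQB q hq))
  set φ := MonoidHom.transferSylow Q hP with hφ
  have hK : Odd (Nat.card φ.ker) :=
    Nat.odd_iff.2 (Nat.two_dvd_ne_zero.1 (MonoidHom.not_dvd_card_ker_transferSylow Q hP))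
  have hKmem : ∀ c : C, Odd (orderOf c) → c ∈ φ.ker := by
    intro c hc
    obtain ⟨k, hk⟩ := Q.2 (φ c)
    refine orderOf_eq_one_iff.1 (Nat.eq_one_of_dvd_coprimes
      (Nat.Coprime.pow_left k (Nat.coprime_two_left.2 hc)) (orderOf_dvd_of_pow_eq_one hk)
      (orderOf_map_dvd φ c))
  refine ⟨φ.ker.map C.subtype, ?_, map_subtype_le _, fun n hn => ?_, fun x hx => ?_⟩
  · rwa [card_map_of_injective C.subtype_injective]
  · refine CfsgLib.CoprimeAction.mem_normalizer_of_conj_mem ?_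
    rintro _ ⟨c, hc, rfl⟩
    have hmem : n * (c : G) * n⁻¹ ∈ C := by
      refine mem_centralizer_iff.2 fun b hb => ?_
      have hb' : n⁻¹ * b * n ∈ F.B := (mem_normalizer_iff''.1 hn b).1 hb
      calc b * (n * (c : G) * n⁻¹) = n * ((n⁻¹ * b * n) * (c : G)) * n⁻¹ := by group
        _ = n * ((c : G) * (n⁻¹ * b * n)) * n⁻¹ := by rw [mem_centralizer_iff.1 c.2 _ hb']
        _ = _ := by group
    refine ⟨⟨_, hmem⟩, hKmem _ ?_, rfl⟩
    rw [Subgroup.orderOf_mk, CfsgLib.Involutions.orderOf_conj, orderOf_coe]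
    exact odd_orderOf_of_mem hK hc
  · obtain ⟨⟨⟨d, hd⟩, ⟨q, hq⟩⟩, he⟩ := (MonoidHom.ker_transferSylow_isComplement' Q hP).2 ⟨x, hx⟩
    refine ⟨q, hQB q hq, d, ⟨d, hd, rfl⟩, ?_⟩
    have he' : (d : G) * (q : G) = x := congrArg Subtype.val he
    rw [← he']
    exact (mem_centralizer_iff.1 d.2 _ (hQB q hq)).symm

/-- The hull generated by the odd cores. -/
theorem exists_hull
    (hcl : ∀ a ∈ F.A, a ∉ F.B → ∀ g, g * a * g⁻¹ ∈ (F.S : Subgroup G) →
      g * a * g⁻¹ ∈ F.A ∧ g * a * g⁻¹ ∉ F.B)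
    (hsc : IsStronglyClosed F.B (F.S : Subgroup G))
    (hloc : ∀ b ∈ F.B, b ≠ 1 → Loc (normalizer (F.B : Set G)) b) : Nonempty (Hull F) := by
  haveI : Fact (Nat.Prime 2) := ⟨Nat.prime_two⟩
  obtain ⟨D0, hD0, hD0C, hD0N, hCA⟩ := exists_odd_complement F hsc
  have hcomm : ∀ a ∈ F.B, ∀ b ∈ F.B, a * b = b * a := fun a ha b hb => F.B_comm ha hb
  have hsq : ∀ a ∈ F.B, a * a = 1 := fun a ha => F.B_sq ha
  have hAC : ∀ a ∈ F.B, F.B ≤ centralizer ({a} : Set G) := fun a ha b hb =>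
    mem_cent.2 (hcomm b hb a ha)
  -- the odd subgroup lies in every core
  have hD0le : ∀ b ∈ F.B, b ≠ 1 → D0 ≤ Oc b := by
    intro b hb hb1
    have hD0b : D0 ≤ centralizer ({b} : Set G) := fun d hd =>
      mem_cent.2 ((mem_centralizer_iff.1 (hD0C hd) b hb).symm)
    have h1 : Oc b ⊔ D0 ≤ Oc b := by
      refine le_Oc (sup_le (Oc_le b) hD0b) ?_ ?_
      · intro g hg
        obtain ⟨o, ho, n, hn, rfl⟩ := hloc b hb hb1 g hg
        refine mul_mem (le_normalizer (mem_sup_left ho)) ?_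
        have hnb : n ∈ centralizer ({b} : Set G) := by
          have := mul_mem (inv_mem (Oc_le b ho)) hg
          rwa [inv_mul_cancel_left] at this
        refine CfsgLib.CoprimeAction.mem_normalizer_of_conj_mem fun x hx => ?_
        have hle : Oc b ⊔ D0 ≤ (Oc b ⊔ D0).comap (MulAut.conj n).toMonoidHom :=
          sup_le (fun y hy => mem_sup_left
              ((mem_normalizer_iff.1 (centralizer_le_normalizer_Oc b hnb) y).1 hy))
            (fun y hy => mem_sup_right ((mem_normalizer_iff.1 (hD0N hn) y).1 hy))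
        exact hle hx
      · have hD0' : D0 ≤ normalizer (Oc b : Set G) := hD0b.trans (centralizer_le_normalizer_Oc b)
        have := CfsgLib.Cores.card_sup_dvd (D0.subgroupOf (normalizer (Oc b : Set G)))
          ((Oc b).subgroupOf (normalizer (Oc b : Set G)))
        rw [← subgroupOf_sup hD0' le_normalizer,
          Nat.card_congr (subgroupOfEquivOfLe (sup_le hD0' le_normalizer)).toEquiv,
          Nat.card_congr (subgroupOfEquivOfLe hD0').toEquiv,
          Nat.card_congr (subgroupOfEquivOfLe (le_normalizer (H := Oc b))).toEquiv,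
          sup_comm] at this
        exact (hD0.mul (odd_card_Oc b)).of_dvd_nat this
    exact le_sup_right.trans h1
  -- balance
  have hbal : ∀ a ∈ F.B, a ≠ 1 → ∀ b ∈ F.B, b ≠ 1 →
      Oc a ⊓ centralizer ({b} : Set G) ≤ Oc b := by
    intro a ha _ b hb hb1 d hd
    obtain ⟨hda, hdb⟩ := hd
    obtain ⟨o, ho, n, hn, rfl⟩ := hloc b hb hb1 _ hdb
    have hdo : Odd (orderOf (o * n)) := odd_orderOf_of_mem (odd_card_Oc a) hda
    have hNb := centralizer_le_normalizer_Oc (G := G) b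
    have hnA : n ∈ centralizer (F.B : Set G) := by
      refine mem_centralizer_iff.2 fun e he => ?_
      set f := e * (n * e⁻¹ * n⁻¹) with hf
      have hf' : f ∈ F.B := mul_mem he ((mem_normalizer_iff.1 hn _).1 (inv_mem he))
      set d' := e * (o * n) * e⁻¹ * (o * n)⁻¹ with hd'
      have hd'a : d' ∈ Oc a := mul_mem
        ((mem_normalizer_iff.1 (centralizer_le_normalizer_Oc a (hAC a ha he)) _).1 hda)
        (inv_mem hda)
      have hd'b : d' ∈ centralizer ({b} : Set G) :=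
        mul_mem (mul_mem (mul_mem (hAC b hb he) hdb) (inv_mem (hAC b hb he))) (inv_mem hdb)
      have hrel : f * d'⁻¹ ∈ Oc b := by
        have h1 : d' = (e * o * e⁻¹) * f * o⁻¹ := by rw [hd', hf]; group
        have h2 : f * d'⁻¹ = (f * o * f⁻¹) * (e * o * e⁻¹)⁻¹ := by rw [h1]; group
        rw [h2]
        exact mul_mem ((mem_normalizer_iff.1 (hNb (hAC b hb hf')) _).1 ho)
          (inv_mem ((mem_normalizer_iff.1 (hNb (hAC b hb he)) _).1 ho))
      have hf1 : f = 1 := eq_one_of_div_mem_sub (Oc_le b) hNb (odd_card_Oc b) (hAC b hb hf')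
        hd'b (hsq f hf') (odd_orderOf_of_mem (odd_card_Oc a) hd'a) hrel
      rw [hf, mul_eq_one_iff_eq_inv] at hf1
      calc e * n = (n * e⁻¹ * n⁻¹)⁻¹ * n := by rw [← hf1]
        _ = n * e := by group
    obtain ⟨e, he, o', ho', rfl⟩ := hCA n hnA
    have ho'b : o' ∈ Oc b := hD0le b hb hb1 ho'
    have hrel : e * (o * (e * o'))⁻¹ ∈ Oc b := by
      have h : e * (o * (e * o'))⁻¹ = (e * o'⁻¹ * e⁻¹) * o⁻¹ := by group
      rw [h]
      exact mul_mem ((mem_normalizer_iff.1 (hNb (hAC b hb he)) _).1 (inv_mem ho'b)) (inv_mem ho)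
    have he1 : e = 1 := eq_one_of_div_mem_sub (Oc_le b) hNb (odd_card_Oc b) (hAC b hb he)
      hdb (hsq e he) hdo hrel
    rw [he1, one_mul]
    exact mul_mem ho ho'b
  obtain ⟨hW2, -⟩ := Cfsg.Agent.S0217.result (p := 2) F.B hcomm F.hB.2
    (by rw [F.card_B]; norm_num) Oc (fun a _ _ => Oc_le a)
    (fun a _ _ => Nat.two_dvd_ne_zero.2 (Nat.odd_iff.1 (odd_card_Oc a)))
    (fun a ha _ b hb x hx =>
      (mem_normalizer_iff.1 (centralizer_le_normalizer_Oc a (hAC a ha hb)) x).1 hx)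
    (fun a _ _ => Cfsg.Agent.S0205.result (odd_card_Oc a)) hbal
  set W : Subgroup G := ⨆ a : {a : G // a ∈ F.B ∧ a ≠ 1}, Oc (a : G) with hW
  have hθW : ∀ a ∈ F.B, a ≠ 1 → Oc a ≤ W := fun a ha ha1 =>
    le_iSup (fun a : {a : G // a ∈ F.B ∧ a ≠ 1} => Oc (a : G)) ⟨a, ha, ha1⟩
  refine ⟨⟨W, Nat.odd_iff.2 (Nat.two_dvd_ne_zero.1 hW2), fun n hn => ?_, fun b hb hb1 g hg => ?_,
    hcl, hsc⟩⟩
  · refine CfsgLib.CoprimeAction.mem_normalizer_of_conj_mem fun x hx => ?_
    have hle : W ≤ W.comap (MulAut.conj n).toMonoidHom := iSup_le fun a y hy => by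
      have ha : n * (a : G) * n⁻¹ ∈ F.B := (mem_normalizer_iff.1 hn _).1 a.2.1
      have ha1 : n * (a : G) * n⁻¹ ≠ 1 := fun h => a.2.2 (conj_eq_one_iff.1 h)
      exact hθW _ ha ha1 (conj_mem_Oc n hy)
    exact hle hx
  · obtain ⟨o, ho, n, hn, rfl⟩ := hloc b hb hb1 g hg
    exact mul_mem (mem_sup_left (hθW b hb hb1 ho)) (mem_sup_right hn)

variable {F}

theorem BType.conj {x : G} (h : BType F x) (g : G) : BType F (g * x * g⁻¹) := by
  obtain ⟨b, hb, hb1, hc⟩ := h
  exact ⟨b, hb, hb1, hc.trans (isConj_iff.2 ⟨g, rfl⟩)⟩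

theorem AType.conj {x : G} (h : AType F x) (g : G) : AType F (g * x * g⁻¹) := by
  obtain ⟨a, ha, haB, hc⟩ := h
  exact ⟨a, ha, haB, hc.trans (isConj_iff.2 ⟨g, rfl⟩)⟩

theorem AType.orderOf_two {x : G} (h : AType F x) : orderOf x = 2 := by
  obtain ⟨a, ha, haB, hc⟩ := h
  rw [← CfsgLib.Involutions.orderOf_eq_of_isConj hc, CfsgLib.Involutions.orderOf_eq_two_iff]
  exact ⟨F.A_sq ha, fun h1 => haB (h1 ▸ one_mem _)⟩

namespace Hull

variable (h : Hull F)

/-- The subgroup `W N(B)`. -/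
def M : Subgroup G := h.W ⊔ normalizer (F.B : Set G)

theorem S_le_M : (F.S : Subgroup G) ≤ h.M := F.norm_B.trans le_sup_right

theorem M_le_normalizer : h.M ≤ normalizer (h.W : Set G) := sup_le le_normalizer h.norm

theorem eq_one_of_B {b : G} (hb : b ∈ F.B) (hbW : b ∈ h.W) : b = 1 :=
  eq_one_of_mem_odd h.odd (F.B_sq hb) hbW

include h in
theorem mem_of_AType {x : G} (hx : AType F x) (hxS : x ∈ (F.S : Subgroup G)) :
    x ∈ F.A ∧ x ∉ F.B := by
  obtain ⟨a, ha, haB, hc⟩ := hx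
  obtain ⟨g, rfl⟩ := isConj_iff.1 hc
  exact h.closed a ha haB g hxS

include h in
theorem mem_B_of_BType {x : G} (hx : BType F x) (hxS : x ∈ (F.S : Subgroup G)) : x ∈ F.B := by
  obtain ⟨b, hb, -, hc⟩ := hx
  obtain ⟨g, rfl⟩ := isConj_iff.1 hc
  exact h.strong.2 b hb g hxS

include h in
theorem not_BType {x : G} (hA : AType F x) : ¬ BType F x := by
  intro hB
  obtain ⟨a, ha, haB, hc⟩ := hA
  obtain ⟨b, hb, hb1, hc'⟩ := hB
  obtain ⟨g, rfl⟩ := isConj_iff.1 (hc.trans hc'.symm)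
  exact (h.closed a ha haB g (F.B_le hb)).2 hb

theorem type_cases {w : G} (hw : orderOf w = 2) : AType F w ∨ BType F w := by
  obtain ⟨g, -, hg⟩ := exists_conj_into F.S (M := ⊤) (P := zpowers w) le_top le_top
    (isPGroup_zpowers (CfsgLib.Involutions.mul_self_eq_one hw))
  have ho : orderOf (g * w * g⁻¹) = 2 := by rw [CfsgLib.Involutions.orderOf_conj, hw]
  have hc : IsConj (g * w * g⁻¹) w := (isConj_iff.2 ⟨g, rfl⟩).symm
  by_cases hB : g * w * g⁻¹ ∈ F.B
  · exact Or.inr ⟨_, hB, CfsgLib.Involutions.ne_one ho, hc⟩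
  · exact Or.inl ⟨_, (F.invol _ (hg w (mem_zpowers w))
      (CfsgLib.Involutions.mul_self_eq_one ho)).resolve_right hB, hB, hc⟩

/-- An element moving an involution of `B` into `M` lies in `M`. -/
theorem mem_M_of_conj {b g : G} (hb : b ∈ F.B) (hb1 : b ≠ 1) (hg : g * b * g⁻¹ ∈ h.M) :
    g ∈ h.M := by
  have hsq : g * b * g⁻¹ * (g * b * g⁻¹) = 1 := by
    calc g * b * g⁻¹ * (g * b * g⁻¹) = g * (b * b) * g⁻¹ := by group
      _ = 1 := by rw [F.B_sq hb]; group
  obtain ⟨m, hm, hmS⟩ := exists_conj_into F.S h.S_le_M (zpowers_le.2 hg) (isPGroup_zpowers hsq)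
  have h1 : m * g * b * (m * g)⁻¹ ∈ (F.S : Subgroup G) := by
    have := hmS _ (mem_zpowers _)
    convert this using 1
    group
  obtain ⟨n, hn, hne⟩ := strong_control F.S F.hB.1 h.strong {b}
    (Set.singleton_subset_iff.2 (F.B_le hb)) (m * g) fun b' hb' => by
      rw [Set.mem_singleton_iff.1 hb']; exact h1
  have hc : n⁻¹ * (m * g) ∈ centralizer ({b} : Set G) := by
    rw [mem_cent_conj]
    calc n⁻¹ * (m * g) * b * (n⁻¹ * (m * g))⁻¹ = n⁻¹ * ((m * g) * b * (m * g)⁻¹) * n := by group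
      _ = n⁻¹ * (n * b * n⁻¹) * n := by rw [hne b rfl]
      _ = b := by group
  have h3 : n⁻¹ * (m * g) ∈ h.M := h.cent b hb hb1 hc
  have hnM : n ∈ h.M := mem_sup_right hn
  have := mul_mem (mul_mem (inv_mem hm) hnM) h3
  convert this using 1
  group

theorem cent_le_of_BType {x : G} (hx : BType F x) (hxM : x ∈ h.M) :
    centralizer ({x} : Set G) ≤ h.M := by
  obtain ⟨b, hb, hb1, hc⟩ := hx
  obtain ⟨g, rfl⟩ := isConj_iff.1 hc
  have hg := h.mem_M_of_conj hb hb1 hxM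
  intro c hc
  have h1 : g⁻¹ * c * g ∈ h.M := by
    refine h.cent b hb hb1 ?_
    rw [mem_cent] at hc ⊢
    calc g⁻¹ * c * g * b = g⁻¹ * (c * (g * b * g⁻¹)) * g := by group
      _ = g⁻¹ * (g * b * g⁻¹ * c) * g := by rw [hc]
      _ = _ := by group
  have := mul_mem (mul_mem hg h1) (inv_mem hg)
  convert this using 1
  group

/-- The centraliser of `r` in `M`. -/
def Q (r : G) : Subgroup G := h.M ⊓ centralizer ({r} : Set G)

variable {r : G}

theorem AType_of_commute (hrM : r ∉ h.M) {w : G} (hw : orderOf w = 2) (hwM : w ∈ h.M)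
    (hwr : w * r = r * w) : AType F w :=
  (type_cases (F := F) hw).resolve_right fun hB =>
    hrM (h.cent_le_of_BType hB hwM (mem_cent.2 hwr.symm))

/-- Each involution of `B` commutes with an involution of the centraliser of `r` whose product with
`r` is fused into `B`. -/
theorem exists_half (hr : AType F r) (hrM : r ∉ h.M) {t : G} (ht : t ∈ F.B) (ht1 : t ≠ 1) :
    ∃ w ∈ h.Q r, orderOf w = 2 ∧ t * w = w * t ∧ BType F (w * r) := by
  haveI : Fact (Nat.Prime 2) := ⟨Nat.prime_two⟩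
  have ho : orderOf t = 2 := CfsgLib.Involutions.orderOf_eq_two_iff.2 ⟨F.B_sq ht, ht1⟩
  have hor := hr.orderOf_two
  have heven : Even (orderOf (t * r)) := by
    rw [← Nat.not_odd_iff_even]
    exact fun hodd =>
      h.not_BType hr ⟨t, ht, ht1, CfsgLib.Involutions.isConj_of_odd ho hor hodd⟩
  set k := orderOf (t * r) / 2 with hk
  set w := (t * r) ^ k with hwdef
  have hw : orderOf w = 2 := CfsgLib.Involutions.orderOf_half heven (orderOf_pos _).ne'
  have hwt : Commute w t := CfsgLib.Involutions.commute_half_left ho hor heven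
  have hwr : Commute w r := CfsgLib.Involutions.commute_half_right ho hor heven
  have hwM : w ∈ h.M := h.cent t ht ht1 (mem_cent.2 hwt.eq)
  have hwA : AType F w := h.AType_of_commute hrM hw hwM hwr.eq
  refine ⟨w, ⟨hwM, mem_cent.2 hwr.eq⟩, hw, hwt.eq.symm, ?_⟩
  -- the product of `t` and `w` is fused into `A`
  have htwA : AType F (t * w) := by
    obtain ⟨m, -, hmS⟩ := exists_conj_into F.S h.S_le_M
      (P := zpowers t ⊔ zpowers w)
      (sup_le (zpowers_le.2 (mem_sup_right (le_normalizer ht))) (zpowers_le.2 hwM))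
      ((isPGroup_zpowers (F.B_sq ht)).to_sup_of_normal_left'
        (isPGroup_zpowers (CfsgLib.Involutions.mul_self_eq_one hw))
        (le_trans (zpowers_le.2 (show w ∈ centralizer (zpowers t : Set G) by
          rw [zpowers_eq_closure, centralizer_closure, mem_cent]; exact hwt.eq))
          (centralizer_le_normalizer _)))
    have ht' : m * t * m⁻¹ ∈ F.B := h.strong.2 t ht m (hmS t (mem_sup_left (mem_zpowers t)))
    obtain ⟨hw', hwB'⟩ := h.mem_of_AType (hwA.conj m) (hmS w (mem_sup_right (mem_zpowers w)))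
    have htA : m * t * m⁻¹ ∈ F.A := by
      refine F.cent_A _ hw' hwB' _ (F.B_le ht') ?_
      calc m * t * m⁻¹ * (m * w * m⁻¹) = m * (t * w) * m⁻¹ := by group
        _ = m * (w * t) * m⁻¹ := by rw [hwt.eq]
        _ = _ := by group
    have hp : AType F (m * t * m⁻¹ * (m * w * m⁻¹)) :=
      ⟨_, mul_mem htA hw', fun hm' => hwB' ((F.B.mul_mem_cancel_left ht').1 hm'), IsConj.refl _⟩
    convert hp.conj m⁻¹ using 1
    group
  -- so the half exponent is odd
  have hdih : ∀ i : ℕ, IsConj t (t * (t * r) ^ (2 * i)) := by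
    intro i
    refine isConj_iff.2 ⟨(t * r) ^ (-(i : ℤ)), ?_⟩
    rw [← CfsgLib.Involutions.mul_zpow_eq ho hor, zpow_natCast, ← zpow_neg, neg_neg, zpow_natCast,
      two_mul, pow_add, mul_assoc]
  rcases Nat.even_or_odd' k with ⟨i, hi | hi⟩
  · refine absurd ⟨t, ht, ht1, ?_⟩ (h.not_BType htwA)
    rw [hwdef, hi]; exact hdih i
  · refine ⟨t, ht, ht1, ?_⟩
    have he : w * r = t * (t * r) ^ (2 * (i + 1)) := by
      rw [hwr.eq, show 2 * (i + 1) = 2 * i + 1 + 1 by omega, pow_succ', ← hi, ← hwdef]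
      simp only [← mul_assoc, F.B_sq ht, one_mul]
    rw [he]; exact hdih (i + 1)

/-- A 2-subgroup of the centraliser of `r` is fused with `r` into `A`. -/
theorem exists_into_A (hr : AType F r) {P : Subgroup G} (hP : IsPGroup 2 P)
    (hPr : P ≤ centralizer ({r} : Set G)) (hcl : Hull F) :
    ∃ g : G, g * r * g⁻¹ ∈ F.A ∧ g * r * g⁻¹ ∉ F.B ∧ ∀ p ∈ P, g * p * g⁻¹ ∈ F.A := by
  haveI : Fact (Nat.Prime 2) := ⟨Nat.prime_two⟩
  have hrP : P ≤ normalizer (zpowers r : Set G) := by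
    refine le_trans ?_ (centralizer_le_normalizer _)
    intro p hp
    rw [zpowers_eq_closure, centralizer_closure]
    exact hPr hp
  obtain ⟨g, -, hg⟩ := exists_conj_into F.S (M := ⊤) (P := zpowers r ⊔ P) le_top le_top
    ((isPGroup_zpowers (CfsgLib.Involutions.mul_self_eq_one hr.orderOf_two)).to_sup_of_normal_left'
      hP hrP)
  obtain ⟨h1, h2⟩ := hcl.mem_of_AType (hr.conj g) (hg r (mem_sup_left (mem_zpowers r)))
  refine ⟨g, h1, h2, fun p hp => F.cent_A _ h1 h2 _ (hg p (mem_sup_right hp)) ?_⟩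
  calc g * p * g⁻¹ * (g * r * g⁻¹) = g * (p * r) * g⁻¹ := by group
    _ = g * (r * p) * g⁻¹ := by rw [mem_cent.1 (hPr hp)]
    _ = _ := by group

/-- An element of `M` commuting with `r` is trivial if a conjugate lies in `B`. -/
theorem eq_one_of_conj_B (hrM : r ∉ h.M) {g e : G} (he : e ∈ h.Q r)
    (hB : g * e * g⁻¹ ∈ F.B) : e = 1 := by
  by_contra h1
  have hne : g * e * g⁻¹ ≠ 1 := fun h' => h1 (conj_eq_one_iff.1 h')
  refine hrM (h.cent_le_of_BType ⟨_, hB, hne, isConj_iff.2 ⟨g⁻¹, by group⟩⟩ he.1 ?_)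
  rw [mem_cent]
  exact (mem_cent.1 he.2).symm

theorem card_le (hr : AType F r) (hrM : r ∉ h.M) {P : Subgroup G} (hP : IsPGroup 2 P)
    (hPQ : P ≤ h.Q r) : Nat.card P ≤ 4 := by
  obtain ⟨g, -, -, hg⟩ := exists_into_A hr hP (hPQ.trans inf_le_right) h
  have hinj : Function.Injective
      (fun p : P × ↥(F.A ⊓ F.B) => (⟨g * p.1 * g⁻¹ * p.2, mul_mem (hg _ p.1.2) p.2.2.1⟩ : F.A)) := by
    rintro ⟨⟨p, hp⟩, ⟨z, hz⟩⟩ ⟨⟨q, hq⟩, ⟨y, hy⟩⟩ he
    have he' : g * p * g⁻¹ * z = g * q * g⁻¹ * y := congrArg Subtype.val he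
    have h1 : g * (q⁻¹ * p) * g⁻¹ = y * z⁻¹ := by
      calc g * (q⁻¹ * p) * g⁻¹ = (g * q * g⁻¹)⁻¹ * (g * p * g⁻¹ * z) * z⁻¹ := by group
        _ = _ := by rw [he']; group
    have hpq : q⁻¹ * p = 1 := h.eq_one_of_conj_B hrM (hPQ (mul_mem (inv_mem hq) hp))
      (by rw [h1]; exact mul_mem hy.2 (inv_mem hz.2))
    obtain rfl : q = p := inv_mul_eq_one.1 hpq
    obtain rfl : z = y := mul_left_cancel he'
    rfl
  have := Nat.card_le_card_of_injective _ hinj
  rw [Nat.card_prod, F.card_Z, F.card_A] at this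
  omega

/-- At most one involution of an abelian 2-subgroup of the centraliser of `r` has a product with
`r` fused into `B`. -/
theorem eq_of_BType (hr : AType F r) (hrM : r ∉ h.M) {P : Subgroup G} (hP : IsPGroup 2 P)
    (hPQ : P ≤ h.Q r) {e e' : G} (he : e ∈ P) (he' : e' ∈ P)
    (hB : BType F (e * r)) (hB' : BType F (e' * r)) : e = e' := by
  obtain ⟨g, hgr, -, hg⟩ := exists_into_A hr hP (hPQ.trans inf_le_right) h
  have key : ∀ p ∈ P, BType F (p * r) → g * p * g⁻¹ * (g * r * g⁻¹) ∈ F.B := fun p hp hpB =>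
    h.mem_B_of_BType (by convert hpB.conj g using 1; group) (F.A_le (mul_mem (hg p hp) hgr))
  have h1 : g * (e'⁻¹ * e) * g⁻¹ ∈ F.B := by
    have := mul_mem (inv_mem (key e' he' hB')) (key e he hB)
    have hcomm := F.A_comm hgr (hg _ (mul_mem (inv_mem he') he))
    convert this using 1
    calc g * (e'⁻¹ * e) * g⁻¹
        = (g * r * g⁻¹)⁻¹ * (g * r * g⁻¹ * (g * (e'⁻¹ * e) * g⁻¹)) := by group
      _ = (g * r * g⁻¹)⁻¹ * (g * (e'⁻¹ * e) * g⁻¹ * (g * r * g⁻¹)) := by rw [hcomm]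
      _ = _ := by group
  exact (inv_mul_eq_one.1 (h.eq_one_of_conj_B hrM (hPQ (mul_mem (inv_mem he') he)) h1)).symm

/-- Outside `M` some conjugate of an element of `A \ B` has a centraliser in `M` with 2-rank two. -/
theorem exists_big (hr : AType F r) (hrM : r ∉ h.M) :
    ∃ r' : G, AType F r' ∧ r' ∉ h.M ∧
      ∃ P : Subgroup G, IsPGroup 2 P ∧ P ≤ h.Q r' ∧ 4 ≤ Nat.card P := by
  haveI : Fact (Nat.Prime 2) := ⟨Nat.prime_two⟩
  by_contra! hno
  -- commuting involutions of such a centraliser coincide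
  have hsmall : ∀ r', AType F r' → r' ∉ h.M → ∀ P : Subgroup G, IsPGroup 2 P → P ≤ h.Q r' →
      ∀ x ∈ P, ∀ y ∈ P, x ≠ 1 → y ≠ 1 → x = y := by
    intro r' hr' hr'M P hP hPQ x hx y hy hx1 hy1
    have hlt := hno r' hr' hr'M P hP hPQ
    obtain ⟨k, hk⟩ := IsPGroup.iff_card.1 hP
    have h3 : 2 ^ k < 2 ^ 2 := by rw [← hk]; omega
    have hk1 : k ≤ 1 := by
      have := (Nat.pow_lt_pow_iff_right (by norm_num : 1 < 2)).1 h3
      omega
    have h2 : Nat.card P ≤ 2 := by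
      rw [hk]; exact (Nat.pow_le_pow_right (by norm_num) hk1).trans (by norm_num)
    by_contra hxy
    have hinj : Function.Injective (![(1 : P), ⟨x, hx⟩, ⟨y, hy⟩]) := by
      intro i j hij
      have hij' := congrArg Subtype.val hij
      fin_cases i <;> fin_cases j <;>
        first
          | rfl
          | (simp at hij'; first | exact absurd hij'.symm hx1 | exact absurd hij'.symm hy1 |
              exact absurd hij' hx1 | exact absurd hij' hy1 | exact absurd hij' hxy |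
              exact absurd hij'.symm hxy)
    have := Nat.card_le_card_of_injective _ hinj
    rw [Nat.card_fin] at this
    omega
  obtain ⟨t, ht, htA⟩ := exists_B_not_A F
  have ht1 : t ≠ 1 := fun h1 => htA (h1 ▸ one_mem _)
  obtain ⟨w, hwQ, hw, -, hwB⟩ := h.exists_half hr hrM ht ht1
  obtain ⟨g, hgr, hgrB, hg⟩ := exists_into_A hr
    (isPGroup_zpowers (CfsgLib.Involutions.mul_self_eq_one hw)) (zpowers_le.2 hwQ.2) h
  have hw' := hg w (mem_zpowers w)
  -- an element of `A` in neither coset of the centre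
  obtain ⟨a, ha, haZ, hwa⟩ : ∃ a ∈ F.A, a ∉ F.B ∧ g * w * g⁻¹ * a ∉ F.B := by
    classical
    by_contra! hall
    have hinj : Function.Injective (fun a : F.A =>
        if ha : (a : G) ∈ F.B then ((⟨a, a.2, ha⟩ : ↥(F.A ⊓ F.B)), true)
        else ((⟨g * w * g⁻¹ * a, mul_mem hw' a.2, hall _ a.2 ha⟩ : ↥(F.A ⊓ F.B)), false)) := by
      rintro ⟨a, ha⟩ ⟨b, hb⟩ hab
      apply Subtype.ext
      simp only at hab
      split_ifs at hab with h1 h2 h2
      · exact congrArg (fun p : ↥(F.A ⊓ F.B) × Bool => (p.1 : G)) hab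
      · simp at hab
      · simp at hab
      · exact mul_left_cancel (congrArg (fun p : ↥(F.A ⊓ F.B) × Bool => (p.1 : G)) hab)
    have := Nat.card_le_card_of_injective _ hinj
    rw [Nat.card_prod, F.card_Z, F.card_A, Nat.card_eq_fintype_card, Fintype.card_bool] at this
    omega
  set a' := g⁻¹ * a * g with ha'
  have ha'A : AType F a' := ⟨a, ha, haZ, isConj_iff.2 ⟨g⁻¹, by rw [inv_inv]⟩⟩
  have hcomm : ∀ x, g * x * g⁻¹ ∈ F.A → x * a' = a' * x := by
    intro x hx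
    calc x * a' = g⁻¹ * (g * x * g⁻¹ * a) * g := by rw [ha']; group
      _ = g⁻¹ * (a * (g * x * g⁻¹)) * g := by rw [F.A_comm hx ha]
      _ = _ := by rw [ha']; group
  have hwa' : w * a' = a' * w := hcomm w hw'
  have hra' : r * a' = a' * r := hcomm r hgr
  have hw1 : w ≠ 1 := CfsgLib.Involutions.ne_one hw
  have ha'M : a' ∉ h.M := by
    intro hM
    have ha'1 : a' ≠ 1 := CfsgLib.Involutions.ne_one ha'A.orderOf_two
    have hp : IsPGroup 2 (zpowers w ⊔ zpowers a' : Subgroup G) :=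
      (isPGroup_zpowers (CfsgLib.Involutions.mul_self_eq_one hw)).to_sup_of_normal_left'
        (isPGroup_zpowers (CfsgLib.Involutions.mul_self_eq_one ha'A.orderOf_two))
        (le_trans (zpowers_le.2 (show a' ∈ centralizer (zpowers w : Set G) by
          rw [zpowers_eq_closure, centralizer_closure, mem_cent]; exact hwa'.symm))
          (centralizer_le_normalizer _))
    have he := hsmall r hr hrM _ hp
      (sup_le (zpowers_le.2 hwQ) (zpowers_le.2 ⟨hM, mem_cent.2 hra'.symm⟩))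
      w (mem_sup_left (mem_zpowers w)) a' (mem_sup_right (mem_zpowers a')) hw1 ha'1
    refine hwa ?_
    have hga : g * w * g⁻¹ = a := by rw [he, ha']; group
    rw [hga, F.A_sq ha]; exact one_mem _
  obtain ⟨v, hvQ, hv, -, hvB⟩ := h.exists_half ha'A ha'M ht ht1
  have hwQ' : w ∈ h.Q a' := ⟨hwQ.1, mem_cent.2 hwa'⟩
  -- the two involutions are conjugate in the centraliser of `a'`
  obtain ⟨R, hR⟩ := ((isPGroup_zpowers (CfsgLib.Involutions.mul_self_eq_one hw)).of_equiv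
    (subgroupOfEquivOfLe (zpowers_le.2 hwQ')).symm).exists_le_sylow
  obtain ⟨R', hR'⟩ := ((isPGroup_zpowers (CfsgLib.Involutions.mul_self_eq_one hv)).of_equiv
    (subgroupOfEquivOfLe (zpowers_le.2 hvQ)).symm).exists_le_sylow
  obtain ⟨⟨q, hq⟩, hqR⟩ := MulAction.exists_smul_eq (h.Q a') R' R
  have hwR : w ∈ (R : Subgroup (h.Q a')).map (h.Q a').subtype :=
    ⟨⟨w, hwQ'⟩, hR (show (⟨w, hwQ'⟩ : h.Q a') ∈ (zpowers w).subgroupOf _ from mem_zpowers w), rfl⟩
  have hvR : q * v * q⁻¹ ∈ (R : Subgroup (h.Q a')).map (h.Q a').subtype := by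
    refine ⟨⟨q, hq⟩ * ⟨v, hvQ⟩ * (⟨q, hq⟩)⁻¹, ?_, rfl⟩
    rw [← hqR]
    exact ⟨_, hR' (show (⟨v, hvQ⟩ : h.Q a') ∈ (zpowers v).subgroupOf _ from mem_zpowers v), rfl⟩
  have he := hsmall a' ha'A ha'M _ (R.2.map _) (map_subtype_le _) _ hwR _ hvR hw1
    (fun h1 => CfsgLib.Involutions.ne_one hv (conj_eq_one_iff.1 h1))
  have hB : BType F (w * a') := by
    have hqa : q * a' * q⁻¹ = a' := mem_cent_conj.1 hq.2
    have : w * a' = q * (v * a') * q⁻¹ := by
      calc w * a' = q * v * q⁻¹ * (q * a' * q⁻¹) := by rw [he, hqa]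
        _ = _ := by group
    rw [this]; exact hvB.conj q
  refine hwa (h.mem_B_of_BType ?_ (F.A_le (mul_mem hw' ha)))
  convert hB.conj g using 1
  rw [ha']; group

/-- If `u n` commutes modulo `W` with `a ∈ A \ B`, then `n` normalises the centre. -/
theorem mem_normalizer_Z {a u n : G} (ha : a ∈ F.A) (haB : a ∉ F.B) (hu : u ∈ h.W)
    (hn : n ∈ normalizer (F.B : Set G)) (hc : u * n * a = a * (u * n)) :
    n ∈ normalizer ((F.A ⊓ F.B : Subgroup G) : Set G) := by
  have haM : a ∈ normalizer (h.W : Set G) := h.norm (F.norm_B (F.A_le ha))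
  refine CfsgLib.CoprimeAction.mem_normalizer_of_conj_mem fun z hz => ?_
  set b := n * z * n⁻¹ with hb
  have hbB : b ∈ F.B := (mem_normalizer_iff.1 hn z).1 hz.2
  have hbW : b ∈ normalizer (h.W : Set G) := h.norm (le_normalizer hbB)
  set v := n * a * n⁻¹ * a⁻¹ with hv
  have hvW : v ∈ h.W := by
    have he : v = u⁻¹ * (a * u * a⁻¹) := by
      calc v = u⁻¹ * (u * n * a) * n⁻¹ * a⁻¹ := by rw [hv]; group
        _ = u⁻¹ * (a * (u * n)) * n⁻¹ * a⁻¹ := by rw [hc]
        _ = _ := by group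
    rw [he]; exact mul_mem (inv_mem hu) ((mem_normalizer_iff.1 haM u).1 hu)
  have hza : z * a = a * z := F.A_comm hz.1 ha
  have hvb : v * a * b = b * (v * a) := by
    calc v * a * b = n * (a * z) * n⁻¹ := by rw [hv, hb]; group
      _ = n * (z * a) * n⁻¹ := by rw [hza]
      _ = _ := by rw [hv, hb]; group
  have hcW : a * b * a⁻¹ * b⁻¹ ∈ h.W := by
    have he : a * b * a⁻¹ * b⁻¹ = v⁻¹ * (b * v * b⁻¹) := by
      calc a * b * a⁻¹ * b⁻¹ = v⁻¹ * (v * a * b) * a⁻¹ * b⁻¹ := by group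
        _ = v⁻¹ * (b * (v * a)) * a⁻¹ * b⁻¹ := by rw [hvb]
        _ = _ := by group
    rw [he]; exact mul_mem (inv_mem hvW) ((mem_normalizer_iff.1 hbW v).1 hvW)
  have hcB : a * b * a⁻¹ * b⁻¹ ∈ F.B :=
    mul_mem ((mem_normalizer_iff.1 (F.norm_B (F.A_le ha)) b).1 hbB) (inv_mem hbB)
  have h1 := h.eq_one_of_B hcB hcW
  rw [mul_inv_eq_one, mul_inv_eq_iff_eq_mul] at h1
  exact ⟨F.cent_A a ha haB b (F.B_le hbB) h1.symm, hbB⟩

set_option maxHeartbeats 1000000 in
/-- The centraliser of a conjugate of `A \ B` outside `M` does not meet `M` in a four-group. -/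
theorem false_of_big (hr : AType F r) (hrM : r ∉ h.M) {P : Subgroup G} (hP : IsPGroup 2 P)
    (hPQ : P ≤ h.Q r) (hP4 : 4 ≤ Nat.card P) : False := by
  haveI : Fact (Nat.Prime 2) := ⟨Nat.prime_two⟩
  -- move the subgroup into `S`
  obtain ⟨m, hm, hmS⟩ := exists_conj_into F.S h.S_le_M (hPQ.trans inf_le_left) hP
  set r₁ := m * r * m⁻¹ with hr₁
  have hr1 : AType F r₁ := hr.conj m
  have hr1M : r₁ ∉ h.M := fun hM => hrM (by
    have := mul_mem (mul_mem (inv_mem hm) hM) hm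
    convert this using 1
    rw [hr₁]; group)
  set E := (F.S : Subgroup G) ⊓ centralizer ({r₁} : Set G) with hE
  have hEp : IsPGroup 2 E := F.S.2.to_le inf_le_left
  have hEQ : E ≤ h.Q r₁ := fun x hx => ⟨h.S_le_M hx.1, hx.2⟩
  have hE4 : Nat.card E = 4 := by
    refine le_antisymm (h.card_le hr1 hr1M hEp hEQ) (hP4.trans ?_)
    have hle : P.map (MulAut.conj m).toMonoidHom ≤ E := by
      rintro _ ⟨p, hp, rfl⟩
      refine ⟨hmS p hp, mem_cent.2 ?_⟩
      change m * p * m⁻¹ * r₁ = r₁ * (m * p * m⁻¹)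
      calc m * p * m⁻¹ * r₁ = m * (p * r) * m⁻¹ := by rw [hr₁]; group
        _ = m * (r * p) * m⁻¹ := by rw [mem_cent.1 (hPQ hp).2]
        _ = _ := by rw [hr₁]; group
    calc Nat.card P = Nat.card (P.map (MulAut.conj m).toMonoidHom) :=
          (card_map_of_injective (MulAut.conj m).injective).symm
      _ ≤ Nat.card E := Nat.card_le_card_of_injective _ (inclusion_injective hle)
  -- the elements of `E`
  obtain ⟨g, -, -, hgA⟩ := exists_into_A hr1 hEp inf_le_right h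
  have hEsq : ∀ e ∈ E, e * e = 1 := fun e he => by
    have := F.A_sq (hgA e he)
    calc e * e = g⁻¹ * (g * e * g⁻¹ * (g * e * g⁻¹)) * g := by group
      _ = 1 := by rw [this]; group
  have hEA : ∀ e ∈ E, e ≠ 1 → e ∈ F.A ∧ e ∉ F.B := fun e he he1 =>
    h.mem_of_AType (h.AType_of_commute hr1M
      (CfsgLib.Involutions.orderOf_eq_two_iff.2 ⟨hEsq e he, he1⟩) (hEQ he).1
      (mem_cent.1 he.2)) he.1
  have hEleA : E ≤ F.A := fun e he => by
    by_cases he1 : e = 1
    · rw [he1]; exact one_mem _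
    · exact (hEA e he he1).1
  haveI hEc : IsMulCommutative E :=
    ⟨⟨fun x y => Subtype.ext (F.A_comm (hEleA x.2) (hEleA y.2))⟩⟩
  have hEnc : ¬ IsCyclic E := fun hc => by
    obtain ⟨x, hx⟩ := IsCyclic.exists_ofOrder_eq_natCard (α := E)
    have : orderOf x ∣ 2 := orderOf_dvd_of_pow_eq_one
      (Subtype.ext (by rw [SubgroupClass.coe_pow, pow_two]; exact hEsq x x.2))
    rw [hx, hE4] at this
    omega
  have hmax : ∀ R : Subgroup G, IsPGroup 2 R → E ≤ R → R ≤ h.Q r₁ → R = E := fun R hR h1 h2 =>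
    (eq_of_le_of_card_ge h1 (by rw [hE4]; exact h.card_le hr1 hr1M hR h2)).symm
  -- `E` is a Sylow subgroup of the centraliser
  obtain ⟨R, hR⟩ := (hEp.of_equiv (subgroupOfEquivOfLe hEQ).symm).exists_le_sylow
  have hRE : (R : Subgroup (h.Q r₁)).map (h.Q r₁).subtype = E := by
    refine hmax _ (R.2.map _) ?_ (map_subtype_le _)
    intro e he
    exact ⟨⟨e, hEQ he⟩, hR (show (⟨e, hEQ he⟩ : h.Q r₁) ∈ E.subgroupOf _ from he), rfl⟩
  have hinto : ∀ w ∈ h.Q r₁, orderOf w = 2 → ∃ q ∈ h.Q r₁, q * w * q⁻¹ ∈ E := by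
    intro w hwQ hw
    obtain ⟨R', hR'⟩ := ((isPGroup_zpowers (CfsgLib.Involutions.mul_self_eq_one hw)).of_equiv
      (subgroupOfEquivOfLe (zpowers_le.2 hwQ)).symm).exists_le_sylow
    obtain ⟨⟨q, hq⟩, hqR⟩ := MulAction.exists_smul_eq (h.Q r₁) R' R
    refine ⟨q, hq, ?_⟩
    rw [← hRE]
    refine ⟨⟨q, hq⟩ * ⟨w, hwQ⟩ * (⟨q, hq⟩)⁻¹, ?_, rfl⟩
    rw [← hqR]
    exact ⟨_, hR' (show (⟨w, hwQ⟩ : h.Q r₁) ∈ (zpowers w).subgroupOf _ from mem_zpowers w), rfl⟩
  obtain ⟨t₀, ht₀, ht₀A⟩ := exists_B_not_A F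
  obtain ⟨w, hwQ, hw, -, hwB⟩ := h.exists_half hr1 hr1M ht₀ (fun h1 => ht₀A (h1 ▸ one_mem _))
  obtain ⟨q₀, hq₀, hw₀E⟩ := hinto w hwQ hw
  set w₀ := q₀ * w * q₀⁻¹ with hw₀
  have hw₀1 : w₀ ≠ 1 := fun h1 => CfsgLib.Involutions.ne_one hw (conj_eq_one_iff.1 h1)
  have hw₀B : BType F (w₀ * r₁) := by
    have : w₀ * r₁ = q₀ * (w * r₁) * q₀⁻¹ := by
      calc w₀ * r₁ = q₀ * w * q₀⁻¹ * (q₀ * r₁ * q₀⁻¹) := by rw [mem_cent_conj.1 hq₀.2]
        _ = _ := by group
    rw [this]; exact hwB.conj q₀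
  -- an element of the centraliser normalising `E` centralises it
  have hauto : ∀ q ∈ h.Q r₁, (∀ e ∈ E, q * e * q⁻¹ ∈ E) → ∀ e ∈ E, q * e * q⁻¹ = e := by
    intro q hq hqE e he
    have hqN : q ∈ normalizer (E : Set G) := CfsgLib.CoprimeAction.mem_normalizer_of_conj_mem hqE
    have hfix : q * w₀ * q⁻¹ = w₀ := by
      refine h.eq_of_BType hr1 hr1M hEp hEQ (hqE _ hw₀E) hw₀E ?_ hw₀B
      have : q * w₀ * q⁻¹ * r₁ = q * (w₀ * r₁) * q⁻¹ := by
        calc q * w₀ * q⁻¹ * r₁ = q * w₀ * q⁻¹ * (q * r₁ * q⁻¹) := by rw [mem_cent_conj.1 hq.2]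
          _ = _ := by group
      rw [this]; exact hw₀B.conj q
    -- the image of `e` is `e` or `e w₀`
    have hcases : ∀ e ∈ E, e ≠ 1 → e ≠ w₀ → q * e * q⁻¹ = e ∨ q * e * q⁻¹ = e * w₀ := by
      intro e he he1 hew
      by_contra! hne
      have hinj : Function.Injective (![(1 : E), ⟨w₀, hw₀E⟩, ⟨e, he⟩,
          ⟨e * w₀, mul_mem he hw₀E⟩, ⟨q * e * q⁻¹, hqE e he⟩]) := by
        have a1 : q * e * q⁻¹ ≠ 1 := fun h1 => he1 (conj_eq_one_iff.1 h1)
        have a2 : q * e * q⁻¹ ≠ w₀ := fun h1 => hew (by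
          rw [← hfix] at h1; exact mul_left_cancel (mul_right_cancel h1))
        have a3 : e * w₀ ≠ 1 := fun h1 => hew (by
          calc e = e * (w₀ * w₀) := by rw [hEsq _ hw₀E, mul_one]
            _ = w₀ := by rw [← mul_assoc, h1, one_mul])
        have a4 : e * w₀ ≠ w₀ := fun h1 => he1 (mul_eq_right.1 h1)
        have a5 : e * w₀ ≠ e := fun h1 => hw₀1 (mul_eq_left.1 h1)
        obtain ⟨a6, a7⟩ := hne
        intro i j hij
        have hij' := congrArg Subtype.val hij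
        fin_cases i <;> fin_cases j <;>
          first
            | rfl
            | (dsimp at hij'; first | exact absurd hij' (by assumption) |
                exact absurd hij'.symm (by assumption))
      have := Nat.card_le_card_of_injective _ hinj
      rw [Nat.card_fin, hE4] at this
      omega
    by_cases he1 : e = 1
    · subst he1; group
    by_cases hew : e = w₀
    · rw [hew, hfix]
    by_contra hne
    have hswap : q * e * q⁻¹ = e * w₀ := (hcases e he he1 hew).resolve_left hne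
    have hq2 : Commute (q ^ 2) e := by
      show q ^ 2 * e = e * q ^ 2
      calc q ^ 2 * e = q * (q * e * q⁻¹) * q := by rw [pow_two]; group
        _ = q * (e * w₀) * q := by rw [hswap]
        _ = (q * e * q⁻¹) * (q * w₀ * q⁻¹) * q ^ 2 := by rw [pow_two]; group
        _ = e * w₀ * w₀ * q ^ 2 := by rw [hswap, hfix]
        _ = _ := by rw [mul_assoc e w₀ w₀, hEsq _ hw₀E, mul_one]
    obtain ⟨k, s, ⟨i, rfl⟩, ho⟩ := Nat.exists_eq_two_pow_mul_odd (orderOf_pos q).ne'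
    have hx : IsPGroup 2 (zpowers (q ^ (2 * i + 1))) :=
      IsPGroup.of_card (n := k) (by
        rw [Nat.card_zpowers, orderOf_pow_of_dvd (by omega) ⟨2 ^ k, by rw [ho]; ring⟩, ho,
          Nat.mul_div_cancel _ (by omega)])
    have hxE : E ⊔ zpowers (q ^ (2 * i + 1)) = E := by
      refine hmax _ (hEp.to_sup_of_normal_left' hx (zpowers_le.2 (pow_mem hqN _))) le_sup_left
        (sup_le hEQ (zpowers_le.2 (pow_mem hq _)))
    have hxe : Commute (q ^ (2 * i + 1)) e :=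
      F.A_comm (hEleA (hxE ▸ mem_sup_right (mem_zpowers _))) (hEleA he)
    rw [pow_succ, pow_mul] at hxe
    have hqe : Commute q e := by
      have := ((hq2.pow_left i).inv_left).mul_left hxe
      rwa [inv_mul_cancel_left] at this
    exact hne (by rw [hqe.eq, mul_inv_cancel_right])
  have hPC : normalizer ((R : Subgroup (h.Q r₁)) : Set (h.Q r₁)) ≤
      centralizer ((R : Subgroup (h.Q r₁)) : Set (h.Q r₁)) := by
    intro n hn
    refine mem_centralizer_iff.2 fun x hx => Subtype.ext ?_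
    have hnE : ∀ e ∈ E, (n : G) * e * (n : G)⁻¹ ∈ E := by
      intro e he
      rw [← hRE] at he ⊢
      obtain ⟨y, hy, rfl⟩ := he
      exact ⟨n * y * n⁻¹, (mem_normalizer_iff.1 hn y).1 hy, rfl⟩
    have := hauto n n.2 hnE x (by rw [← hRE]; exact ⟨x, hx, rfl⟩)
    rw [mul_inv_eq_iff_eq_mul] at this
    exact this.symm
  set φ := MonoidHom.transferSylow R hPC with hφ
  have hK : Odd (Nat.card φ.ker) :=
    Nat.odd_iff.2 (Nat.two_dvd_ne_zero.1 (MonoidHom.not_dvd_card_ker_transferSylow R hPC))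
  -- the stabiliser of the centre modulo `W`
  set J := normalizer (F.B : Set G) ⊓ normalizer ((F.A ⊓ F.B : Subgroup G) : Set G) with hJ
  have hJW : J ≤ normalizer (h.W : Set G) := inf_le_left.trans h.norm
  have hSJ : (F.S : Subgroup G) ≤ J := le_inf F.norm_B fun s hs =>
    CfsgLib.CoprimeAction.mem_normalizer_of_conj_mem fun z hz => by
      rwa [F.central z hz s hs, mul_inv_cancel_right]
  have hcentJ : ∀ k ∈ h.Q r₁, ∀ e ∈ E, e ≠ 1 → k * e = e * k → k ∈ h.W ⊔ J := by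
    intro k hk e he he1 hc
    obtain ⟨u, hu, n, hn, rfl⟩ := mul_of_mem_sup h.norm hk.1
    exact mul_mem (mem_sup_left hu)
      (mem_sup_right ⟨hn, h.mem_normalizer_Z (hEA e he he1).1 (hEA e he he1).2 hu hn hc⟩)
  have hK' : φ.ker.map (h.Q r₁).subtype ≤ h.W ⊔ J := by
    refine CfsgLib.CoprimeAction.le_of_centralizers hEnc ?_ ?_ ?_
    · intro e he
      refine CfsgLib.CoprimeAction.mem_normalizer_of_conj_mem ?_
      rintro _ ⟨k, hk, rfl⟩
      exact ⟨(⟨e, hEQ he⟩ : h.Q r₁) * k * (⟨e, hEQ he⟩ : h.Q r₁)⁻¹,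
        (MonoidHom.normal_ker φ).conj_mem k hk _, rfl⟩
    · rw [hE4, card_map_of_injective (h.Q r₁).subtype_injective, show (4 : ℕ) = 2 ^ 2 from rfl]
      exact Nat.Coprime.pow_left 2 (Nat.coprime_two_left.2 hK)
    · rintro e he he1 k ⟨hk, hke⟩
      exact hcentJ k (map_subtype_le _ hk) e he he1 (mem_cent.1 hke)
  have hQJ : h.Q r₁ ≤ h.W ⊔ J := by
    intro x hx
    obtain ⟨⟨⟨k, hk⟩, ⟨y, hy⟩⟩, he⟩ :=
      (MonoidHom.ker_transferSylow_isComplement' R hPC).2 ⟨x, hx⟩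
    have he' : (k : G) * (y : G) = x := congrArg Subtype.val he
    rw [← he']
    exact mul_mem (hK' ⟨k, hk, rfl⟩)
      (mem_sup_right (hSJ (show (y : G) ∈ E from hRE ▸ ⟨y, hy, rfl⟩).1))
  -- so every involution of `B` lies in the centre
  refine ht₀A ?_
  obtain ⟨w, hwQ, hw, htw, -⟩ := h.exists_half hr1 hr1M ht₀ (fun h1 => ht₀A (h1 ▸ one_mem _))
  obtain ⟨q, hq, hqE⟩ := hinto w hwQ hw
  set e := q * w * q⁻¹ with he
  have he1 : e ≠ 1 := fun h1 => CfsgLib.Involutions.ne_one hw (conj_eq_one_iff.1 h1)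
  obtain ⟨u, hu, n, hn, hqn⟩ := mul_of_mem_sup hJW (hQJ hq)
  set b := n * t₀ * n⁻¹ with hb
  have hbB : b ∈ F.B := (mem_normalizer_iff.1 hn.1 t₀).1 ht₀
  have hbC : u * b * u⁻¹ * e = e * (u * b * u⁻¹) := by
    calc u * b * u⁻¹ * e = q * (t₀ * w) * q⁻¹ := by rw [he, hb, hqn]; group
      _ = q * (w * t₀) * q⁻¹ := by rw [htw]
      _ = _ := by rw [he, hb, hqn]; group
  obtain ⟨hea, heb⟩ := hEA e hqE he1
  have heW : e ∈ normalizer (h.W : Set G) := h.norm (F.norm_B (F.A_le hea))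
  have hbW : b ∈ normalizer (h.W : Set G) := h.norm (le_normalizer hbB)
  set d := u * b * u⁻¹ * b⁻¹ with hd
  have hdW : d ∈ h.W := by
    rw [hd, show u * b * u⁻¹ * b⁻¹ = u * (b * u⁻¹ * b⁻¹) by group]
    exact mul_mem hu ((mem_normalizer_iff.1 hbW _).1 (inv_mem hu))
  have hdb : d * b = u * b * u⁻¹ := by rw [hd]; group
  have hcW : e * b * e⁻¹ * b⁻¹ ∈ h.W := by
    have he2 : e * b * e⁻¹ * b⁻¹ = (e * d * e⁻¹)⁻¹ * d := by
      calc e * b * e⁻¹ * b⁻¹ = (e * d * e⁻¹)⁻¹ * (e * (d * b)) * e⁻¹ * b⁻¹ := by group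
        _ = (e * d * e⁻¹)⁻¹ * (d * b * e) * e⁻¹ * b⁻¹ := by rw [hdb, hbC]
        _ = _ := by group
    rw [he2]; exact mul_mem (inv_mem ((mem_normalizer_iff.1 heW d).1 hdW)) hdW
  have hcB : e * b * e⁻¹ * b⁻¹ ∈ F.B :=
    mul_mem ((mem_normalizer_iff.1 (F.norm_B (F.A_le hea)) b).1 hbB) (inv_mem hbB)
  have h1 := h.eq_one_of_B hcB hcW
  rw [mul_inv_eq_one, mul_inv_eq_iff_eq_mul] at h1
  exact ((mem_normalizer_iff.1 hn.2 t₀).2 ⟨F.cent_A e hea heb b (F.B_le hbB) h1.symm, hbB⟩).1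

theorem mem_M_of_AType (hr : AType F r) : r ∈ h.M := by
  by_contra hrM
  obtain ⟨r', hr', hr'M, P, hP, hPQ, hP4⟩ := h.exists_big hr hrM
  exact h.false_of_big hr' hr'M hP hPQ hP4

include h in
theorem B_normal (hO : oddCore G = ⊥) : F.B.Normal := by
  obtain ⟨a, ha, haB⟩ := exists_A_not_B F
  obtain ⟨z, hz, hz1⟩ : ∃ z ∈ F.A ⊓ F.B, z ≠ 1 := by
    refine (bot_or_exists_ne_one _).resolve_left ?_
    intro hbot
    have := F.card_Z
    rw [hbot, Subgroup.card_bot] at this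
    omega
  have htop : h.M = ⊤ := by
    refine eq_top_iff.2 fun g _ => h.mem_M_of_conj hz.2 hz1 ?_
    have h1 : AType F (g * a * g⁻¹) := ⟨a, ha, haB, isConj_iff.2 ⟨g, rfl⟩⟩
    have h2 : AType F (g * (a * z) * g⁻¹) :=
      ⟨a * z, mul_mem ha hz.1, fun hh => haB ((F.B.mul_mem_cancel_right hz.2).1 hh),
        isConj_iff.2 ⟨g, rfl⟩⟩
    have := mul_mem (h.mem_M_of_AType h1) (h.mem_M_of_AType h2)
    convert this using 1
    calc g * z * g⁻¹ = g * (a * a * z) * g⁻¹ := by rw [F.A_sq ha, one_mul]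
      _ = _ := by group
  haveI : h.W.Normal := normalizer_eq_top_iff.1 (eq_top_iff.2 (htop ▸ h.M_le_normalizer))
  have hW : h.W = ⊥ := eq_bot_iff.2 (hO ▸ CfsgLib.Cores.le_oddCore h.odd)
  refine normalizer_eq_top_iff.1 ?_
  have := htop
  rwa [M, hW, bot_sup_eq] at this

end Hull

end SmallNormal

/-- With `A \ B` closed under fusion, `B` strongly closed with controlled centralisers and trivial
odd core, `B` is normal. -/
theorem Frame.normal_of_small (hO : oddCore G = ⊥)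
    (hcl : ∀ a ∈ F.A, a ∉ F.B → ∀ g, g * a * g⁻¹ ∈ (F.S : Subgroup G) →
      g * a * g⁻¹ ∈ F.A ∧ g * a * g⁻¹ ∉ F.B)
    (hsc : IsStronglyClosed F.B (F.S : Subgroup G))
    (hlocB : ∀ b ∈ F.B, b ≠ 1 → Loc (normalizer (F.B : Set G)) b) : F.B.Normal := by
  obtain ⟨h⟩ := SmallNormal.exists_hull F hcl hsc hlocB
  exact h.B_normal hO

end CfsgLib.LinearThreeFourType
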